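import Cfsg.Prelude.Def_Transfer
import Cfsg.Agent.S3280
import Cfsg.Agent.Lib.Classical.Order
import Mathlib

/-!
# Groups with a self-centralising four-group, and their extensions by a central factor
-/

set_option autoImplicit false
set_option linter.unusedSectionVars false

namespace CfsgLib.L34Cent

universe u

open Subgroup
open scoped Pointwise

/-- An odd order normal subgroup on which two commuting involutions and their product act without
fixed points is trivial. -/
theorem eq_bot_of_three_fpf {K : Type u} [Group K] [Finite K] (M : Subgroup K) [hM : M.Normal]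
    (hodd : Odd (Nat.card M)) (a b : K) (ha : a * a = 1) (hb : b * b = 1)
    (fa : ∀ m ∈ M, a * m = m * a → m = 1) (fb : ∀ m ∈ M, b * m = m * b → m = 1)
    (fab : ∀ m ∈ M, (a * b) * m = m * (a * b) → m = 1) : M = ⊥ := by
  have key : ∀ v : K, v * v = 1 → (∀ m ∈ M, v * m = m * v → m = 1) →
      ∀ m ∈ M, v * m * v⁻¹ = m⁻¹ := by
    intro v hv fv m hm
    have hfp : MonoidHom.FixedPointFree (MulAut.conjNormal v : MulAut M) := by
      intro x hx
      refine Subtype.ext (fv x x.2 ?_)
      have h := congrArg (Subtype.val : M → K) hx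
      rw [MulAut.conjNormal_apply] at h
      exact mul_inv_eq_iff_eq_mul.1 h
    have hinv : Function.Involutive (MulAut.conjNormal v : MulAut M) := fun x => by
      refine Subtype.ext ?_
      rw [MulAut.conjNormal_apply, MulAut.conjNormal_apply, inv_eq_of_mul_eq_one_right hv]
      calc v * (v * (x : K) * v) * v = (v * v) * (x : K) * (v * v) := by group
        _ = x := by rw [hv, one_mul, mul_one]
    have h := congrArg (Subtype.val : M → K)
      (congrFun (hfp.coe_eq_inv_of_involutive hinv) ⟨m, hm⟩)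
    rw [MulAut.conjNormal_apply] at h
    simpa using h
  rw [eq_bot_iff]
  intro m hm
  refine mem_bot.2 (fab m hm ?_)
  have h1 := key b hb fb m hm
  have h2 := key a ha fa _ (inv_mem hm)
  rw [inv_inv] at h2
  calc a * b * m = a * (b * m * b⁻¹) * a⁻¹ * (a * b) := by group
    _ = a * m⁻¹ * a⁻¹ * (a * b) := by rw [h1]
    _ = m * (a * b) := by rw [h2]

section Klein

variable {K : Type u} [Group K] [Finite K] (V : Subgroup K) [IsKleinFour V]

theorem klein_sq {v : K} (hv : v ∈ V) : v * v = 1 :=
  congrArg Subtype.val (IsKleinFour.mul_self (G := V) ⟨v, hv⟩)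

theorem klein_comm {v w : K} (hv : v ∈ V) (hw : w ∈ V) : v * w = w * v :=
  congrArg Subtype.val
    ((IsKleinFour.isMulCommutative (G := V)).is_comm.comm ⟨v, hv⟩ ⟨w, hw⟩)

theorem klein_card : Nat.card V = 4 := IsKleinFour.card_four

theorem klein_exists : ∃ a ∈ V, ∃ b ∈ V, a ≠ 1 ∧ b ≠ 1 ∧ a * b ≠ 1 := by
  classical
  haveI : Nontrivial V := by
    rw [← Finite.one_lt_card_iff_nontrivial, klein_card]; norm_num
  obtain ⟨a, ha⟩ := exists_ne (1 : V)
  obtain ⟨b, hb1, hba⟩ : ∃ b : V, b ≠ 1 ∧ b ≠ a := by
    by_contra h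
    push Not at h
    have : Nat.card V ≤ 2 := by
      refine (Nat.card_le_card_of_surjective (fun i : Fin 2 => if i = 0 then (1 : V) else a)
        fun b => ?_).trans (by simp)
      by_cases hb : b = 1
      · exact ⟨0, by simp [hb]⟩
      · exact ⟨1, by simp [h b hb]⟩
    rw [klein_card] at this
    omega
  refine ⟨a, a.2, b, b.2, fun e => ha (Subtype.ext e), fun e => hb1 (Subtype.ext e), fun e => hba ?_⟩
  refine Subtype.ext ?_
  have := klein_sq V a.2
  exact (mul_left_cancel (e.trans this.symm))

theorem klein_three {v w : K} (f : Fin 3 → K) (hf : Function.Injective f)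
    (hmem : ∀ i, f i ∈ V ∧ f i ≠ 1) (hw : w ∈ V) (hw1 : w ≠ 1) (hv : v = f 0) :
    ∃ i, f i = w := by
  classical
  haveI := Fintype.ofFinite V
  let g : Option (Fin 3) → V := fun o => o.elim 1 fun i => ⟨f i, (hmem i).1⟩
  have hg : Function.Injective g := by
    rintro (_ | i) (_ | j) h
    · rfl
    · exact absurd (congrArg Subtype.val h).symm (hmem j).2
    · exact absurd (congrArg Subtype.val h) (hmem i).2
    · exact congrArg some (hf (congrArg Subtype.val h))
  obtain ⟨o, ho⟩ := ((Fintype.bijective_iff_injective_and_card g).2 ⟨hg, by simp⟩).2 ⟨w, hw⟩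
  rcases o with _ | i
  · exact absurd (congrArg Subtype.val ho).symm hw1
  · exact ⟨i, congrArg Subtype.val ho⟩

variable (hC : ∀ v ∈ V, v ≠ 1 → Subgroup.centralizer {v} = V)
include hC

theorem mem_of_comm {v g : K} (hv : v ∈ V) (hv1 : v ≠ 1) (h : g * v = v * g) : g ∈ V :=
  (hC v hv hv1) ▸ mem_centralizer_singleton_iff.2 h

theorem odd_normal_eq_bot (M : Subgroup K) [M.Normal] (hodd : Odd (Nat.card M)) : M = ⊥ := by
  obtain ⟨a, ha, b, hb, ha1, hb1, hab⟩ := klein_exists V
  have key : ∀ v ∈ V, v ≠ 1 → ∀ m ∈ M, v * m = m * v → m = 1 := by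
    intro v hv hv1 m hm h
    have hmV := mem_of_comm V hC hv hv1 h.symm
    have h2 : orderOf m ∣ 2 := orderOf_dvd_of_pow_eq_one (by rw [pow_two, klein_sq V hmV])
    have h3 : Odd (orderOf m) := by
      refine hodd.of_dvd_nat ?_
      rw [← Subgroup.orderOf_mk m hm]
      exact orderOf_dvd_natCard _
    rcases (Nat.dvd_prime Nat.prime_two).1 h2 with e | e
    · exact orderOf_eq_one_iff.1 e
    · rw [e] at h3; exact absurd h3 (by decide)
  exact eq_bot_of_three_fpf M hodd a b (klein_sq V ha) (klein_sq V hb) (key a ha ha1)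
    (key b hb hb1) (key _ (mul_mem ha hb) hab)

theorem le_sylow_eq (P : Sylow 2 K) (hP : V ≤ P) : V = P := by
  refine le_antisymm hP fun g hg => ?_
  obtain ⟨a, ha, -, -, ha1, -, -⟩ := klein_exists V
  haveI : Nontrivial (P : Subgroup K) :=
    ⟨⟨⟨a, hP ha⟩, 1, fun e => ha1 (congrArg Subtype.val e)⟩⟩
  haveI := P.2.center_nontrivial
  obtain ⟨⟨z, hz⟩, hz1⟩ := exists_ne (1 : center (P : Subgroup K))
  have hcom : ∀ x : K, ∀ hx : x ∈ P, x * z.1 = z.1 * x := fun x hx =>
    congrArg Subtype.val (mem_center_iff.1 hz ⟨x, hx⟩)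
  have hzV : z.1 ∈ V := mem_of_comm V hC ha ha1 (hcom a (hP ha)).symm
  exact mem_of_comm V hC hzV (fun e => hz1 (Subtype.ext (Subtype.ext e))) (hcom g hg)

theorem conj_mem {x : K} (hx : orderOf x = 2) : ∃ g : K, g * x * g⁻¹ ∈ V := by
  have hpV : IsPGroup 2 V := IsPGroup.of_card (n := 2) (by rw [klein_card]; norm_num)
  obtain ⟨P, hP⟩ := hpV.exists_le_sylow
  obtain rfl : V = P := le_sylow_eq V hC P hP
  have hpx : IsPGroup 2 (zpowers x) := IsPGroup.of_card (n := 1) (by rw [Nat.card_zpowers, hx, pow_one])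
  obtain ⟨Q, hQ⟩ := hpx.exists_le_sylow
  obtain ⟨g, hg⟩ := MulAction.exists_smul_eq K Q P
  refine ⟨g, ?_⟩
  rw [← hg]
  exact smul_mem_pointwise_smul (x : K) (MulAut.conj g) _ (hQ (mem_zpowers x))

theorem normalizer_cases :
    (Nat.card (normalizer (V : Set K)) = 4 ∧ normalizer (V : Set K) ≤ centralizer (V : Set K)) ∨
    (Nat.card (normalizer (V : Set K)) = 12 ∧
      ∀ v ∈ V, v ≠ 1 → ∀ w ∈ V, w ≠ 1 → IsConj v w) := by
  classical
  set N := normalizer (V : Set K)
  have hVN : V ≤ N := le_normalizer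
  have hker : (normalizerMonoidHom V).ker = V.subgroupOf N := by
    rw [normalizerMonoidHom_ker]
    refine le_antisymm (fun g hg => ?_) (fun g hg => ?_)
    · obtain ⟨a, ha, -, -, ha1, -, -⟩ := klein_exists V
      exact mem_of_comm V hC ha ha1 (mem_centralizer_iff.1 hg a ha).symm
    · exact mem_centralizer_iff.2 fun w hw => klein_comm V hw hg
  have h6 : Nat.card (normalizerMonoidHom V).range ∣ 6 := by
    let X := {x : V // x ≠ 1}
    let f : MulAut V →* Equiv.Perm X :=
      { toFun := fun e => (e.toEquiv.subtypeEquiv fun x =>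
          not_congr (by rw [MulEquiv.toEquiv_eq_coe, MulEquiv.coe_toEquiv, map_eq_one_iff e e.injective]))
        map_one' := by ext x; rfl
        map_mul' := fun a b => by ext x; rfl }
    have hf : Function.Injective f := by
      intro a b h
      refine MulEquiv.ext fun x => ?_
      by_cases hx : x = 1
      · rw [hx, map_one, map_one]
      · exact congrArg Subtype.val (Equiv.congr_fun h ⟨x, hx⟩)
    refine (card_subgroup_dvd_card _).trans ((Subgroup.card_dvd_of_injective f hf).trans ?_)
    haveI := Fintype.ofFinite V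
    rw [Nat.card_perm, Nat.card_eq_fintype_card (α := X), Fintype.card_subtype_compl,
      Fintype.card_subtype_eq, ← Nat.card_eq_fintype_card, klein_card]
    rfl
  have hodd : ¬ 2 ∣ (V.subgroupOf N).index := by
    have hpV : IsPGroup 2 V := IsPGroup.of_card (n := 2) (by rw [klein_card]; norm_num)
    obtain ⟨P, hP⟩ := hpV.exists_le_sylow
    obtain hVP : V = P := le_sylow_eq V hC P hP
    intro h
    refine P.not_dvd_index (h.trans ?_)
    rw [← hVP]
    exact relIndex_dvd_index_of_le hVN
  have hj : (V.subgroupOf N).index = Nat.card (normalizerMonoidHom V).range := by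
    rw [← hker, index_ker]
  have hcard : Nat.card N = 4 * (V.subgroupOf N).index := by
    rw [← card_mul_index (V.subgroupOf N), Nat.card_congr (subgroupOfEquivOfLe hVN).toEquiv,
      klein_card]
  rw [← hj] at h6
  obtain h | h : (V.subgroupOf N).index = 1 ∨ (V.subgroupOf N).index = 3 := by
    have : (V.subgroupOf N).index ∈ Nat.divisors 6 := Nat.mem_divisors.2 ⟨h6, by norm_num⟩
    rw [show Nat.divisors 6 = {1, 2, 3, 6} from rfl] at this
    simp only [Finset.mem_insert, Finset.mem_singleton] at this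
    omega
  · refine Or.inl ⟨by rw [hcard, h], fun g hg => ?_⟩
    have hgV : g ∈ V := by
      have := index_eq_one.1 h
      exact (this ▸ mem_top (⟨g, hg⟩ : N) : (⟨g, hg⟩ : N) ∈ V.subgroupOf N)
    exact mem_centralizer_iff.2 fun w hw => klein_comm V hw hgV
  · refine Or.inr ⟨by rw [hcard, h], fun v hv hv1 w hw hw1 => ?_⟩
    haveI := Fact.mk Nat.prime_three
    obtain ⟨⟨g, hgN⟩, hg⟩ := exists_prime_orderOf_dvd_card' (G := N) 3 (by rw [hcard, h]; norm_num)
    rw [Subgroup.orderOf_mk] at hg
    have hgV : ∀ i : ℕ, g ^ i ∈ V → 3 ∣ i := by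
      intro i hi
      have h2 : g ^ (2 * i) = 1 := by rw [two_mul, pow_add, klein_sq V hi]
      have := orderOf_dvd_of_pow_eq_one h2
      rw [hg] at this
      omega
    let f : Fin 3 → K := fun i => g ^ (i : ℕ) * v * (g ^ (i : ℕ))⁻¹
    have hconj : ∀ i : ℕ, g ^ i * v * (g ^ i)⁻¹ ∈ V := fun i =>
      ((mem_normalizer_iff.1 (pow_mem hgN i)) v).1 hv
    have hf : Function.Injective f := by
      intro i j hij
      simp only [f] at hij
      have aux : ∀ i j : ℕ, i ≤ j → g ^ i * v * (g ^ i)⁻¹ = g ^ j * v * (g ^ j)⁻¹ → 3 ∣ (j - i) := by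
        intro i j hle e
        refine hgV _ (mem_of_comm V hC hv hv1 ?_)
        obtain ⟨d, rfl⟩ := Nat.exists_eq_add_of_le hle
        rw [Nat.add_sub_cancel_left]
        rw [pow_add, mul_inv_rev] at e
        have e' : v = g ^ d * v * (g ^ d)⁻¹ := by
          have := congrArg (fun t => (g ^ i)⁻¹ * t * g ^ i) e
          simpa [mul_assoc] using this
        exact (mul_inv_eq_iff_eq_mul.1 e'.symm)
      have := i.2
      have := j.2
      rcases le_total (i : ℕ) j with hle | hle
      · have := aux i j hle hij; exact Fin.ext (by omega)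
      · have := aux j i hle hij.symm; exact Fin.ext (by omega)
    obtain ⟨i, hi⟩ := klein_three V (v := v) (w := w) f hf
      (fun i => ⟨hconj i, fun e => hv1 (by simpa [f] using e)⟩) hw hw1 (by simp [f])
    exact isConj_iff.2 ⟨g ^ (i : ℕ), hi⟩

end Klein

private theorem card_cases_aux : ∀ (n : ℕ) {K : Type u} [Group K] [Finite K] (V : Subgroup K)
    [IsKleinFour V], Nat.card K = n → (∀ v ∈ V, v ≠ 1 → Subgroup.centralizer {v} = V) →
    Nat.card K = 4 ∨ (Nat.card K = 12 ∧ V.Normal) ∨ (Nat.card K = 60 ∧ IsSimpleGroup K) := by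
  intro n
  induction n using Nat.strong_induction_on with
  | _ n ih =>
    intro K _ _ V _ hn hC
    have hpV : IsPGroup 2 V := IsPGroup.of_card (n := 2) (by rw [klein_card]; norm_num)
    obtain ⟨P, hP⟩ := hpV.exists_le_sylow
    obtain hVP : V = P := le_sylow_eq V hC P hP
    rcases normalizer_cases V hC with ⟨-, hNC⟩ | ⟨hN, hconj⟩
    · left
      have hNC' : normalizer ((P : Subgroup K) : Set K) ≤ centralizer ((P : Subgroup K) : Set K) := by
        rw [← hVP]; exact hNC
      haveI : FiniteIndex (P : Subgroup K) := inferInstance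
      have hcompl := MonoidHom.ker_transferSylow_isComplement' P hNC'
      have hM : (MonoidHom.transferSylow P hNC').ker = ⊥ := by
        refine odd_normal_eq_bot V hC _ (Nat.not_even_iff_odd.1 fun h => ?_)
        exact MonoidHom.not_dvd_card_ker_transferSylow P hNC' h.two_dvd
      have h1 := hcompl.card_mul_card
      rw [hM, Subgroup.card_bot, one_mul, ← hVP, klein_card] at h1
      exact h1.symm
    by_cases hns : ∃ N : Subgroup K, N.Normal ∧ N ≠ ⊥ ∧ N ≠ ⊤
    · obtain ⟨N, hNn, hN0, hN1⟩ := hns
      have heven : 2 ∣ Nat.card N := by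
        by_contra h
        exact hN0 (odd_normal_eq_bot V hC N (Nat.not_even_iff_odd.1 fun h' => h h'.two_dvd))
      obtain ⟨⟨x, hxN⟩, hx⟩ := exists_prime_orderOf_dvd_card' (G := N) 2 heven
      rw [Subgroup.orderOf_mk] at hx
      obtain ⟨g, hg⟩ := conj_mem V hC hx
      have hy : g * x * g⁻¹ ∈ N := hNn.conj_mem x hxN g
      have hy1 : g * x * g⁻¹ ≠ 1 := fun e => by
        rw [conj_eq_one_iff] at e
        rw [e, orderOf_one] at hx
        norm_num at hx
      have hVN : V ≤ N := fun w hw => by
        by_cases hw1 : w = 1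
        · rw [hw1]; exact one_mem N
        obtain ⟨c, hc⟩ := isConj_iff.1 (hconj _ hg hy1 w hw hw1)
        exact hc ▸ hNn.conj_mem _ hy c
      haveI : IsKleinFour (V.subgroupOf N) :=
        ⟨by rw [Nat.card_congr (subgroupOfEquivOfLe hVN).toEquiv, klein_card],
          by rw [Monoid.exponent_eq_of_mulEquiv (subgroupOfEquivOfLe hVN), IsKleinFour.exponent_two]⟩
      have hCN : ∀ v ∈ V.subgroupOf N, v ≠ 1 → centralizer {v} = V.subgroupOf N := by
        intro v hv hv1
        refine le_antisymm (fun y hy => mem_of_comm V hC hv (fun e => hv1 (Subtype.ext e)) ?_)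
          (fun y hy => mem_centralizer_singleton_iff.2 (Subtype.ext ?_))
        · exact congrArg Subtype.val (mem_centralizer_singleton_iff.1 hy)
        · exact klein_comm V hy hv
      have hlt : Nat.card N < n := hn ▸ lt_of_le_of_ne (card_le_card_group N)
        (fun e => hN1 (eq_top_of_card_eq N e))
      have key : ∀ g : K, (∀ w ∈ V, g * w * g⁻¹ ∈ V) → g ∈ normalizer (V : Set K) := fun g hg =>
        mem_normalizer_iff.2 fun w => ⟨hg w, fun h => by
          haveI : Finite V := inferInstance
          let f : V → V := fun t => ⟨g * t * g⁻¹, hg t t.2⟩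
          have hinj : Function.Injective f := fun a b e => Subtype.ext
            (mul_left_cancel (mul_right_cancel (show g * (a : K) * g⁻¹ = g * b * g⁻¹ from congrArg Subtype.val e)))
          obtain ⟨⟨t, ht⟩, e⟩ := Finite.surjective_of_injective hinj ⟨g * w * g⁻¹, h⟩
          exact mul_left_cancel (mul_right_cancel (congrArg Subtype.val e)) ▸ ht⟩
      have htop : normalizer (V : Set K) = ⊤ → Nat.card K = 4 ∨ (Nat.card K = 12 ∧ V.Normal) ∨
          (Nat.card K = 60 ∧ IsSimpleGroup K) := fun h => by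
        refine Or.inr (Or.inl ⟨?_, normalizer_eq_top_iff.1 h⟩)
        rw [← card_top (G := K), ← h, hN]
      rcases ih _ hlt (V.subgroupOf N) rfl hCN with h4 | ⟨h12, hVn⟩ | ⟨h60, hs⟩
      · have e : V = N := eq_of_le_of_card_ge hVN (by rw [h4, klein_card])
        exact htop (normalizer_eq_top_iff.2 (e ▸ hNn))
      · refine htop (eq_top_iff.2 fun g _ => key g fun w hw => ?_)
        have hm : g * w * g⁻¹ ∈ N := hNn.conj_mem w (hVN hw) g
        have hpN : IsPGroup 2 (V.subgroupOf N) :=
          IsPGroup.of_card (n := 2) (by rw [IsKleinFour.card_four]; norm_num)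
        obtain ⟨Q, hQ⟩ := hpN.exists_le_sylow
        have hQe : V.subgroupOf N = Q := le_sylow_eq _ hCN Q hQ
        by_cases hw1 : w = 1
        · subst hw1; simp
        have ho : orderOf (⟨g * w * g⁻¹, hm⟩ : N) = 2 := by
          rw [Subgroup.orderOf_mk]
          refine orderOf_eq_prime ?_ (by simpa using hw1)
          rw [conj_pow, pow_two, klein_sq V hw]; group
        obtain ⟨c, hc⟩ := conj_mem _ hCN ho
        have := hVn.conj_mem _ hc c⁻¹
        simp only [inv_inv] at this
        simpa [mem_subgroupOf, mul_assoc] using this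
      · exfalso
        refine hN1 (eq_top_iff.2 ?_)
        have hmeet : normalizer ((V.subgroupOf N : Subgroup N) : Set N) =
            (normalizer (V : Set K)).subgroupOf N := (subgroupOf_normalizer_eq hVN).symm
        rcases normalizer_cases (V.subgroupOf N) hCN with ⟨-, hNC⟩ | ⟨hN12, -⟩
        · obtain ⟨Q, hQ⟩ := (IsPGroup.of_card (n := 2) (by rw [IsKleinFour.card_four]; norm_num) :
            IsPGroup 2 (V.subgroupOf N)).exists_le_sylow
          have hQe : V.subgroupOf N = Q := le_sylow_eq _ hCN Q hQ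
          have hNC' : normalizer ((Q : Subgroup N) : Set N) ≤ centralizer ((Q : Subgroup N) : Set N) := by
            rw [← hQe]; exact hNC
          have hcompl := MonoidHom.ker_transferSylow_isComplement' Q hNC'
          have h1 := hcompl.card_mul_card
          have hQ4 : Nat.card (Q : Subgroup N) = 4 := by rw [← hQe]; exact IsKleinFour.card_four
          rw [hQ4, h60] at h1
          rcases hs.eq_bot_or_eq_top_of_normal _
              (MonoidHom.normal_ker (MonoidHom.transferSylow Q hNC')) with e | e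
          · rw [e, card_bot] at h1; omega
          · rw [e, card_top, h60] at h1; omega
        · have hle : normalizer (V : Set K) ≤ N := by
            rw [hmeet] at hN12
            have : Nat.card ((normalizer (V : Set K)).subgroupOf N) =
                Nat.card (normalizer (V : Set K) ⊓ N : Subgroup K) :=
              Nat.card_congr ((subgroupOfEquivOfLe inf_le_right).toEquiv.symm.trans
                (MulEquiv.subgroupCongr (by rw [inf_subgroupOf_right])).toEquiv).symm
            rw [this] at hN12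
            exact inf_eq_left.1 (eq_of_le_of_card_ge inf_le_left (by rw [hN12, hN]))
          intro g _
          obtain ⟨R, hR⟩ : ∃ R : Sylow 2 N, (R : Subgroup N) = V.subgroupOf N := by
            obtain ⟨Q, hQ⟩ := (IsPGroup.of_card (n := 2) (by rw [IsKleinFour.card_four]; norm_num) :
              IsPGroup 2 (V.subgroupOf N)).exists_le_sylow
            exact ⟨Q, (le_sylow_eq _ hCN Q hQ).symm⟩
          have hmap : (R : Subgroup N).map N.subtype = V := by
            rw [hR, subgroupOf_map_subtype, inf_eq_left.2 hVN]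
          have hsup := Sylow.normalizer_sup_eq_top (N := N) R
          rw [hmap] at hsup
          exact (le_antisymm (sup_le hle le_rfl) le_sup_right : normalizer (V : Set K) ⊔ N = N) ▸
            hsup ▸ mem_top g
    · right; right
      push Not at hns
      have hnt : Nontrivial K := by
        rw [← Finite.one_lt_card_iff_nontrivial]
        have := card_le_card_group V
        rw [klein_card] at this; omega
      haveI hs : IsSimpleGroup K :=
        { eq_bot_or_eq_top_of_normal := fun N hN => by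
            by_cases h : N = ⊥
            · exact Or.inl h
            · exact Or.inr (hns N hN h) }
      refine ⟨?_, hs⟩
      obtain ⟨a, ha, -, -, ha1, -, -⟩ := klein_exists V
      have hnc : ¬ IsCyclic K := fun hc => by
        letI : CommGroup K := hc.commGroup
        have : V = ⊤ := eq_top_iff.2 fun g _ => mem_of_comm V hC ha ha1 (mul_comm _ _)
        have h4 := klein_card V
        rw [this, card_top] at h4
        have := card_le_card_group (normalizer (V : Set K))
        rw [hN, h4] at this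
        omega
      have hw : Nat.card (centralizer ({a} : Set K)) ≤ 4 := by rw [hC a ha ha1, klein_card]
      have hidx : Nat.card K = 4 * V.index := by rw [← card_mul_index V, klein_card]
      have h8 : ¬ 8 ∣ Nat.card K := fun h => by
        rw [hidx] at h
        refine P.not_dvd_index ?_
        rw [← hVP]
        omega
      rcases Cfsg.Agent.S3280.result hnc a hw with ⟨⟨e⟩⟩ | ⟨⟨e⟩⟩ | ⟨⟨e⟩⟩ | ⟨F, _, _, hF, ⟨e⟩⟩
      · rw [Nat.card_congr e.toEquiv, nat_card_alternatingGroup, Nat.card_fin]; rfl
      · rw [Nat.card_congr e.toEquiv, nat_card_alternatingGroup, Nat.card_fin] at h8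
        exact absurd (by decide) h8
      · rw [Nat.card_congr e.toEquiv, nat_card_alternatingGroup, Nat.card_fin] at h8
        exact absurd (by decide) h8
      · rw [Nat.card_congr e.toEquiv, CfsgLib.Classical.card_PSL_two, Nat.card_eq_fintype_card (α := F),
          hF] at h8
        exact absurd (by decide) h8

/-- A finite group with a four-group which is the centraliser of each of its involutions. -/
theorem card_cases {K : Type u} [Group K] [Finite K] (V : Subgroup K) [IsKleinFour V]
    (hC : ∀ v ∈ V, v ≠ 1 → Subgroup.centralizer {v} = V) :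
    Nat.card K = 4 ∨ (Nat.card K = 12 ∧ V.Normal) ∨ (Nat.card K = 60 ∧ IsSimpleGroup K) :=
  card_cases_aux _ V rfl hC

/-- The factor `W` centralises a complement isomorphic to the alternating group of degree five. -/
theorem central_factor {C : Type u} [Group C] [Finite C] (V W K : Subgroup C) [IsKleinFour V]
    [hKn : K.Normal] (h60 : Nat.card K = 60) (hs : IsSimpleGroup K) (hVK : V ≤ K)
    (hsq : ∀ y ∈ W, y * y = 1) (hcomm : ∀ a ∈ V ⊔ W, ∀ b ∈ V ⊔ W, a * b = b * a) (hWA : W ≤ V ⊔ W) (hKsup : K ⊔ W = ⊤)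
    (hnorm : ∀ g : C, (∀ v ∈ V, g * v * g⁻¹ ∈ V) → ∀ x ∈ W, g * x = x * g)
    (hCK : ∀ v ∈ V.subgroupOf K, v ≠ 1 → centralizer {v} = V.subgroupOf K) :
    ∀ x ∈ W, x ∈ Subgroup.center C := by
  classical
  haveI : IsKleinFour (V.subgroupOf K) :=
    ⟨by rw [Nat.card_congr (subgroupOfEquivOfLe hVK).toEquiv, klein_card],
      by rw [Monoid.exponent_eq_of_mulEquiv (subgroupOfEquivOfLe hVK), IsKleinFour.exponent_two]⟩
  intro x hx
  set V' := V.subgroupOf K with hV'
  set H := normalizer (V' : Set K) with hH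
  have hH12 : Nat.card H = 12 := by
    rcases normalizer_cases V' hCK with ⟨-, hNC⟩ | ⟨h, -⟩
    · exfalso
      obtain ⟨Q, hQ⟩ := (IsPGroup.of_card (n := 2) (by rw [IsKleinFour.card_four]; norm_num) :
        IsPGroup 2 V').exists_le_sylow
      have hQe : V' = Q := le_sylow_eq _ hCK Q hQ
      have hNC' : normalizer ((Q : Subgroup K) : Set K) ≤ centralizer ((Q : Subgroup K) : Set K) := by
        rw [← hQe]; exact hNC
      have h1 := (MonoidHom.ker_transferSylow_isComplement' Q hNC').card_mul_card
      have hQ4 : Nat.card (Q : Subgroup K) = 4 := by rw [← hQe]; exact IsKleinFour.card_four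
      rw [hQ4, h60] at h1
      rcases hs.eq_bot_or_eq_top_of_normal _
          (MonoidHom.normal_ker (MonoidHom.transferSylow Q hNC')) with e | e
      · rw [e, card_bot] at h1; omega
      · rw [e, card_top, h60] at h1; omega
    · exact h
  let S : Subgroup K := (centralizer ({x} : Set C)).subgroupOf K
  have hmemS : ∀ k : K, k ∈ S ↔ (k : C) * x = x * k := fun k => by
    rw [mem_subgroupOf, mem_centralizer_singleton_iff]
  have hHS : H ≤ S := fun k hk => (hmemS k).2 (hnorm k (fun v hv => by
    have h := (mem_normalizer_iff.1 hk ⟨v, hVK hv⟩).1 (mem_subgroupOf.2 hv)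
    rw [mem_subgroupOf] at h
    exact h) x hx)
  haveI := Fact.mk Nat.prime_three
  haveI := Fact.mk Nat.prime_two
  obtain ⟨⟨h, hh⟩, hord⟩ := exists_prime_orderOf_dvd_card' (G := H) 3 (by rw [hH12]; norm_num)
  rw [Subgroup.orderOf_mk] at hord
  obtain ⟨T, hT⟩ := (IsPGroup.of_card (n := 1) (by rw [Nat.card_zpowers, hord, pow_one]) :
    IsPGroup 3 (zpowers h)).exists_le_sylow
  have hT3 : Nat.card (T : Subgroup K) = 3 := by
    rw [T.card_eq_multiplicity, h60]
    norm_num [Nat.factorization_def]
    rw [show (60 : ℕ) = 3 * 20 from rfl, padicValNat.mul (by norm_num) (by norm_num),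
      padicValNat.self (by norm_num), padicValNat.eq_zero_of_not_dvd (by norm_num)]
    norm_num
  have hTe : (T : Subgroup K) = zpowers h :=
    (eq_of_le_of_card_ge hT (by rw [hT3, Nat.card_zpowers, hord])).symm
  have hN6 : Nat.card (normalizer ((T : Subgroup K) : Set K)) = 6 := by
    have h1 : Nat.card (Sylow 3 K) ∣ 20 := by
      have := T.card_dvd_index
      have hi : (T : Subgroup K).index = 20 := by
        have := (T : Subgroup K).card_mul_index
        rw [hT3, h60] at this; omega
      rwa [hi] at this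
    have h2 := card_sylow_modEq_one 3 K
    have hne1 : Nat.card (Sylow 3 K) ≠ 1 := fun e => by
      haveI := (Nat.card_eq_one_iff_unique.1 e).1
      rcases hs.eq_bot_or_eq_top_of_normal _ (T.normal_of_subsingleton) with e | e
      · rw [e, card_bot] at hT3; omega
      · rw [e, card_top, h60] at hT3; omega
    have hne4 : Nat.card (Sylow 3 K) ≠ 4 := fun e => by
      haveI : Fintype (Sylow 3 K) := Fintype.ofFinite _
      let φ := MulAction.toPermHom K (Sylow 3 K)
      rcases hs.eq_bot_or_eq_top_of_normal _ (MonoidHom.normal_ker φ) with e' | e'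
      · have := Subgroup.card_dvd_of_injective φ ((MonoidHom.ker_eq_bot_iff φ).1 e')
        rw [h60, Nat.card_perm, e] at this
        norm_num at this
      · haveI : Subsingleton (Sylow 3 K) := by
          refine ⟨fun a b => ?_⟩
          obtain ⟨k, rfl⟩ := MulAction.exists_smul_eq K a b
          have : k ∈ φ.ker := e' ▸ mem_top k
          exact (Equiv.congr_fun (MonoidHom.mem_ker.1 this) a).symm
        exact hne1 Nat.card_unique
    have hidx : Nat.card (Sylow 3 K) = (normalizer ((T : Subgroup K) : Set K)).index :=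
      T.card_eq_index_normalizer
    have hmul := (normalizer ((T : Subgroup K) : Set K)).card_mul_index
    rw [← hidx, h60] at hmul
    have : Nat.card (Sylow 3 K) = 10 := by
      have hd : Nat.card (Sylow 3 K) ∈ Nat.divisors 20 := Nat.mem_divisors.2 ⟨h1, by norm_num⟩
      rw [show Nat.divisors 20 = {1, 2, 4, 5, 10, 20} from rfl] at hd
      simp only [Finset.mem_insert, Finset.mem_singleton] at hd
      unfold Nat.ModEq at h2
      omega
    rw [this] at hmul
    omega
  rw [hTe] at hN6
  obtain ⟨⟨i, hiN⟩, hi⟩ := exists_prime_orderOf_dvd_card'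
    (G := normalizer ((zpowers h : Subgroup K) : Set K)) 2 (by rw [hN6]; norm_num)
  rw [Subgroup.orderOf_mk] at hi
  have hno : ∀ j : K, orderOf j = 2 → h * j ≠ j * h := by
    intro j hj e
    obtain ⟨g, hg⟩ := conj_mem V' hCK hj
    have h1 : g * h * g⁻¹ ∈ V' := mem_of_comm V' hCK hg (fun e' => by
      rw [conj_eq_one_iff] at e'
      rw [e', orderOf_one] at hj
      norm_num at hj) (by
      calc g * h * g⁻¹ * (g * j * g⁻¹) = g * (h * j) * g⁻¹ := by group
        _ = g * j * g⁻¹ * (g * h * g⁻¹) := by rw [e]; group)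
    have h2 : h ^ 2 = 1 := by
      have := klein_sq V' h1
      rw [← pow_two, conj_pow, conj_eq_one_iff] at this
      exact this
    have := orderOf_dvd_of_pow_eq_one h2
    rw [hord] at this
    norm_num at this
  have hinv : i * h * i⁻¹ = h⁻¹ := by
    have hm : i * h * i⁻¹ ∈ zpowers h := (mem_normalizer_iff.1 hiN h).1 (mem_zpowers h)
    obtain ⟨k, hk⟩ := hm
    simp only at hk
    rw [← zpow_mod_orderOf, hord] at hk
    obtain h' | h' | h' : k % (3 : ℤ) = 0 ∨ k % (3 : ℤ) = 1 ∨ k % (3 : ℤ) = 2 := by omega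
    all_goals rw [Nat.cast_ofNat, h'] at hk
    · rw [zpow_zero] at hk
      rw [conj_eq_one_iff.1 hk.symm, orderOf_one] at hord
      norm_num at hord
    · rw [zpow_one] at hk
      exact absurd (mul_inv_eq_iff_eq_mul.1 hk.symm).symm (hno i hi)
    · rw [← hk, eq_inv_iff_mul_eq_one, ← zpow_add_one, show ((2 : ℤ) + 1) = ((3 : ℕ) : ℤ) by rfl,
        zpow_natCast, ← hord, pow_orderOf_eq_one]
  have hCh : ∀ c : K, c * h = h * c → c ∈ zpowers h := by
    have hle : centralizer ({h} : Set K) ≤ normalizer ((zpowers h : Subgroup K) : Set K) := by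
      intro c hc
      have e : c * h * c⁻¹ = h := by
        rw [mem_centralizer_singleton_iff.1 hc, mul_inv_cancel_right]
      refine mem_normalizer_iff.2 fun y => ⟨?_, fun hy => ?_⟩
      · rintro ⟨k, rfl⟩
        exact ⟨k, by simp only [← conj_zpow, e]⟩
      · obtain ⟨k, hk⟩ := hy
        simp only at hk
        refine ⟨k, ?_⟩
        simp only
        rw [← mul_right_inj c, ← mul_left_inj c⁻¹, ← hk, ← conj_zpow, e]
    have hzle : zpowers h ≤ centralizer ({h} : Set K) :=
      zpowers_le.2 (mem_centralizer_singleton_iff.2 rfl)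
    have h3 : Nat.card (centralizer ({h} : Set K)) = 3 := by
      have d1 := card_dvd_of_le hle
      have d2 := card_dvd_of_le hzle
      rw [hN6] at d1
      rw [Nat.card_zpowers, hord] at d2
      have hd : Nat.card (centralizer ({h} : Set K)) ∈ Nat.divisors 6 :=
        Nat.mem_divisors.2 ⟨d1, by norm_num⟩
      rw [show Nat.divisors 6 = {1, 2, 3, 6} from rfl] at hd
      simp only [Finset.mem_insert, Finset.mem_singleton] at hd
      rcases hd with e | e | e | e
      · omega
      · omega
      · exact e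
      · obtain ⟨⟨j, hjc⟩, hj⟩ := exists_prime_orderOf_dvd_card' (G := centralizer ({h} : Set K)) 2
          (by rw [e]; norm_num)
        rw [Subgroup.orderOf_mk] at hj
        exact absurd (mem_centralizer_singleton_iff.1 hjc).symm (hno j hj)
    intro c hc
    rw [eq_of_le_of_card_ge hzle (by rw [h3, Nat.card_zpowers, hord])]
    exact mem_centralizer_singleton_iff.2 hc
  have hxh : x * (h : C) = (h : C) * x := ((hmemS h).1 (hHS hh)).symm
  let si : K := ⟨x * (i : C) * x⁻¹, hKn.conj_mem _ i.2 x⟩
  let c : K := i⁻¹ * si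
  have hc : c ∈ zpowers h := hCh c (by
    refine Subtype.ext ?_
    have e1 : (si : C) * h * (si : C)⁻¹ = (h : C)⁻¹ := by
      have e0 : x⁻¹ * (h : C) * x = h := by rw [mul_assoc, ← hxh, inv_mul_cancel_left]
      show x * (i : C) * x⁻¹ * h * (x * (i : C) * x⁻¹)⁻¹ = (h : C)⁻¹
      calc x * (i : C) * x⁻¹ * h * (x * (i : C) * x⁻¹)⁻¹
          = x * ((i : C) * (x⁻¹ * h * x) * (i : C)⁻¹) * x⁻¹ := by group
        _ = x * (h : C)⁻¹ * x⁻¹ := by
            rw [e0]
            have := congrArg (Subtype.val : K → C) hinv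
            simp only [Subgroup.coe_mul, Subgroup.coe_inv] at this
            rw [this]
        _ = (x * (h : C) * x⁻¹)⁻¹ := by group
        _ = (h : C)⁻¹ := by rw [hxh, mul_inv_cancel_right]
    have e2 : (i : C) * h⁻¹ * (i : C)⁻¹ = h := by
      have := congrArg (Subtype.val : K → C) hinv
      simp only [Subgroup.coe_mul, Subgroup.coe_inv] at this
      calc (i : C) * (h : C)⁻¹ * (i : C)⁻¹ = ((i : C) * h * (i : C)⁻¹)⁻¹ := by group
        _ = h := by rw [this, inv_inv]
    show (i : C)⁻¹ * (si : C) * h = h * ((i : C)⁻¹ * si)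
    calc (i : C)⁻¹ * (si : C) * h = (i : C)⁻¹ * ((si : C) * h * (si : C)⁻¹) * si := by group
      _ = (i : C)⁻¹ * (h : C)⁻¹ * si := by rw [e1]
      _ = h * ((i : C)⁻¹ * si) := by
        have hii : (i : C) * i = 1 := by
          have := pow_orderOf_eq_one i
          rw [hi, pow_two] at this
          exact congrArg Subtype.val this
        have e4 : (i : C) * (h : C)⁻¹ = h * i := mul_inv_eq_iff_eq_mul.1 e2
        rw [inv_eq_of_mul_eq_one_right hii, e4, mul_assoc])
  have hxc : x * (c : C) = (c : C) * x := by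
    obtain ⟨k, hk⟩ := hc
    rw [← hk]
    simp only [Subgroup.coe_zpow]
    exact (Commute.zpow_right hxh k).eq
  have hxx : x * x = 1 := hsq x hx
  have hsi : x * (i : C) = (i : C) * x := by
    have e : x * (i : C) * x⁻¹ = (i : C) * (c : C) := by
      show (si : C) = _
      simp [c]
    have e' : x * (x * (i : C) * x⁻¹) * x⁻¹ = (i : C) := by
      calc x * (x * (i : C) * x⁻¹) * x⁻¹ = (x * x) * i * (x * x)⁻¹ := by group
        _ = i := by rw [hxx]; group
    rw [e] at e'
    have e3 : (i : C) * c * c = i := by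
      calc (i : C) * c * c = x * (i : C) * x⁻¹ * (x * (c : C) * x⁻¹) := by
            rw [e, hxc, mul_inv_cancel_right]
        _ = x * ((i : C) * c) * x⁻¹ := by group
        _ = i := e'
    have hc2 : c ^ 2 = 1 := Subtype.ext (by
      rw [pow_two]
      exact mul_left_cancel (a := (i : C)) (by simpa [mul_assoc] using e3))
    have hc1 : c = 1 := by
      obtain ⟨k, hk⟩ := hc
      have h3 : c ^ 3 = 1 := by
        rw [← hk]
        show (h ^ k) ^ 3 = 1
        rw [← zpow_natCast, ← zpow_mul, mul_comm, zpow_mul, zpow_natCast, ← hord,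
          pow_orderOf_eq_one, one_zpow]
      rw [pow_succ, hc2, one_mul] at h3
      exact h3
    rw [hc1, OneMemClass.coe_one, mul_one] at e
    exact mul_inv_eq_iff_eq_mul.1 e
  have hiS : i ∈ S := (hmemS i).2 hsi.symm
  have hiH : i ∉ H := by
    intro hiH
    have hpV : IsPGroup 2 V' := IsPGroup.of_card (n := 2) (by rw [IsKleinFour.card_four]; norm_num)
    have hiV : i ∈ V' := by
      have hp : IsPGroup 2 (V' ⊔ zpowers i : Subgroup K) :=
        hpV.to_sup_of_normal_left' (IsPGroup.of_card (n := 1) (by rw [Nat.card_zpowers, hi, pow_one]))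
          (zpowers_le.2 hiH)
      obtain ⟨Q, hQ⟩ := hp.exists_le_sylow
      have hQe : V' = Q := le_sylow_eq V' hCK Q (le_trans le_sup_left hQ)
      rw [hQe]
      exact hQ (mem_sup_right (mem_zpowers i))
    have h1 : i * h * i⁻¹ * h⁻¹ ∈ V' := by
      have := (mem_normalizer_iff.1 hh i⁻¹).1 (inv_mem hiV)
      have := mul_mem hiV this
      simpa [mul_assoc] using this
    rw [hinv] at h1
    have h2 : (h⁻¹ * h⁻¹) ^ 2 = 1 := by rw [pow_two]; exact klein_sq V' h1
    rw [← pow_two, ← pow_mul, inv_pow, inv_eq_one] at h2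
    have := orderOf_dvd_of_pow_eq_one h2
    rw [hord] at this
    norm_num at this
  have hS : S = ⊤ := by
    have d1 := card_dvd_of_le hHS
    have d2 := card_subgroup_dvd_card S
    rw [hH12] at d1
    rw [h60] at d2
    have hlt : 12 < Nat.card S := by
      rw [← hH12]
      refine lt_of_le_of_ne (Subgroup.card_le_of_le hHS) fun e => hiH ?_
      rw [eq_of_le_of_card_ge hHS e.ge]
      exact hiS
    obtain ⟨a, ha⟩ := d1
    refine eq_top_of_card_eq S ?_
    rw [h60, ha]
    rw [ha] at d2 hlt
    have : a ∣ 5 := Nat.dvd_of_mul_dvd_mul_left (by norm_num : 0 < 12) d2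
    rcases (Nat.dvd_prime (by norm_num)).1 this with e | e <;> omega
  refine mem_center_iff.2 fun y => ?_
  have hy : y ∈ ((K : Set C) * (W : Set C)) := by
    rw [← normal_mul K W, hKsup]; trivial
  obtain ⟨k, hk, w, hw, rfl⟩ := hy
  have h1 : k * x = x * k := (hmemS ⟨k, hk⟩).1 (hS ▸ mem_top _)
  show k * w * x = x * (k * w)
  rw [mul_assoc, hcomm w (hWA hw) x (hWA hx), ← mul_assoc, h1, mul_assoc]

/-- A group with a four-group whose involutions have a centraliser `V × W` is `W × K`. -/
theorem cent_split {C : Type u} [Group C] [Finite C] (V W : Subgroup C) [IsKleinFour V]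
    (hVW : V ⊓ W = ⊥) (hA : Cfsg.IsElementaryAbelian 2 (V ⊔ W))
    (hcent : ∀ v ∈ V, v ≠ 1 → Subgroup.centralizer {v} = V ⊔ W)
    (hconj : ∀ v ∈ V, v ≠ 1 → ∀ g : C, g * v * g⁻¹ ∈ V ⊔ W → g * v * g⁻¹ ∈ V)
    (hnorm : ∀ g : C, (∀ v ∈ V, g * v * g⁻¹ ∈ V) → ∀ x ∈ W, g * x = x * g) :
    V ⊔ W = ⊤ ∨ (W ≤ Subgroup.center C ∧ ∃ K : Subgroup C, K.Normal ∧ V ≤ K ∧ K ⊓ W = ⊥ ∧
      K ⊔ W = ⊤ ∧ ((Nat.card K = 12 ∧ V.Normal) ∨ (Nat.card K = 60 ∧ IsSimpleGroup K))) := by
  classical
  obtain ⟨hAc, hA2⟩ := hA
  set A := V ⊔ W with hAdef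
  have hcomm : ∀ a ∈ A, ∀ b ∈ A, a * b = b * a := fun a ha b hb =>
    congrArg Subtype.val (hAc.is_comm.comm ⟨a, ha⟩ ⟨b, hb⟩)
  have hcomA : ∀ v ∈ V, v ≠ 1 → ∀ g : C, g * v = v * g → g ∈ A := fun v hv hv1 g h =>
    (hcent v hv hv1) ▸ mem_centralizer_singleton_iff.2 h
  have hVA : V ≤ A := le_sup_left
  have hWA : W ≤ A := le_sup_right
  have hpA : IsPGroup 2 A := fun a => ⟨1, Subtype.ext (by simpa using hA2 a a.2)⟩
  have hNV : ∀ g ∈ normalizer (A : Set C), ∀ v ∈ V, g * v * g⁻¹ ∈ V := by
    intro g hg v hv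
    by_cases hv1 : v = 1
    · simp [hv1]
    · exact hconj v hv hv1 g ((mem_normalizer_iff.1 hg v).1 (hVA hv))
  obtain ⟨P, hP⟩ := hpA.exists_le_sylow
  have hAP : A = P := by
    by_contra hne
    haveI : Finite (P : Subgroup C) := inferInstance
    obtain ⟨g, hgN, hgA⟩ : ∃ g, g ∈ normalizer (A : Set C) ⊓ (P : Subgroup C) ∧ g ∉ A := by
      by_contra h
      push Not at h
      have hle : normalizer (A : Set C) ⊓ (P : Subgroup C) ≤ A := h
      haveI := P.2.isNilpotent
      have hnc : NormalizerCondition (P : Subgroup C) := normalizerCondition_of_isNilpotent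
      have hlt : A.subgroupOf (P : Subgroup C) < ⊤ := lt_top_iff_ne_top.2 fun e =>
        hne (le_antisymm hP (subgroupOf_eq_top.1 e))
      obtain ⟨y, hy, hy'⟩ := SetLike.exists_of_lt (hnc _ hlt)
      rw [← subgroupOf_normalizer_eq hP] at hy
      exact hy' (hle ⟨hy, y.2⟩)
    have hgN' : g ∈ normalizer (A : Set C) := hgN.1
    obtain ⟨n, hn⟩ := P.2 ⟨g, hgN.2⟩
    have hgn : g ^ 2 ^ n = 1 := congrArg Subtype.val hn
    let φ : {v : V // v ≠ 1} → {v : V // v ≠ 1} := fun v =>
      ⟨⟨g * v.1 * g⁻¹, hNV g hgN' v.1 v.1.2⟩, fun e => v.2 (Subtype.ext (by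
        have := congrArg Subtype.val e
        exact conj_eq_one_iff.1 this))⟩
    haveI := Fintype.ofFinite V
    have hit : ∀ i v, ((φ^[i] v).1 : C) = g ^ i * v.1 * (g ^ i)⁻¹ := by
      intro i
      induction i with
      | zero => intro v; simp
      | succ i ih =>
        intro v
        rw [Function.iterate_succ_apply', pow_succ', mul_inv_rev]
        show g * ((φ^[i] v).1 : C) * g⁻¹ = _
        rw [ih]; group
    have hper : Function.Injective φ := fun a b e => Subtype.ext (Subtype.ext
      (mul_left_cancel (mul_right_cancel (show g * (a.1 : C) * g⁻¹ = g * b.1 * g⁻¹ from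
        congrArg (fun v : {v : V // v ≠ 1} => (v.1 : C)) e))))
    let e : Equiv.Perm {v : V // v ≠ 1} := Equiv.ofBijective φ
      (Finite.injective_iff_bijective.1 hper)
    have he : e ^ 2 ^ n = 1 := by
      refine Equiv.ext fun v => Subtype.ext (Subtype.ext ?_)
      rw [← Equiv.Perm.iterate_eq_pow]
      show ((φ^[2 ^ n] v).1 : C) = v.1
      rw [hit, hgn]; simp
    haveI := Fact.mk Nat.prime_two
    have hcard : ¬ 2 ∣ Fintype.card {v : V // v ≠ 1} := by
      rw [Fintype.card_subtype_compl, Fintype.card_subtype_eq, ← Nat.card_eq_fintype_card, klein_card]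
      decide
    obtain ⟨v, hv⟩ := Equiv.Perm.exists_fixed_point_of_prime hcard he
    refine hgA (hcomA v.1 v.1.2 (fun h => v.2 (Subtype.ext h)) g ?_)
    exact mul_inv_eq_iff_eq_mul.1 (congrArg (fun v : {v : V // v ≠ 1} => (v.1 : C)) hv)
  haveI : IsMulCommutative (P : Subgroup C) := hAP ▸ hAc
  have hPA : ∀ x : C, x ∈ (P : Subgroup C) ↔ x ∈ A := fun x => by rw [hAP]
  haveI : IsMulCommutative (P : Subgroup C) := inferInstance
  letI : CommGroup (P : Subgroup C) :=
    { (P : Subgroup C).toGroup with
      mul_comm := fun a b => Subtype.ext (hcomm _ ((hPA _).1 a.2) _ ((hPA _).1 b.2)) }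
  let τ : C →* (P : Subgroup C) := MonoidHom.transfer (MonoidHom.id (P : Subgroup C))
  have hfix : ∀ p ∈ W, ∀ g : C, g⁻¹ * p * g ∈ (P : Subgroup C) → g⁻¹ * p * g = p := by
    intro p hp g hg
    obtain ⟨m, hm, e⟩ := P.conj_eq_normalizer_conj_of_mem p g ((hPA p).2 (hWA hp)) hg
    rw [e, mul_assoc, ← hnorm m (fun v hv => hNV m (by rwa [hAP]) v hv) p hp, ← mul_assoc,
      inv_mul_cancel, one_mul]
  have hodd : ¬ 2 ∣ (P : Subgroup C).index := P.not_dvd_index
  have hτW : ∀ p ∈ W, (τ p : C) = p := by
    intro p hp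
    have h := MonoidHom.transfer_eq_pow (MonoidHom.id (P : Subgroup C)) p
      (fun k g hg => hfix _ (pow_mem hp k) g hg)
    show ((MonoidHom.transfer (MonoidHom.id (P : Subgroup C)) p : (P : Subgroup C)) : C) = p
    rw [h]
    show p ^ (P : Subgroup C).index = p
    obtain ⟨m, hm⟩ := Nat.odd_iff.2 (Nat.two_dvd_ne_zero.1 hodd)
    rw [hm, pow_succ, pow_mul, hA2 p (hWA hp), one_pow, one_mul]
  rcases Classical.em (normalizer (A : Set C) ≤ A) with hNA | hNA
  · left
    have hNC : normalizer ((P : Subgroup C) : Set C) ≤ centralizer ((P : Subgroup C) : Set C) :=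
      fun g hg => mem_centralizer_iff.2 fun x hx =>
        hcomm x ((hPA x).1 hx) g (hNA (by rwa [hAP]))
    have hcompl := MonoidHom.ker_transferSylow_isComplement' P hNC
    have hker : (MonoidHom.transferSylow P hNC).ker = ⊥ := by
      obtain ⟨a, ha, b, hb, ha1, hb1, hab⟩ := klein_exists V
      have hoddM : Odd (Nat.card (MonoidHom.transferSylow P hNC).ker) :=
        Nat.not_even_iff_odd.1 fun h => MonoidHom.not_dvd_card_ker_transferSylow P hNC h.two_dvd
      have key : ∀ v ∈ V, v ≠ 1 → ∀ m ∈ (MonoidHom.transferSylow P hNC).ker,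
          v * m = m * v → m = 1 := by
        intro v hv hv1 m hm h
        have hmA := hcomA v hv hv1 m h.symm
        exact (Subgroup.disjoint_def.1 hcompl.disjoint) hm ((hPA m).2 hmA)
      exact eq_bot_of_three_fpf _ hoddM a b (klein_sq V ha) (klein_sq V hb) (key a ha ha1)
        (key b hb hb1) (key _ (mul_mem ha hb) hab)
    have := hcompl.sup_eq_top
    rwa [hker, bot_sup_eq, ← hAP] at this
  · right
    obtain ⟨g, hgN, hgA⟩ := SetLike.not_le_iff_exists.1 hNA
    have hτV : ∀ v ∈ V, τ v = 1 := by
      obtain ⟨a, ha, -, -, ha1, -, -⟩ := klein_exists V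
      have hsq : ∀ x : (P : Subgroup C), x * x = 1 := fun x => Subtype.ext (by
        rw [Subgroup.coe_mul, ← pow_two, hA2 _ ((hPA _).1 x.2)]; rfl)
      have hτc : ∀ x y : C, τ (y * x * y⁻¹) = τ x := fun x y => by
        rw [map_mul, map_mul, map_inv, mul_comm (τ y) (τ x), mul_inv_cancel_right]
      intro v hv
      by_cases hv1 : v = 1
      · rw [hv1, map_one]
      have hw : g * v * g⁻¹ ∈ V := hNV g hgN v hv
      have hne : g * v * g⁻¹ ≠ v := fun e => hgA (hcomA v hv hv1 g (mul_inv_eq_iff_eq_mul.1 e))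
      set w := g * v * g⁻¹ with hwdef
      have hu : g * w * g⁻¹ ∈ V := hNV g hgN w hw
      have hw1 : w ≠ 1 := fun e => hv1 (conj_eq_one_iff.1 e)
      have hne' : g * w * g⁻¹ ≠ w := fun e => hgA (hcomA w hw hw1 g (mul_inv_eq_iff_eq_mul.1 e))
      have hne'' : g * w * g⁻¹ ≠ v := by
        intro e
        -- then the square of `g` centralises `v`, and so lies in the four-group
        have h2 : g * g ∈ A := hcomA v hv hv1 _ (by
          have : g * g * v * (g * g)⁻¹ = v := by
            rw [hwdef] at e; simpa [mul_assoc] using e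
          exact mul_inv_eq_iff_eq_mul.1 this)
        have h4 : g ^ 4 = 1 := by
          have := hA2 _ h2
          rw [← pow_two, ← pow_mul] at this
          exact this
        have hpg : IsPGroup 2 (A ⊔ zpowers g : Subgroup C) :=
          hpA.to_sup_of_normal_left' (fun y : zpowers g => ⟨2, Subtype.ext (by
            obtain ⟨k, hk⟩ := y.2
            rw [SubgroupClass.coe_pow, ← hk]
            show (g ^ k) ^ 4 = 1
            rw [← zpow_natCast, ← zpow_mul, mul_comm, zpow_mul, zpow_natCast, h4, one_zpow])⟩) (zpowers_le.2 hgN)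
        exact hgA (hAP ▸ (P.3 hpg (hAP ▸ le_sup_left)).le (mem_sup_right (mem_zpowers g)))
      have huvw : g * w * g⁻¹ = v * w := by
        haveI := Fintype.ofFinite V
        let f : Fin 3 → C := ![v, w, v * w]
        have hvw1 : v * w ≠ 1 := fun e => hne (mul_left_cancel (e.trans (klein_sq V hv).symm))
        have hf : Function.Injective f := by
          intro i j hij
          fin_cases i <;> fin_cases j <;> simp [f] at hij ⊢ <;>
            first
              | exact hne hij.symm
              | exact hne hij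
              | exact hw1 hij
              | exact hv1 hij
        obtain ⟨i, hi⟩ := klein_three V (v := v) (w := g * w * g⁻¹) f hf
          (fun i => by fin_cases i <;> simp [f, hv, hw, hv1, hw1, hvw1, mul_mem hv hw]) hu
          (fun e => hw1 (conj_eq_one_iff.1 e)) (by simp [f])
        fin_cases i <;> simp [f] at hi
        · exact absurd hi.symm hne''
        · exact absurd hi.symm hne'
        · exact hi.symm
      have h1 : τ w = τ v := hτc v g
      have h2 : τ (g * w * g⁻¹) = τ w := hτc w g
      rw [huvw, map_mul, h1] at h2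
      exact mul_eq_right.1 h2
    set K := τ.ker with hKdef
    have hVK : V ≤ K := fun v hv => MonoidHom.mem_ker.2 (hτV v hv)
    have hKW : K ⊓ W = ⊥ := by
      rw [eq_bot_iff]
      rintro x ⟨hx, hxW⟩
      have h := hτW x hxW
      rw [MonoidHom.mem_ker.1 hx] at h
      exact mem_bot.2 h.symm
    have hdec : ∀ a ∈ A, ∃ v ∈ V, ∃ x ∈ W, a = v * x := by
      intro a ha
      have hnorm' : W ≤ normalizer (V : Set C) := fun x hx => mem_normalizer_iff.2 fun v =>
        ⟨fun hv => by rw [hcomm x (hWA hx) v (hVA hv), mul_inv_cancel_right]; exact hv,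
          fun hv => by
            have := hcomm x⁻¹ (inv_mem (hWA hx)) _ (hVA hv)
            have e : v = x * v * x⁻¹ := by
              calc v = x⁻¹ * (x * v * x⁻¹) * x := by group
                _ = x * v * x⁻¹ := by rw [this]; group
            exact e ▸ hv⟩
      have ha' := SetLike.mem_coe.2 ha
      rw [hAdef, coe_mul_of_right_le_normalizer_left V W hnorm'] at ha'
      obtain ⟨v, hv, x, hx, rfl⟩ := ha'
      exact ⟨v, hv, x, hx, rfl⟩
    have hrange : ∀ y : C, (τ y : C) ∈ W := by
      intro y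
      obtain ⟨m, hm⟩ := Nat.odd_iff.2 (Nat.two_dvd_ne_zero.1 hodd)
      have hpow : (y ^ (P : Subgroup C).index) ^ Nat.card (P : Subgroup C) = 1 := by
        rw [← pow_mul, mul_comm, card_mul_index, pow_card_eq_one']
      have hp : IsPGroup 2 (zpowers (y ^ (P : Subgroup C).index)) := by
        obtain ⟨k, hk⟩ := IsPGroup.iff_card.1 P.2
        obtain ⟨j, -, hj⟩ := (Nat.dvd_prime_pow Nat.prime_two).1
          (hk ▸ orderOf_dvd_of_pow_eq_one hpow)
        exact IsPGroup.of_card (n := j) (by rw [Nat.card_zpowers, hj])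
      obtain ⟨Q, hQ⟩ := hp.exists_le_sylow
      obtain ⟨c, hc⟩ := MulAction.exists_smul_eq C Q P
      have hmem : c * y ^ (P : Subgroup C).index * c⁻¹ ∈ A := by
        have hm' : c * y ^ (P : Subgroup C).index * c⁻¹ ∈ ((c • Q : Sylow 2 C) : Subgroup C) :=
          smul_mem_pointwise_smul _ (MulAut.conj c) _ (hQ (mem_zpowers _))
        rw [hc] at hm'
        exact (hPA _).1 hm'
      obtain ⟨v, hv, x, hx, e⟩ := hdec _ hmem
      have h1 : τ (c * y ^ (P : Subgroup C).index * c⁻¹) = τ y ^ (P : Subgroup C).index := by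
        rw [map_mul, map_mul, map_inv, mul_comm (τ c), mul_inv_cancel_right, map_pow]
      rw [e, map_mul, hτV v hv, one_mul] at h1
      have h2 : τ y ^ (P : Subgroup C).index = τ y := by
        rw [hm, pow_succ, pow_mul]
        have : τ y ^ 2 = 1 := Subtype.ext (by
          rw [SubgroupClass.coe_pow, hA2 _ ((hPA _).1 (τ y).2)]; rfl)
        rw [this, one_pow, one_mul]
      rw [h2] at h1
      rw [← h1, hτW x hx]
      exact hx
    have hKsup : K ⊔ W = ⊤ := eq_top_iff.2 fun y _ => by
      have hw : (τ y : C) ∈ W := hrange y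
      have hk : y * (τ y : C)⁻¹ ∈ K := by
        rw [MonoidHom.mem_ker, map_mul, map_inv, mul_inv_eq_one]
        exact Subtype.ext (hτW _ hw).symm
      have := mul_mem (mem_sup_left (T := W) hk) (mem_sup_right (S := K) hw)
      rwa [inv_mul_cancel_right] at this
    haveI : IsKleinFour (V.subgroupOf K) :=
      ⟨by rw [Nat.card_congr (subgroupOfEquivOfLe hVK).toEquiv, klein_card],
        by rw [Monoid.exponent_eq_of_mulEquiv (subgroupOfEquivOfLe hVK), IsKleinFour.exponent_two]⟩
    have hCK : ∀ v ∈ V.subgroupOf K, v ≠ 1 → centralizer {v} = V.subgroupOf K := by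
      intro v hv hv1
      refine le_antisymm (fun y hy => ?_) (fun y hy => mem_centralizer_singleton_iff.2
        (Subtype.ext (klein_comm V hy hv)))
      have hyA := hcomA v hv (fun e => hv1 (Subtype.ext e)) y
        (congrArg Subtype.val (mem_centralizer_singleton_iff.1 hy))
      obtain ⟨a, ha, x, hx, e⟩ := hdec _ hyA
      have hxK : x ∈ K := by
        have := mul_mem (inv_mem (hVK ha)) y.2
        rwa [e, inv_mul_cancel_left] at this
      have : x = 1 := mem_bot.1 (hKW ▸ ⟨hxK, hx⟩ : x ∈ (⊥ : Subgroup C))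
      show (y : C) ∈ V
      rw [e, this, mul_one]; exact ha
    have hAK : ∀ y ∈ A, y ∈ K → y ∈ V := by
      intro y hy hyK
      obtain ⟨a, ha, x, hx, rfl⟩ := hdec y hy
      have hxK : x ∈ K := by
        have := mul_mem (inv_mem (hVK ha)) hyK
        rwa [inv_mul_cancel_left] at this
      rw [mem_bot.1 (hKW ▸ ⟨hxK, hx⟩ : x ∈ (⊥ : Subgroup C)), mul_one]
      exact ha
    rcases card_cases (V.subgroupOf K) hCK with h4 | ⟨h12, hVn⟩ | ⟨h60, hs⟩
    · exfalso
      have hKV : V = K := eq_of_le_of_card_ge hVK (by rw [h4, klein_card])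
      refine hgA ?_
      rw [hAdef, show V ⊔ W = ⊤ by rw [hKV]; exact hKsup]
      exact mem_top g
    · have hn : ∀ y : C, ∀ v ∈ V, y * v * y⁻¹ ∈ V := by
        intro y v hv
        have hy : y ∈ ((K : Set C) * (W : Set C)) := by
          rw [← normal_mul K W, hKsup]; trivial
        obtain ⟨k, hk, x, hx, rfl⟩ := hy
        have hxv : x * v * x⁻¹ = v := by rw [hcomm x (hWA hx) v (hVA hv), mul_inv_cancel_right]
        have h := hVn.conj_mem ⟨v, hVK hv⟩ (mem_subgroupOf.2 hv) ⟨k, hk⟩
        rw [mem_subgroupOf] at h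
        show k * x * v * (k * x)⁻¹ ∈ V
        rw [show k * x * v * (k * x)⁻¹ = k * (x * v * x⁻¹) * k⁻¹ by group, hxv]
        exact h
      exact ⟨fun x hx => mem_center_iff.2 fun y => hnorm y (hn y) x hx, K, MonoidHom.normal_ker τ,
        hVK, hKW, hKsup, Or.inl ⟨h12, ⟨fun v hv y => hn y v hv⟩⟩⟩
    · refine ⟨fun x hx => ?_, K, MonoidHom.normal_ker τ, hVK, hKW, hKsup, Or.inr ⟨h60, hs⟩⟩
      exact central_factor V W K h60 hs hVK (fun y hy => by rw [← pow_two]; exact hA2 y (hWA hy)) hcomm hWA hKsup hnorm hCK x hx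

end CfsgLib.L34Cent
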