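import Cfsg.Agent.Lib.L34Cent.IndexThree
import Cfsg.Agent.Lib.L34Cent.Four
import Cfsg.Agent.Lib.Recog.CIT.Main
import Cfsg.Agent.Lib.Classical.PSLSimple
import Cfsg.Agent.Lib.KnownB.PSLAut.Out
import Cfsg.Agent.S0813

/-!
# The group is the automorphism group of `PGL₃(4)`
-/

set_option autoImplicit false
set_option linter.unusedSectionVars false
set_option linter.style.haveILetI false

namespace CfsgLib.L34Cent

open Subgroup

universe u

theorem fourHyp : FourHyp.{u} := by
  intro K _ _ V hV hC
  haveI := hV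
  rcases card_cases V hC with h | h | h
  · exact Or.inl h
  · exact Or.inr (Or.inl h.1)
  · exact Or.inr (Or.inr h.1)

/-- A simple CIT group of order `20160` is `PSL₃(4)`. -/
theorem isL34_of_card {K : Type u} [Group K] [Finite K] [IsSimpleGroup K]
    (hnab : ∃ a b : K, a * b ≠ b * a) (hC : Recog.CIT.CIT K) (hcard : Nat.card K = 20160) :
    Recog.CIT.IsL34 K := by
  rcases Recog.CIT.known_of_cit hnab hC with ⟨-, ⟨F, iF, jF, ⟨n, hn, hF⟩, ⟨e⟩⟩ | ⟨-, m, hm, hsz⟩⟩ |
    ⟨⟨F, iF, jF, hF, ⟨e⟩⟩, -⟩ | h
  · exfalso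
    have h1 := Classical.card_PSL_two_mul (F := F)
    rw [Classical.gcd_two_card_sub_one_of_even (F := F) (by
        rw [Nat.card_eq_fintype_card, hF]; exact (Nat.even_pow).2 ⟨even_two, by omega⟩), one_mul,
      ← Nat.card_congr e.toEquiv, hcard, Nat.card_eq_fintype_card, hF] at h1
    rcases Nat.lt_or_ge n 5 with h5 | h5
    · interval_cases n <;> norm_num at h1
    · have h32 : 32 ≤ 2 ^ n := le_trans (by norm_num) (Nat.pow_le_pow_right (by norm_num) h5)
      have h3 : 1023 ≤ (2 ^ n) ^ 2 - 1 := by
        have : 1024 ≤ (2 ^ n) ^ 2 := le_trans (by norm_num) (Nat.pow_le_pow_left h32 2)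
        omega
      have := Nat.mul_le_mul h32 h3
      omega
  · exfalso
    rw [hcard] at hsz
    rcases Nat.lt_or_ge m 2 with h2 | h2
    · rw [show m = 1 by omega] at hsz
      norm_num at hsz
    · have h32 : 32 ≤ 2 ^ (2 * m + 1) := le_trans (by norm_num) (Nat.pow_le_pow_right (by norm_num) (show 5 ≤ 2 * m + 1 by omega))
      have h3 : 1024 ≤ (2 ^ (2 * m + 1)) ^ 2 := le_trans (by norm_num) (Nat.pow_le_pow_left h32 2)
      have := Nat.mul_le_mul (Nat.mul_le_mul h3 (show 1024 ≤ (2 ^ (2 * m + 1)) ^ 2 + 1 by omega))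
        (show 1 ≤ 2 ^ (2 * m + 1) - 1 by omega)
      omega
  · exfalso
    have hodd : Odd (Fintype.card F) := by
      rcases hF with h | ⟨hp, k, h | h⟩
      · rw [h]; decide
      · rcases hp.eq_two_or_odd' with h2 | h2
        · exfalso
          have h4 := Classical.card_PSL_two_mul (F := F)
          rw [← Nat.card_congr e.toEquiv, hcard, Nat.card_eq_fintype_card, h2] at h4
          norm_num at h4
        · exact h2
      · rcases hp.eq_two_or_odd' with h2 | h2
        · exfalso
          have h4 := Classical.card_PSL_two_mul (F := F)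
          rw [← Nat.card_congr e.toEquiv, hcard, Nat.card_eq_fintype_card, h2] at h4
          norm_num at h4
        · exact h2
    have h1 := Classical.card_PSL_two_mul (F := F)
    rw [Classical.gcd_two_card_sub_one_of_odd (F := F) (by rw [Nat.card_eq_fintype_card]; exact hodd),
      ← Nat.card_congr e.toEquiv, hcard, Nat.card_eq_fintype_card] at h1
    set q := Fintype.card F
    have hq : q < 35 := by
      by_contra hge
      have h3 : 1224 ≤ q ^ 2 - 1 := by
        have : 35 ^ 2 ≤ q ^ 2 := Nat.pow_le_pow_left (by omega) 2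
        omega
      have := Nat.mul_le_mul (show 35 ≤ q by omega) h3
      omega
    interval_cases q <;> omega
  · exact h

/-- The automorphisms of a normal subgroup `D` of `Aut S` containing the inner automorphisms, for `S`
non-abelian simple and `#D < #S ^ 2`, are those of `S`. -/
theorem mulAut_equiv {S : Type*} [Group S] [Finite S] [IsSimpleGroup S]
    (hnab : ∃ a b : S, a * b ≠ b * a) (D : Subgroup (MulAut S)) [D.Normal]
    (hI : (MulAut.conj : S →* MulAut S).range ≤ D) (hlt : Nat.card D < Nat.card S * Nat.card S) :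
    Nonempty (MulAut S ≃* MulAut D) := by
  have hzero : center S = ⊥ := (center S).normal_of_characteristic.eq_bot_or_eq_top.resolve_right fun h => by
    obtain ⟨a, b, hab⟩ := hnab
    exact hab (Subgroup.mem_center_iff.1 (h ▸ mem_top b) a)
  have hinj : Function.Injective (MulAut.conj : S →* MulAut S) := by
    refine (injective_iff_map_eq_one _).2 fun s hs => ?_
    rw [← Subgroup.mem_bot, ← hzero, Subgroup.mem_center_iff]
    intro t
    have h1 : s * t * s⁻¹ = t := DFunLike.congr_fun hs t
    exact (mul_inv_eq_iff_eq_mul.1 h1).symm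
  have hconj : ∀ (a : MulAut S) (s : S), a * MulAut.conj s * a⁻¹ = MulAut.conj (a s) := fun a s =>
    MulEquiv.ext fun t => by simp [MulAut.conj_apply]
  let f : S →* D := MonoidHom.codRestrict MulAut.conj D fun s => hI ⟨s, rfl⟩
  have hfinj : Function.Injective f := fun a b e => hinj (congrArg Subtype.val e)
  refine ⟨MulEquiv.ofBijective (MulAut.conjNormal (H := D)) ⟨(injective_iff_map_eq_one _).2 fun a ha => ?_,
    fun β => ?_⟩⟩
  · refine MulEquiv.ext fun s => hinj ?_
    have := congrArg Subtype.val (DFunLike.congr_fun ha (f s))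
    rw [MulAut.conjNormal_apply] at this
    rw [← hconj]
    exact this
  have hfn : f.range.Normal := by
    refine ⟨fun x hx d => ?_⟩
    obtain ⟨s, rfl⟩ := hx
    exact ⟨(d : MulAut S) s, Subtype.ext (hconj d s).symm⟩
  set I' := f.range.map β.toMonoidHom with hI'
  haveI hI'n : I'.Normal := hfn.map _ β.surjective
  have heq : f.range = I' := by
    rcases (inferInstance : (I'.comap f).Normal).eq_bot_or_eq_top with h | h
    · exfalso
      have hinj2 : Function.Injective fun q : S × S => f q.1 * β (f q.2) := by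
        rintro ⟨a, b⟩ ⟨a', b'⟩ e
        have h2 : f (a'⁻¹ * a) = β (f (b' * b⁻¹)) := by
          simp only [map_mul, map_inv]
          calc (f a')⁻¹ * f a = (f a')⁻¹ * (f a * β (f b)) * (β (f b))⁻¹ := by group
            _ = _ := by rw [show f a * β (f b) = f a' * β (f b') from e]; group
        have h3 : a'⁻¹ * a ∈ I'.comap f := ⟨f (b' * b⁻¹), ⟨_, rfl⟩, h2.symm⟩
        rw [h, mem_bot] at h3
        have ha : a = a' := (inv_mul_eq_one.1 h3).symm
        rw [ha] at e
        exact Prod.ext ha (hfinj (β.injective (mul_left_cancel e)))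
      have := Nat.card_le_card_of_injective _ hinj2
      rw [Nat.card_prod] at this
      omega
    · refine eq_of_le_of_card_ge ?_ (le_of_eq (card_map_of_injective β.injective))
      rintro _ ⟨s, rfl⟩
      exact (h ▸ mem_top s : s ∈ I'.comap f)
  let e := MonoidHom.ofInjective hfinj
  let α : MulAut S := e.trans ((β.subgroupMap f.range).trans ((MulEquiv.subgroupCongr heq.symm).trans e.symm))
  have hα : ∀ s, f (α s) = β (f s) := fun s => by
    have h1 : e (α s) = MulEquiv.subgroupCongr heq.symm (β.subgroupMap f.range (e s)) := e.apply_symm_apply _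
    exact congrArg Subtype.val h1
  refine ⟨α, MulEquiv.ext fun d => Subtype.ext ?_⟩
  rw [MulAut.conjNormal_apply]
  have hkey : ∀ s, (β d : MulAut S) (α s) = α ((d : MulAut S) s) := by
    intro s
    apply hinj
    rw [← hconj]
    have h2 : d * f s * d⁻¹ = f ((d : MulAut S) s) := Subtype.ext (hconj d s)
    have h3 := congrArg (fun x : D => (x : MulAut S)) (congrArg β h2)
    simp only [map_mul, map_inv, ← hα, Subgroup.coe_mul, Subgroup.coe_inv] at h3
    exact h3
  refine MulEquiv.ext fun s => ?_
  obtain ⟨t, rfl⟩ := α.surjective s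
  rw [hkey]
  simp

/-- The automorphism group of `PGL₃(4)` is that of `PSL₃(4)`. -/
theorem mulAut_pgl_equiv {F : Type*} [Field F] [Fintype F] (hF : Fintype.card F = 4) :
    Nonempty (MulAut (Matrix.ProjectiveSpecialLinearGroup (Fin 3) F) ≃*
      MulAut (GL (Fin 3) F ⧸ Subgroup.center (GL (Fin 3) F))) := by
  classical
  haveI := Classical.isSimpleGroup_PSL_fin (F := F) 3 (by norm_num) (by omega)
  haveI := KnownB.PSLAut.range_δ_normal (F := F) (n := 3) (by norm_num)
  have hS : Nat.card (Matrix.ProjectiveSpecialLinearGroup (Fin 3) F) = 20160 := by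
    rw [Classical.card_PSL_fin 3 (by norm_num), Classical.card_SL_fin', Nat.card_eq_fintype_card, hF]
    norm_num [Finset.prod_range_succ]
  set D := (KnownB.PSLAut.δ : GL (Fin 3) F →* MulAut (Matrix.ProjectiveSpecialLinearGroup (Fin 3) F)).range
  have hnab : ∃ a b : Matrix.ProjectiveSpecialLinearGroup (Fin 3) F, a * b ≠ b * a := by
    by_contra h
    push Not at h
    let : CommGroup (Matrix.ProjectiveSpecialLinearGroup (Fin 3) F) :=
      { (inferInstance : Group (Matrix.ProjectiveSpecialLinearGroup (Fin 3) F)) with mul_comm := h }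
    have hp := IsSimpleGroup.prime_card (α := Matrix.ProjectiveSpecialLinearGroup (Fin 3) F)
    rw [hS] at hp
    norm_num at hp
  have hI : (MulAut.conj : _ →* MulAut (Matrix.ProjectiveSpecialLinearGroup (Fin 3) F)).range ≤ D := by
    rintro _ ⟨s, rfl⟩
    have hs : MulAut.conj s ∈ Cfsg.Inn (Matrix.ProjectiveSpecialLinearGroup (Fin 3) F) := ⟨s, rfl⟩
    rw [KnownB.PSLAut.inn_eq] at hs
    obtain ⟨g, hg⟩ := hs
    exact ⟨_, hg⟩
  have hD : Nat.card D = Nat.card (Matrix.ProjGenLinGroup (Fin 3) F) :=
    KnownB.PSLAut.card_range_δ (by norm_num)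
  have hlt : Nat.card D < Nat.card (Matrix.ProjectiveSpecialLinearGroup (Fin 3) F) *
      Nat.card (Matrix.ProjectiveSpecialLinearGroup (Fin 3) F) := by
    have h1 : Nat.card D ≤ Nat.card (GL (Fin 3) F) :=
      Nat.card_le_card_of_surjective _ (MonoidHom.rangeRestrict_surjective _)
    have h2 : Nat.card (GL (Fin 3) F) = 181440 := by
      rw [Classical.card_GL_fin' (F := F) 3, Nat.card_eq_fintype_card (α := F), hF]
      norm_num [Finset.prod_range_succ]
    rw [hS]
    exact lt_of_le_of_lt (h1.trans h2.le) (by norm_num)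
  obtain ⟨e⟩ := mulAut_equiv hnab D hI hlt
  exact ⟨e.trans (MulAut.congr ((QuotientGroup.quotientKerEquivRange _).symm.trans
    (QuotientGroup.quotientMulEquivOfEq (KnownB.PSLAut.ker_δ (by norm_num)))))⟩

/-- With the tower and the fusion, `|G| = 241920` gives the automorphism group of `PGL₃(4)`. -/
theorem iso_mulAut {G : Type u} [Group G] [Finite G] {z : G} (D : Cen 0 z) (S : Tower D) (hf : Fused D)
    (hcard : Nat.card G = 241920) (_hout : ∀ m ∈ [24, 1, 26], ¬ IsConj z (D.val m))
    (hO : Cfsg.oddCore G = ⊥) {F : Type*} [Field F] [Fintype F] (hF : Fintype.card F = 4) :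
    Nonempty (G ≃* MulAut (GL (Fin 3) F ⧸ Subgroup.center (GL (Fin 3) F))) := by
  obtain ⟨K, hKn, hK, hKs, hnab, hCIT, hC⟩ := Setting.main S hf hO fourHyp hcard
  haveI := hKn
  haveI := hKs
  obtain ⟨F', iF, jF, hF', ⟨e⟩⟩ := isL34_of_card hnab hCIT hK
  haveI : Fact (Nat.Prime 2) := ⟨Nat.prime_two⟩
  have hpgl : Nat.card (Matrix.ProjGenLinGroup (Fin 3) F') = 60480 := by
    have h1 := Cfsg.Agent.S0813.result (F := F') 2 2 (by norm_num) (by rw [hF']; rfl) 3 (by norm_num)
      (by omega)
    rw [show Nat.card (Matrix.ProjGenLinGroup (Fin 3) F') =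
        Nat.card (GL (Fin 3) F' ⧸ Subgroup.center (GL (Fin 3) F')) from rfl]
    have h2 := (Subgroup.center (GL (Fin 3) F')).index_mul_card
    rw [Subgroup.index_eq_card, Classical.card_GL_fin' (F := F') 3, Nat.card_eq_fintype_card (α := F'),
      hF'] at h2
    have h3 : Nat.card (Subgroup.center (GL (Fin 3) F')) = 3 := by
      rw [Classical.card_center_GL, Classical.card_units_field, Nat.card_eq_fintype_card, hF']
    rw [h3] at h2
    norm_num [Finset.prod_range_succ] at h2
    omega
  have hfinj : Function.Injective ((MulAut.congr e).toMonoidHom.comp (MulAut.conjNormal (H := K))) := by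
    show Function.Injective ((MulAut.congr e) ∘ (MulAut.conjNormal (H := K)))
    refine (MulAut.congr e).injective.comp ((injective_iff_map_eq_one _).2 fun g hg => ?_)
    rw [← Subgroup.mem_bot, ← hC, Subgroup.mem_centralizer_iff]
    intro k hk
    have h1 := congrArg Subtype.val (DFunLike.congr_fun hg ⟨k, hk⟩)
    rw [MulAut.conjNormal_apply] at h1
    exact (mul_inv_eq_iff_eq_mul.1 h1).symm
  have hbij : Function.Bijective ((MulAut.congr e).toMonoidHom.comp (MulAut.conjNormal (H := K))) := by
    refine hfinj.bijective_of_nat_card_le (le_of_eq ?_)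
    rw [Cfsg.Agent.S0813.result (F := F') 2 2 (by norm_num) (by rw [hF']; rfl) 3 (by norm_num) (by omega),
      hpgl, hcard]
    norm_num
  obtain ⟨σ⟩ : Nonempty (F' ≃+* F) := ⟨FiniteField.ringEquivOfCardEq (hF'.trans hF.symm)⟩
  obtain ⟨c⟩ := mulAut_pgl_equiv (F := F') hF'
  let gl : GL (Fin 3) F' ≃* GL (Fin 3) F := Units.mapEquiv σ.mapMatrix.toMulEquiv
  have hmap : (Subgroup.center (GL (Fin 3) F')).map gl.toMonoidHom = Subgroup.center (GL (Fin 3) F) := by
    ext g
    obtain ⟨g, rfl⟩ := gl.surjective g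
    simp only [Subgroup.mem_map_equiv, MulEquiv.symm_apply_apply, Subgroup.mem_center_iff]
    exact ⟨fun h x => by
      obtain ⟨x, rfl⟩ := gl.surjective x
      rw [← map_mul, h, map_mul], fun h x => gl.injective (by rw [map_mul, h, map_mul])⟩
  exact ⟨(MulEquiv.ofBijective _ hbij).trans (c.trans (MulAut.congr
    (QuotientGroup.congr _ _ gl hmap)))⟩

end CfsgLib.L34Cent
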