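import Cfsg.Agent.Lib.L34Cent.Local

/-!
# Finite checks for the fusion of the central involution
-/

set_option autoImplicit false
set_option maxRecDepth 100000

namespace CfsgLib.L34Cent

/-- the elementary subgroup of order sixteen above `7` -/
def aL : List ℕ := [0, 7, 16, 23, 360, 367, 376, 383, 384, 391, 400, 407, 744, 751, 760, 767]

/-- the number of elements of a list commuting with one of them -/
def commCount (k : ℕ) (l : List ℕ) (a : ℕ) : ℕ :=
  (l.filter fun q => mulN k q a == mulN k a q).length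

theorem table_check : ∀ k ∈ List.range 4, ∀ p ∈ clsL k, p.1 ≠ zN → p.1 ≠ uN → p.1 ≠ 7 →
    (k, p.1, sylL k p.1) ∈ sylTbl.filter (fun q => q.2.1 != 0) ∧
      (sylL k p.1).length ∈ [16, 32] ∧ p.1 ≠ 0 := by decide +kernel

theorem cls_special : ∀ k ∈ List.range 4, ∀ p ∈ clsL k, (p.1 = zN → p.2 = [zN]) ∧
    (p.1 = uN → p.2 = [uN, zuN]) ∧
    (p.1 = 7 → (k = 0 ∨ k = 2) ∧ 391 ∈ p.2) := by decide +kernel

theorem seven_check : ∀ k ∈ [0, 2], (k, 7, sylL k 7) ∈ sylTbl.filter (fun q => q.2.1 != 0) ∧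
    (sylL k 7).length = 32 ∧ IsSub k aL ∧ (∀ a ∈ aL, a ∈ sylL k 7) ∧
    (∀ n ∈ sqCand k (sylL k 7), n ∈ [0, 7, zN, 391]) ∧
    (∀ a ∈ aL, mulN k a a = 0 ∧ 16 ≤ commCount k (sylL k 7) a) ∧
    (∀ b ∈ sylL k 7, mulN k b b = 0 → 16 ≤ commCount k (sylL k 7) b → b ∈ aL) := by
  decide +kernel

theorem seven_orbit : ∀ k ∈ [0, 2], ∀ m ∈ aL, m ∈ [0, zN, uN, zuN] ∨
    ∃ n ∈ els, cjN k n 391 = m ∧ ∀ a ∈ aL, cjN k n a ∈ aL := by decide +kernel

theorem central_K : ∀ k ∈ List.range 4, ∀ m ∈ centL k uN,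
    (∀ a ∈ centL k uN, mulN k m a = mulN k a m) → m ∈ [0, uN, zN, zuN] := by decide +kernel

theorem root_count : ∀ k ∈ List.range 4, k ≠ 0 →
    ((centL k uN).filter fun q => mulN k q q == zN).length ≠
      ((centL k uN).filter fun q => mulN k q q == zuN).length := by decide +kernel

theorem order_three_check : ∀ k ∈ List.range 4, ∀ m ∈ els, powN k m 3 = 0 → m = 0 ∨
    ∃ n ∈ [24, 1, 2, 6, 12, 48], cjN k n m ≠ m ∧ cjN k n m ≠ mulN k m m := by decide +kernel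

end CfsgLib.L34Cent
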