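import Cfsg.Agent.Lib.L34Cent.Syl
import Cfsg.Agent.Lib.L34Cent.FusionCheck
import Cfsg.Agent.Lib.Small.ExtraspecialThirtyTwo
import Cfsg.Agent.Lib.Involutions.ZStar.Main
import Cfsg.Agent.Lib.Base.Cores
import Cfsg.Agent.S0144

/-!
# Fusion of the central involution
-/

set_option autoImplicit false
set_option linter.unusedSectionVars false
set_option linter.style.haveILetI false
set_option maxRecDepth 100000
set_option maxHeartbeats 1000000

namespace CfsgLib.L34Cent

open Cfsg

universe u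

theorem card_cent_eq_of_conj {G : Type u} [Group G] {a b : G} (h : IsConj a b) :
    Nat.card (Subgroup.centralizer ({a} : Set G)) =
      Nat.card (Subgroup.centralizer ({b} : Set G)) := by
  obtain ⟨g, rfl⟩ := isConj_iff.1 h
  refine Nat.card_congr (Equiv.subtypeEquiv (MulAut.conj g).toEquiv fun x => ?_)
  rw [Subgroup.mem_centralizer_singleton_iff, Subgroup.mem_centralizer_singleton_iff]
  show x * a = a * x ↔ (g * x * g⁻¹) * (g * a * g⁻¹) = (g * a * g⁻¹) * (g * x * g⁻¹)
  rw [show (g * x * g⁻¹) * (g * a * g⁻¹) = g * (x * a) * g⁻¹ by group,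
    show (g * a * g⁻¹) * (g * x * g⁻¹) = g * (a * x) * g⁻¹ by group, mul_left_inj, mul_right_inj]

theorem centL_nodup (k a : ℕ) : (centL k a).Nodup := List.nodup_range.filter _

attribute [local irreducible] sylL sqCand centL in
theorem entry_sub {k a : ℕ} (he : (k, a, sylL k a) ∈ sylTbl.filter (fun q => q.2.1 != 0)) :
    IsSub k (sylL k a) :=
  (syl_check_small (k, a, sylL k a) he).1

attribute [local irreducible] sylL sqCand centL

namespace Cen

variable {k : ℕ} {G : Type u} [Group G] [Finite G] {z : G} (D : Cen k z)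
include D

/-- The two-part of the centraliser of an involution, when `z` cannot be moved inside. -/
theorem two_part {a : ℕ} (he : (k, a, sylL k a) ∈ sylTbl.filter (fun q => q.2.1 != 0))
    {e : ℕ} (hlen : (sylL k a).length = 2 ^ e)
    (hfix : ∀ n ∈ sqCand k (sylL k a), n ≠ 0 → n ≠ zN →
      ∀ g ∈ Subgroup.centralizer ({D.val a} : Set G),
      (∀ p ∈ D.grp (entry_sub he), g * p * g⁻¹ ∈ D.grp (entry_sub he)) →
        g * z * g⁻¹ ≠ D.val n) :
    ¬ 2 ^ (e + 1) ∣ Nat.card (Subgroup.centralizer ({D.val a} : Set G)) := by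
  have hchk := syl_check_small (k, a, sylL k a) he
  have hs : IsSub k (sylL k a) := hchk.1
  have hz : zN ∈ sylL k a := hchk.2.1
  have hr : ∃ r ∈ sylL k a, mulN k r r = zN := hchk.2.2.1
  have ha0 : a ≠ 0 := by simpa using (List.mem_filter.1 he).2
  obtain ⟨ha, hcm, h1, h2⟩ :
      a < 768 ∧ (∀ m ∈ sylL k a, mulN k m a = mulN k a m) ∧
      (centL k a).length / (sylL k a).length % 2 = 1 ∧
      (centL k a).length % (sylL k a).length = 0 := hchk.2.2.2.1 ha0
  refine D.not_dvd_card hs hz hr hlen (D.grp_le_cent hs ha hcm) ?_ hfix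
  rw [D.card_cent_inf ha, pow_succ]
  intro h
  obtain ⟨c, hc⟩ := h
  simp only [hlen] at h1 h2
  rw [hc, mul_assoc, Nat.mul_div_cancel_left _ (by positivity)] at h1
  omega

/-- The classes outside are not fused with the central involution. -/
theorem not_conj_out {p : Nat × List Nat} (hp : p ∈ clsL k) (h1 : p.1 ≠ zN) (h2 : p.1 ≠ uN)
    (h3 : p.1 ≠ 7) : ¬ IsConj z (D.val p.1) := by
  intro hc
  obtain ⟨he, hlen, -⟩ := table_check k D.hkr p hp h1 h2 h3
  obtain ⟨e, he', he5⟩ : ∃ e, (sylL k p.1).length = 2 ^ e ∧ e ≤ 5 := by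
    simp only [List.mem_cons, List.not_mem_nil, or_false] at hlen
    rcases hlen with h | h
    exacts [⟨4, by rw [h]; norm_num, by norm_num⟩, ⟨5, by rw [h]; norm_num, le_rfl⟩]
  refine D.two_part he he' (fun n hn h0 hz => ?_) ?_
  · rcases (syl_check_small (_, _, _) he).2.2.2.2 with e7 | h
    · exact absurd e7 h3
    · rcases h n hn with e0 | e0
      exacts [absurd e0 h0, absurd e0 hz]
  · rw [← card_cent_eq_of_conj hc, D.card_cent, show (768 : ℕ) = 2 ^ 6 * 12 by norm_num]
    exact dvd_mul_of_dvd_left (pow_dvd_pow 2 (by omega)) _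

theorem uN_lt : uN < 768 := by norm_num [uN]

theorem mem_seven {p : Nat × List Nat} (hp : p ∈ clsL k) (h7 : p.1 = 7) :
    (k ∈ [0, 2]) ∧ IsConj (D.val 7) (D.val 391) := by
  obtain ⟨hk, hm⟩ := (cls_special k D.hkr p hp).2.2 h7
  refine ⟨by simpa using hk, ?_⟩
  have := D.cls_conj hp hm
  rwa [h7] at this

/-- The centraliser of `7` has a Sylow subgroup of order `32`, unless `7` is fused with `z`. -/
theorem seven_two_part {p : Nat × List Nat} (hp : p ∈ clsL k) (h7 : p.1 = 7)
    (hn7 : ¬ IsConj z (D.val 7)) :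
    ¬ 2 ^ 6 ∣ Nat.card (Subgroup.centralizer ({D.val 7} : Set G)) := by
  obtain ⟨hk2, h391⟩ := D.mem_seven hp h7
  obtain ⟨he, hlen, -, -, hcand, -, -⟩ := seven_check k hk2
  refine D.two_part he (e := 5) (by rw [hlen]; norm_num) fun n hn h0 hz g _ _ hgz => hn7 ?_
  have hc : IsConj z (D.val n) := isConj_iff.2 ⟨g, hgz⟩
  have := hcand n hn
  simp only [List.mem_cons, List.not_mem_nil, or_false] at this
  rcases this with rfl | rfl | rfl | rfl
  exacts [absurd rfl h0, hc, absurd rfl hz, hc.trans h391.symm]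

/-- If `z` is not fused with `u₄` it is not fused with `7`. -/
theorem not_conj_seven {p : Nat × List Nat} (hp : p ∈ clsL k) (h7 : p.1 = 7)
    (hnu : ¬ IsConj z (D.val uN)) : ¬ IsConj z (D.val 7) := by
  classical
  intro hc
  obtain ⟨hk2, h391⟩ := D.mem_seven hp h7
  obtain ⟨he, hlen, hA, hAP, hcand, hA1, hA2⟩ := seven_check k hk2
  have hzA : zN ∈ aL := by decide
  have hl32 : ∀ m ∈ sylL k 7, m < 768 := fun m hm =>
    ((entry_sub he).2.2.1 m hm).1
  have hAlt : ∀ m ∈ aL, m < 768 := fun m hm => (hA.2.2.1 m hm).1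
  -- an element moving `z` inside the centraliser of `7`
  obtain ⟨g, hg, hgP, hgz⟩ : ∃ g ∈ Subgroup.centralizer ({D.val 7} : Set G),
      (∀ q ∈ D.grp (entry_sub he), g * q * g⁻¹ ∈ D.grp (entry_sub he)) ∧
      g * z * g⁻¹ = D.val 391 := by
    by_contra hno
    push Not at hno
    refine D.two_part he (e := 5) (by rw [hlen]; norm_num) (fun n hn h0 hz g hg hgP hgz => ?_) ?_
    · have := hcand n hn
      simp only [List.mem_cons, List.not_mem_nil, or_false] at this
      rcases this with rfl | rfl | rfl | rfl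
      · exact h0 rfl
      · have e : D.val 7 = g * D.val 7 * g⁻¹ := by
          rw [Subgroup.mem_centralizer_singleton_iff] at hg
          rw [hg, mul_inv_cancel_right]
        rw [e, mul_left_inj, mul_right_inj] at hgz
        have := D.val_inj zN 7 (hAlt _ hzA) (by norm_num) (D.val_z.trans hgz)
        exact absurd this (by decide)
      · exact hz rfl
      · exact hno g hg hgP hgz
    · rw [← card_cent_eq_of_conj hc, D.card_cent]
      norm_num
  set P := D.grp (entry_sub he)
  -- it normalises the elementary subgroup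
  set A := D.grp hA with hAdef
  have hgA : ∀ a ∈ A, g * a * g⁻¹ ∈ A := by
    rintro _ ⟨a, ha, rfl⟩
    obtain ⟨b, hb, hbv⟩ := hgP _ ⟨a, hAP a ha, rfl⟩
    obtain ⟨hsq, hcount⟩ := hA1 a ha
    refine ⟨b, hA2 b hb (D.val_eq_one (mulN_lt ..) ?_) (hcount.trans ?_), hbv⟩
    · rw [D.val_mul b b (hl32 b hb) (hl32 b hb), hbv,
        show g * D.val a * g⁻¹ * (g * D.val a * g⁻¹) = g * (D.val a * D.val a) * g⁻¹ by group,
        ← D.val_mul a a (hAlt a ha) (hAlt a ha), hsq, D.val_zero, mul_one, mul_inv_cancel]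
    · have hc : ∀ c ∈ sylL k 7, mulN k c a = mulN k a c →
          ∃ d ∈ (sylL k 7).filter (fun q => mulN k q b == mulN k b q),
            D.val d = g * D.val c * g⁻¹ := fun c hc e => by
        obtain ⟨d, hd, hdv⟩ := hgP _ ⟨c, hc, rfl⟩
        refine ⟨d, List.mem_filter.2 ⟨hd, beq_iff_eq.2 (D.mul_val_eq (hl32 d hd) (hl32 b hb) ?_)⟩,
          hdv⟩
        rw [hdv, hbv, show g * D.val c * g⁻¹ * (g * D.val a * g⁻¹) =
            g * (D.val c * D.val a) * g⁻¹ by group,
          D.val_commute (hl32 c hc) (hAlt a ha) e]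
        group
      have hnd := (entry_sub he).1
      unfold commCount
      rw [← D.card_image (fun m hm => hl32 m (List.mem_of_mem_filter hm)) (hnd.filter _),
        ← D.card_image (fun m hm => hl32 m (List.mem_of_mem_filter hm)) (hnd.filter _)]
      refine Nat.card_le_card_of_injective (fun x => ⟨g * x.1 * g⁻¹, ?_⟩) ?_
      · obtain ⟨x, m, hm, rfl⟩ := x
        exact hc m (List.mem_of_mem_filter hm) (beq_iff_eq.1 (List.mem_filter.1 hm).2)
      · intro x y h
        exact Subtype.ext (by simpa using congrArg Subtype.val h)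
  have hAg : g ∈ Subgroup.normalizer (A : Set G) := by
    refine Subgroup.mem_set_normalizer_iff.2 fun a => ⟨hgA a, fun ha => ?_⟩
    have hfin : (fun x : A => (⟨g * x.1 * g⁻¹, hgA x.1 x.2⟩ : A)).Surjective :=
      Finite.surjective_of_injective fun x y h =>
        Subtype.ext (by simpa using congrArg Subtype.val h)
    obtain ⟨x, hx⟩ := hfin ⟨_, ha⟩
    have : a = x.1 := by simpa using (congrArg Subtype.val hx).symm
    rw [this]; exact x.2
  set N := Subgroup.normalizer (A : Set G) with hN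
  -- the orbit of `z` has thirteen points
  let act : MulAction N G := MulAction.compHom G (MulAut.conj.comp N.subtype)
  have horb : MulAction.orbit N z = D.val '' {m | m ∈ aL ∧ m ∉ [0, uN, zuN]} := by
    ext v
    constructor
    · rintro ⟨⟨n, hn⟩, rfl⟩
      show n * z * n⁻¹ ∈ _
      obtain ⟨m, hm, hmv⟩ := (Subgroup.mem_set_normalizer_iff.1 hn z).1 ⟨zN, hzA, D.val_z⟩
      have hcz : IsConj z (D.val m) := isConj_iff.2 ⟨n, hmv.symm⟩
      refine ⟨m, ⟨hm, ?_⟩, hmv⟩
      simp only [List.mem_cons, List.not_mem_nil, or_false]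
      rintro (rfl | rfl | rfl)
      · rw [D.val_zero, isConj_one_left] at hcz
        have := D.ord
        rw [hcz, orderOf_one] at this
        norm_num at this
      · exact hnu hcz
      · obtain ⟨q, hq, hq1⟩ : ∃ q ∈ clsL k, q.1 = uN := by
          have : ∀ k ∈ List.range 4, ∃ q ∈ clsL k, q.1 = uN := by decide +kernel
          exact this k D.hkr
        have := D.cls_conj hq (m := zuN) (by rw [(cls_special k D.hkr q hq).2.1 hq1]; simp)
        rw [hq1] at this
        exact hnu (hcz.trans this.symm)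
    · rintro ⟨m, ⟨hm, hm0⟩, rfl⟩
      by_cases hmz : m = zN
      · exact ⟨1, by show (1 : G) * z * (1 : G)⁻¹ = _; rw [hmz, D.val_z]; simp⟩
      obtain h0 | ⟨n, hn, hnm, hnA⟩ := seven_orbit k hk2 m hm
      · simp only [List.mem_cons, List.not_mem_nil, or_false] at h0 hm0
        tauto
      have hnN : D.val n ∈ N := by
        refine Subgroup.mem_set_normalizer_iff.2 fun a => ⟨?_, fun ha => ?_⟩
        · rintro ⟨b, hb, rfl⟩
          exact ⟨cjN k n b, hnA b hb, D.val_cj (els_lt hn) (hAlt b hb)⟩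
        · have hfin : (fun x : A => (⟨D.val n * x.1 * (D.val n)⁻¹, by
              obtain ⟨b, hb, e⟩ := x.2
              exact ⟨cjN k n b, hnA b hb, by rw [D.val_cj (els_lt hn) (hAlt b hb), e]⟩⟩ :
              A)).Surjective :=
            Finite.surjective_of_injective fun x y h =>
              Subtype.ext (by simpa using congrArg Subtype.val h)
          obtain ⟨x, hx⟩ := hfin ⟨_, ha⟩
          have : a = x.1 := by simpa using (congrArg Subtype.val hx).symm
          rw [this]; exact x.2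
      refine ⟨⟨D.val n * g, mul_mem hnN hAg⟩, ?_⟩
      show D.val n * g * z * (D.val n * g)⁻¹ = D.val m
      rw [← hnm, D.val_cj (els_lt hn) (by norm_num), ← hgz]
      group
  have h13 : 13 ∣ Nat.card N := by
    have hcard : Nat.card (MulAction.orbit N z) = 13 := by
      rw [horb, Nat.card_image_of_injOn (fun a ha b hb e =>
        D.val_inj a b (hAlt a ha.1) (hAlt b hb.1) e)]
      rw [show {m | m ∈ aL ∧ m ∉ [0, uN, zuN]} =
        ↑(aL.toFinset.filter fun m => m ∉ [0, uN, zuN]) by ext; simp]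
      rw [Nat.card_coe_set_eq, Set.ncard_coe_finset]
      decide +kernel
    have := Nat.card_congr (MulAction.orbitProdStabilizerEquivGroup N z)
    rw [Nat.card_prod, hcard] at this
    exact Dvd.intro _ this
  haveI : Fact (Nat.Prime 13) := ⟨by norm_num⟩
  obtain ⟨⟨x, hxN⟩, hx⟩ := exists_prime_orderOf_dvd_card' 13 h13
  have hx' : orderOf x = 13 := by
    rwa [Subgroup.orderOf_mk] at hx
  let σ : Equiv.Perm A := Equiv.ofBijective
    (fun a => ⟨x * a.1 * x⁻¹, (Subgroup.mem_set_normalizer_iff.1 hxN a.1).1 a.2⟩)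
    (Finite.injective_iff_bijective.1 fun a b h =>
      Subtype.ext (by simpa using congrArg Subtype.val h))
  have hσn : ∀ (i : ℕ) (a : A), ((σ ^ i) a).1 = x ^ i * a.1 * (x ^ i)⁻¹ := by
    intro i
    induction i with
    | zero => intro a; simp
    | succ i ih =>
      intro a
      rw [pow_succ', Equiv.Perm.mul_apply]
      show x * ((σ ^ i) a).1 * x⁻¹ = _
      rw [ih, pow_succ']
      group
  have hmod := CfsgLib.Small.card_fixed_modEq (p := 13) (σ := σ) (Equiv.ext fun a =>
    Subtype.ext (by rw [hσn, ← hx', pow_orderOf_eq_one]; simp))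
  have hF : Nat.card {a : A // σ a = a} =
      Nat.card ↥(A ⊓ Subgroup.centralizer ({x} : Set G)) := by
    refine Nat.card_congr
      { toFun := fun a => ⟨a.1.1, a.1.2, ?_⟩
        invFun := fun a => ⟨⟨a.1, a.2.1⟩, Subtype.ext ?_⟩
        left_inv := fun _ => rfl
        right_inv := fun _ => rfl }
    · have := congrArg Subtype.val a.2
      exact Subgroup.mem_centralizer_singleton_iff.2 (mul_inv_eq_iff_eq_mul.1 this).symm
    · show x * a.1 * x⁻¹ = a.1
      exact mul_inv_eq_iff_eq_mul.2 (Subgroup.mem_centralizer_singleton_iff.1 a.2.2).symm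
  have hA16 : Nat.card A = 16 := by rw [hAdef, D.card_grp]; rfl
  have hdiv : Nat.card ↥(A ⊓ Subgroup.centralizer ({x} : Set G)) ∣ 16 :=
    hA16 ▸ Subgroup.card_dvd_of_le inf_le_left
  have hfull : Nat.card ↥(A ⊓ Subgroup.centralizer ({x} : Set G)) = 16 := by
    rw [hF, hA16] at hmod
    have hle := Nat.le_of_dvd (by norm_num) hdiv
    generalize Nat.card ↥(A ⊓ Subgroup.centralizer ({x} : Set G)) = n at hdiv hmod hle
    have h3 : n % 13 = 3 := hmod
    rcases (show n = 3 ∨ n = 16 by omega) with rfl | rfl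
    · norm_num at hdiv
    · rfl
  have hAx : A ≤ Subgroup.centralizer ({x} : Set G) := by
    rw [← inf_eq_left]
    exact Subgroup.eq_of_le_of_card_ge inf_le_left (by rw [hfull, hA16])
  have hxz : x ∈ Subgroup.centralizer ({z} : Set G) := by
    have := hAx (⟨zN, hzA, D.val_z⟩ : z ∈ A)
    rw [Subgroup.mem_centralizer_singleton_iff] at this ⊢
    exact this.symm
  have := hx' ▸ Subgroup.orderOf_dvd_natCard _ hxz
  rw [D.card_cent] at this
  norm_num at this

/-- Either `z` is isolated or it is fused with `u₄`. -/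
theorem isolated_or : IsIsolatedInvolution z ∨ IsConj z (D.val uN) := by
  by_cases hu : IsConj z (D.val uN)
  · exact Or.inr hu
  refine Or.inl ⟨D.ord, fun g hg => ?_⟩
  have hc : IsConj z (g * z * g⁻¹) := isConj_iff.2 ⟨g, rfl⟩
  have ho : orderOf (g * z * g⁻¹) = 2 := ((MulAut.conj g).orderOf_eq z).trans D.ord
  obtain ⟨m, hm, hmv, p, hp, hmp⟩ := D.invol_val ho hg.eq.symm
  have hcp : IsConj z (D.val p.1) := hc.trans (hmv ▸ (D.cls_conj hp hmp).symm)
  by_cases h1 : p.1 = zN
  · rw [(cls_special k D.hkr p hp).1 h1, List.mem_singleton] at hmp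
    rw [← hmv, hmp, D.val_z]
  · by_cases h2 : p.1 = uN
    · exact absurd (h2 ▸ hcp) hu
    · by_cases h3 : p.1 = 7
      · exact absurd (h3 ▸ hcp) (D.not_conj_seven hp h3 hu)
      · exact absurd hcp (D.not_conj_out hp h1 h2 h3)

/-- Fusion with `u₄` determines the model. -/
theorem k_eq_zero (hu : IsConj z (D.val uN)) : k = 0 := by
  classical
  by_contra hk
  set Cu := Subgroup.centralizer ({D.val uN} : Set G) with hCu
  set K := Cu ⊓ Subgroup.centralizer ({z} : Set G) with hK
  have h768 : Nat.card Cu = 768 := (card_cent_eq_of_conj hu).symm.trans D.card_cent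
  have h384 : Nat.card K = 384 := by
    rw [hK, D.card_cent_inf D.uN_lt]
    have : ∀ j ∈ List.range 4, (centL j uN).length = 384 := by decide +kernel
    exact this k D.hkr
  have hKC : K ≤ Cu := inf_le_left
  have hi : (K.subgroupOf Cu).index = 2 := by
    have h := Subgroup.card_mul_index (K.subgroupOf Cu)
    rw [Nat.card_congr (Subgroup.subgroupOfEquivOfLe hKC).toEquiv, h384, h768] at h
    omega
  have hNK := Subgroup.normal_of_index_eq_two hi
  obtain ⟨n, hn, hnK⟩ := SetLike.exists_of_lt (lt_of_le_of_ne hKC fun e => by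
    rw [e] at h384; omega)
  have hnc : ∀ q ∈ K, n * q * n⁻¹ ∈ K := fun q hq =>
    hNK.conj_mem ⟨q, hKC hq⟩ hq ⟨n, hn⟩
  have hnc' : ∀ q ∈ K, n⁻¹ * q * n ∈ K := fun q hq =>
    hNK.conj_mem' ⟨q, hKC hq⟩ hq ⟨n, hn⟩
  have hKval : ∀ q ∈ K, ∃ m ∈ centL k uN, D.val m = q := by
    rintro q ⟨h1, h2⟩
    obtain ⟨m, hm, rfl⟩ := D.mem_cent_iff.1 h2
    exact ⟨m, D.centL_mem.2 ⟨hm, D.mul_val_eq hm D.uN_lt
      (Subgroup.mem_centralizer_singleton_iff.1 h1)⟩, rfl⟩
  have hvalK : ∀ m ∈ centL k uN, D.val m ∈ K := fun m hm => by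
    obtain ⟨hm, e⟩ := D.centL_mem.1 hm
    exact ⟨Subgroup.mem_centralizer_singleton_iff.2 (D.val_commute hm D.uN_lt e),
      D.mem_cent_iff.2 ⟨m, hm, rfl⟩⟩
  have hzK : z ∈ K := ⟨Subgroup.mem_centralizer_singleton_iff.2 (D.val_comm _ D.uN_lt).symm,
    Subgroup.mem_centralizer_singleton_iff.2 rfl⟩
  obtain ⟨c, hc, hcv⟩ := hKval _ (hnc z hzK)
  have hclt := (D.centL_mem.1 hc).1
  have hcs := central_K k D.hkr c hc (fun a ha => D.mul_val_eq hclt (D.centL_mem.1 ha).1 (by
    obtain ⟨b, hb, hbv⟩ := hKval _ (hnc' _ (hvalK a ha))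
    have h := D.val_comm b (D.centL_mem.1 hb).1
    rw [hbv] at h
    rw [hcv]
    calc n * z * n⁻¹ * D.val a = n * (z * (n⁻¹ * D.val a * n)) * n⁻¹ := by group
      _ = n * (n⁻¹ * D.val a * n * z) * n⁻¹ := by rw [h]
      _ = D.val a * (n * z * n⁻¹) := by group))
  simp only [List.mem_cons, List.not_mem_nil, or_false] at hcs
  rcases hcs with rfl | rfl | rfl | rfl
  · rw [D.val_zero, eq_comm, conj_eq_one_iff] at hcv
    have := D.ord
    rw [hcv, orderOf_one] at this
    norm_num at this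
  · have e : n * D.val uN * n⁻¹ = D.val uN := by
      rw [Subgroup.mem_centralizer_singleton_iff.1 hn, mul_inv_cancel_right]
    rw [← e, mul_left_inj, mul_right_inj] at hcv
    have := D.val_inj zN uN (by norm_num [zN]) D.uN_lt (D.val_z.trans hcv.symm)
    exact absurd this (by decide)
  · rw [D.val_z, eq_mul_inv_iff_mul_eq] at hcv
    exact hnK ⟨hn, Subgroup.mem_centralizer_singleton_iff.2 hcv.symm⟩
  · refine root_count k D.hkr hk ?_
    have hlt : ∀ (f : ℕ → Bool), ∀ m ∈ (centL k uN).filter f, m < 768 := fun f m hm =>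
      (D.centL_mem.1 (List.mem_of_mem_filter hm)).1
    have hnd : (centL k uN).Nodup := centL_nodup _ _
    rw [← D.card_image (hlt _) (hnd.filter _), ← D.card_image (hlt _) (hnd.filter _)]
    refine Nat.card_congr (Equiv.subtypeEquiv (MulAut.conj n).toEquiv fun q => ?_)
    show _ ↔ ∃ m ∈ _, D.val m = n * q * n⁻¹
    constructor
    · rintro ⟨m, hm, rfl⟩
      obtain ⟨hm, hmm⟩ := List.mem_filter.1 hm
      obtain ⟨b, hb, hbv⟩ := hKval _ (hnc _ (hvalK m hm))
      refine ⟨b, List.mem_filter.2 ⟨hb, beq_iff_eq.2 ?_⟩, hbv⟩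
      have hb' := (D.centL_mem.1 hb).1
      have hm' := (D.centL_mem.1 hm).1
      refine D.val_inj _ _ (mulN_lt ..) (by norm_num [zuN]) ?_
      rw [D.val_mul b b hb' hb', hbv, hcv, show n * D.val m * n⁻¹ * (n * D.val m * n⁻¹) =
        n * (D.val m * D.val m) * n⁻¹ by group, ← D.val_mul m m hm' hm', beq_iff_eq.1 hmm,
        D.val_z]
    · rintro ⟨b, hb, hbv⟩
      obtain ⟨hb, hbb⟩ := List.mem_filter.1 hb
      obtain ⟨m, hm, hmv⟩ := hKval _ (hnc' _ (hvalK b hb))
      have hq : D.val m = q := by rw [hmv, hbv]; group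
      refine ⟨m, List.mem_filter.2 ⟨hm, beq_iff_eq.2 ?_⟩, hq⟩
      have hb' := (D.centL_mem.1 hb).1
      have hm' := (D.centL_mem.1 hm).1
      refine D.val_inj _ _ (mulN_lt ..) (by norm_num [zN]) ?_
      rw [D.val_mul m m hm' hm', hmv, show n⁻¹ * D.val b * n * (n⁻¹ * D.val b * n) =
        n⁻¹ * (D.val b * D.val b) * n by group, ← D.val_mul b b hb' hb', beq_iff_eq.1 hbb,
        D.val_z, hcv]
      group

/-- No element of the odd core other than one commutes with `z`. -/
theorem oddCore_fix {r : G} (hr : r ∈ oddCore G) (hc : r * z = z * r) : r = 1 := by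
  classical
  set R := oddCore G ⊓ Subgroup.centralizer ({z} : Set G) with hR
  haveI : (oddCore G).Normal := by unfold Cfsg.oddCore; infer_instance
  have hRr : r ∈ R := ⟨hr, Subgroup.mem_centralizer_singleton_iff.2 hc⟩
  have hodd : Odd (Nat.card R) :=
    Odd.of_dvd_nat (CfsgLib.Base.odd_card_oddCore G) (Subgroup.card_dvd_of_le inf_le_left)
  have hd : Nat.card R ∣ 768 := D.card_cent ▸ Subgroup.card_dvd_of_le inf_le_right
  have h3 : Nat.card R ∣ 3 := by
    have hcop : Nat.Coprime (Nat.card R) (2 ^ 8) := (Nat.coprime_two_right.2 hodd).pow_right 8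
    exact hcop.dvd_of_dvd_mul_left (by norm_num; exact hd)
  obtain ⟨m, hm, hmv⟩ := D.val_surj r hc
  have hr3 : r ^ 3 = 1 :=
    orderOf_dvd_iff_pow_eq_one.1 ((Subgroup.orderOf_dvd_natCard R hRr).trans h3)
  by_contra hne
  rcases order_three_check k D.hkr m (mem_els hm)
    (D.val_eq_one (powN_lt ..) (by rw [D.val_pow hm, hmv, hr3])) with rfl | ⟨n, hn, h1, h2⟩
  · exact hne (hmv ▸ D.val_zero)
  have hn' : n < 768 := by
    simp only [List.mem_cons, List.not_mem_nil, or_false] at hn
    omega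
  have hle : Nat.card R ≤ 3 := Nat.le_of_dvd (by norm_num) h3
  have hmem : D.val (cjN k n m) ∈ R := by
    rw [D.val_cj hn' hm, hmv]
    refine ⟨Subgroup.Normal.conj_mem inferInstance r hr _, ?_⟩
    have hnc : D.val n ∈ Subgroup.centralizer ({z} : Set G) := D.mem_cent_iff.2 ⟨n, hn', rfl⟩
    exact Subgroup.mul_mem _ (Subgroup.mul_mem _ hnc hRr.2) (Subgroup.inv_mem _ hnc)
  -- four distinct elements
  have hr2 : r * r ≠ 1 := fun e => hne (by
    calc r = r ^ 3 * (r * r)⁻¹ := by group
      _ = 1 := by rw [hr3, e]; simp)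
  have hrr : r * r ≠ r := fun e => hne (mul_eq_left.1 e)
  have c1 : D.val (cjN k n m) ≠ r := fun e =>
    h1 (D.val_inj _ _ (cjN_lt ..) hm (e.trans hmv.symm))
  have c2 : D.val (cjN k n m) ≠ r * r := fun e =>
    h2 (D.val_inj _ _ (cjN_lt ..) (mulN_lt ..) (by rw [D.val_mul m m hm hm, hmv, e]))
  have c0 : D.val (cjN k n m) ≠ 1 := fun e => hne (by
    rw [D.val_cj hn' hm, conj_eq_one_iff] at e
    rw [← hmv, e])
  have hfour : 4 ≤ Nat.card R := by
    haveI := Fintype.ofFinite R
    rw [Nat.card_eq_fintype_card]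
    refine le_trans ?_ (Finset.card_le_univ ({1, ⟨r, hRr⟩, ⟨r * r, mul_mem hRr hRr⟩,
      ⟨_, hmem⟩} : Finset R))
    rw [Finset.card_insert_of_notMem, Finset.card_insert_of_notMem,
      Finset.card_insert_of_notMem, Finset.card_singleton]
    · simp [Subtype.ext_iff, c2.symm]
    · simp [Subtype.ext_iff, hrr.symm, c1.symm]
    · simp [Subtype.ext_iff, Ne.symm hne, hr2.symm, c0.symm]
  omega

/-- `z` inverts the odd core. -/
theorem oddCore_inverted {r : G} (hr : r ∈ oddCore G) : z * r * z⁻¹ = r⁻¹ := by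
  haveI : (oddCore G).Normal := by unfold Cfsg.oddCore; infer_instance
  have hW : Odd (Nat.card (oddCore G)) := CfsgLib.Base.odd_card_oddCore G
  let τ : oddCore G → oddCore G := fun w =>
    ⟨(w : G)⁻¹ * (z * w * z⁻¹), mul_mem (inv_mem w.2) (Subgroup.Normal.conj_mem inferInstance _ w.2 z)⟩
  have hinj : Function.Injective τ := by
    intro a b h
    have h' : (a : G)⁻¹ * (z * a * z⁻¹) = (b : G)⁻¹ * (z * b * z⁻¹) := congrArg Subtype.val h
    have := D.oddCore_fix (r := (b : G) * (a : G)⁻¹) (mul_mem b.2 (inv_mem a.2)) (by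
      have e : (b : G) * (a : G)⁻¹ = z * (b * (a : G)⁻¹) * z⁻¹ := by
        calc (b : G) * (a : G)⁻¹ = b * ((a : G)⁻¹ * (z * a * z⁻¹)) * (z * a * z⁻¹)⁻¹ := by group
          _ = b * ((b : G)⁻¹ * (z * b * z⁻¹)) * (z * a * z⁻¹)⁻¹ := by rw [h']
          _ = _ := by group
      conv_lhs => rw [e]
      group)
    exact Subtype.ext (mul_inv_eq_one.1 this).symm
  obtain ⟨w, hw⟩ := Finite.injective_iff_surjective.1 hinj ⟨r, hr⟩
  have hw' : (w : G)⁻¹ * (z * w * z⁻¹) = r := congrArg Subtype.val hw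
  rw [← hw', D.zinv]
  calc z * ((w : G)⁻¹ * (z * w * z)) * z = z * (w : G)⁻¹ * z * w * (z * z) := by group
    _ = ((w : G)⁻¹ * (z * w * z⁻¹))⁻¹ := by rw [D.zz, D.zinv]; simp [mul_assoc, D.zinv]
    _ = _ := by rw [D.zinv]

theorem oddCore_comm : IsMulCommutative ↥(oddCore G) := by
  refine ⟨⟨fun a b => Subtype.ext ?_⟩⟩
  have h1 := D.oddCore_inverted (inv_mem (mul_mem a.2 b.2))
  have h2 := D.oddCore_inverted (inv_mem a.2)
  have h3 := D.oddCore_inverted (inv_mem b.2)
  rw [inv_inv] at h1 h2 h3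
  show (a : G) * b = b * a
  calc (a : G) * b = z * ((a : G) * b)⁻¹ * z⁻¹ := h1.symm
    _ = z * (b : G)⁻¹ * z⁻¹ * (z * (a : G)⁻¹ * z⁻¹) := by group
    _ = b * a := by rw [h2, h3]

/-- An isolated involution leaves a solvable group. -/
theorem solvable_of_isolated (h : IsIsolatedInvolution z) : Group.IsSolvable G := by
  haveI : (oddCore G).Normal := by unfold Cfsg.oddCore; infer_instance
  haveI hC : Group.IsSolvable (Subgroup.centralizer ({z} : Set G)) :=
    Cfsg.Agent.S0144.result 2 3 8 1 Nat.prime_two Nat.prime_three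
      (by rw [D.card_cent]; norm_num)
  haveI hO : Group.IsSolvable (oddCore G) :=
    isSolvable_of_comm fun a b => D.oddCore_comm.is_comm.comm a b
  haveI : Group.IsSolvable (G ⧸ oddCore G) := by
    refine solvable_of_surjective
      (f := (QuotientGroup.mk' (oddCore G)).comp (Subgroup.centralizer ({z} : Set G)).subtype) ?_
    intro q
    obtain ⟨g, rfl⟩ := QuotientGroup.mk'_surjective (oddCore G) q
    obtain ⟨a, ha, c, hc, rfl⟩ := CfsgLib.Involutions.ZStar.exists_mul_centralizer h g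
    exact ⟨⟨c, hc⟩, by
      simp [(QuotientGroup.eq_one_iff a).2 ha]⟩
  exact solvable_of_ker_le_range (oddCore G).subtype (QuotientGroup.mk' (oddCore G))
    (by rw [QuotientGroup.ker_mk', Subgroup.range_subtype])

/-- A nonsolvable group has the true model and fuses `z` with `u₄`. -/
theorem fused_of_not_solvable (h : ¬ Group.IsSolvable G) : k = 0 ∧ IsConj z (D.val uN) := by
  rcases D.isolated_or with hi | hu
  · exact absurd (D.solvable_of_isolated hi) h
  · exact ⟨D.k_eq_zero hu, hu⟩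

/-- With fusion the odd core is trivial. -/
theorem oddCore_eq_bot (hu : IsConj z (D.val uN)) : oddCore G = ⊥ := by
  haveI : (oddCore G).Normal := by unfold Cfsg.oddCore; infer_instance
  obtain ⟨g, hg⟩ := isConj_iff.1 hu
  obtain ⟨p, hp, hp1⟩ : ∃ q ∈ clsL k, q.1 = uN := by
    have : ∀ k ∈ List.range 4, ∃ q ∈ clsL k, q.1 = uN := by decide +kernel
    exact this k D.hkr
  have hu' := D.cls_conj hp (m := zuN) (by rw [(cls_special k D.hkr p hp).2.1 hp1]; simp)
  rw [hp1] at hu'
  obtain ⟨g', hg'⟩ := isConj_iff.1 (hu.trans hu')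
  have inv_conj : ∀ {h v : G}, h * z * h⁻¹ = v → ∀ r ∈ oddCore G, v * r * v⁻¹ = r⁻¹ := by
    rintro h v rfl r hr
    have hr' : h⁻¹ * r * h ∈ oddCore G := by
      simpa using Subgroup.Normal.conj_mem inferInstance r hr h⁻¹
    calc h * z * h⁻¹ * r * (h * z * h⁻¹)⁻¹ = h * (z * (h⁻¹ * r * h) * z⁻¹) * h⁻¹ := by group
      _ = h * (h⁻¹ * r * h)⁻¹ * h⁻¹ := by rw [D.oddCore_inverted hr']
      _ = r⁻¹ := by group
  have hmul : D.val zuN = D.val uN * z := by
    have h0 := D.val_mul uN zN D.uN_lt (by norm_num [zN])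
    have : ∀ k ∈ List.range 4, mulN k uN zN = zuN := by decide +kernel
    rwa [this k D.hkr, D.val_z] at h0
  rw [Subgroup.eq_bot_iff_forall]
  intro r hr
  have e := inv_conj hg' r hr
  rw [hmul, show D.val uN * z * r * (D.val uN * z)⁻¹ =
    D.val uN * (z * r * z⁻¹) * (D.val uN)⁻¹ by group, D.oddCore_inverted hr,
    inv_conj hg _ (inv_mem hr), inv_inv] at e
  exact CfsgLib.Involutions.eq_one_of_eq_inv_of_odd e
    (CfsgLib.Involutions.odd_of_orderOf_dvd (CfsgLib.Base.odd_card_oddCore G)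
      (Subgroup.orderOf_dvd_natCard _ hr))

end Cen

end CfsgLib.L34Cent
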