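import Cfsg.Agent.Lib.L34Cent.Pairs
import Cfsg.Agent.Lib.L34Cent.Setup
import Cfsg.Agent.Lib.Small.ExtraspecialThirtyTwo

/-!
# The centraliser is given by one of the four models
-/

set_option autoImplicit false
set_option linter.unusedSectionVars false
set_option maxRecDepth 100000

namespace CfsgLib.L34Cent

open Subgroup
open CfsgLib.Small.JTwoType (bpow)

universe u

/-- the adjacent transpositions of four points -/
def st : Fin 3 → Fin 4 → Fin 4 := ![![1, 0, 2, 3], ![0, 2, 1, 3], ![0, 1, 3, 2]]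

theorem genIm_st : ∀ t i, genIm t i = 2 ^ (st t i).val := by decide +kernel

theorem st_braid : ∀ i, st 0 (st 1 (st 0 i)) = st 1 (st 0 (st 1 i)) ∧
    st 1 (st 2 (st 1 i)) = st 2 (st 1 (st 2 i)) ∧ st 2 (st 0 i) = st 0 (st 2 i) ∧
    st 0 (st 0 i) = i := by decide +kernel

/-- four of five points, avoiding one -/
def avoid (p : Fin 5) (i : Fin 4) : Fin 5 := Equiv.swap p 4 i.castSucc

/-- an adjacent transposition of the four points -/
def trans5 (p : Fin 5) (t : Fin 3) : Equiv.Perm (Fin 5) :=
  Equiv.swap (avoid p t.castSucc) (avoid p t.succ)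

theorem trans5_spec : ∀ (p : Fin 5) (t : Fin 3), trans5 p t p = p ∧
    ∀ i : Fin 4, trans5 p t (avoid p i) = avoid p (st t i) := by decide +kernel

theorem avoid_inj : ∀ (p : Fin 5) (i j : Fin 4), avoid p i = avoid p j → i = j := by decide +kernel

theorem orbit_table : ∀ O : Finset (Fin 5), 0 ∈ O → O.card ∣ 24 → O.card = 1 ∨ O.card = 4 ∨
    (Finset.univ.filter fun π : Equiv.Perm (Fin 5) => π 0 = 0 ∧ ∀ i ∈ O, π i ∈ O).card * O.card < 24 := by
  decide +kernel

theorem stab_table : ∀ p : Fin 5,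
    (Finset.univ.filter fun π : Equiv.Perm (Fin 5) => π p = p).card = 24 := by decide +kernel

/-- A subgroup of order 24 of the symmetric group of degree five is the stabiliser of a point. -/
theorem exists_fixed (R : Subgroup (Equiv.Perm (Fin 5))) (hR : Nat.card R = 24) :
    ∃ p : Fin 5, ∀ π : Equiv.Perm (Fin 5), π ∈ R ↔ π p = p := by
  classical
  obtain ⟨p, hp⟩ : ∃ p : Fin 5, ∀ π ∈ R, π p = p := by
    set O : Finset (Fin 5) := Finset.univ.filter fun i => ∃ π ∈ R, π 0 = i
    have hO : ∀ i, i ∈ O ↔ ∃ π ∈ R, π 0 = i := fun i => by simp [O]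
    have h0 : (0 : Fin 5) ∈ O := (hO 0).2 ⟨1, one_mem R, rfl⟩
    have hinv : ∀ π ∈ R, ∀ i ∈ O, π i ∈ O := fun π hπ i hi => by
      obtain ⟨ρ, hρ, rfl⟩ := (hO i).1 hi
      exact (hO _).2 ⟨π * ρ, mul_mem hπ hρ, rfl⟩
    have hcard : Nat.card (MulAction.orbit R (0 : Fin 5)) *
        Nat.card (MulAction.stabilizer R (0 : Fin 5)) = 24 := by
      rw [← Nat.card_prod, Nat.card_congr (MulAction.orbitProdStabilizerEquivGroup R (0 : Fin 5)), hR]
    have horb : Nat.card (MulAction.orbit R (0 : Fin 5)) = O.card := by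
      rw [← Nat.card_eq_finsetCard]
      refine Nat.card_congr (Equiv.setCongr (Set.ext fun i => ?_))
      rw [Finset.mem_coe, hO]
      exact ⟨fun ⟨⟨π, hπ⟩, e⟩ => ⟨π, hπ, e⟩, fun ⟨π, hπ, e⟩ => ⟨⟨π, hπ⟩, e⟩⟩
    rw [horb] at hcard
    rcases orbit_table O h0 ⟨_, hcard.symm⟩ with h1 | h4 | hlt
    · obtain ⟨a, ha⟩ := Finset.card_eq_one.1 h1
      refine ⟨0, fun π hπ => ?_⟩
      have h' := hinv π hπ 0 h0
      rw [ha, Finset.mem_singleton] at h' h0
      rw [h', h0]
    · obtain ⟨p, hp⟩ := Finset.card_eq_one.1 (show Oᶜ.card = 1 by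
        rw [Finset.card_compl, h4]; rfl)
      refine ⟨p, fun π hπ => ?_⟩
      have hmem : ∀ i, i ∉ O ↔ i = p := fun i => by
        rw [← Finset.mem_compl, hp, Finset.mem_singleton]
      refine (hmem _).1 fun h => (hmem p).2 rfl ?_
      have := hinv π⁻¹ (inv_mem hπ) _ h
      simpa using this
    · exfalso
      have hle : Nat.card (MulAction.stabilizer R (0 : Fin 5)) ≤
          (Finset.univ.filter fun π : Equiv.Perm (Fin 5) => π 0 = 0 ∧ ∀ i ∈ O, π i ∈ O).card := by
        rw [← Nat.card_eq_finsetCard]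
        refine Nat.card_le_card_of_injective
          (fun s => ⟨((s : R) : Equiv.Perm (Fin 5)), Finset.mem_filter.2
            ⟨Finset.mem_univ _, s.2, hinv _ (s : R).2⟩⟩) fun a b h => ?_
        exact Subtype.ext (Subtype.ext (congrArg Subtype.val h :))
      have := Nat.mul_le_mul_left O.card hle
      rw [mul_comm] at hlt
      omega
  refine ⟨p, fun π => ⟨hp π, fun hπ => ?_⟩⟩
  let f : R → {π : Equiv.Perm (Fin 5) // π ∈ Finset.univ.filter fun π => π p = p} :=
    fun r => ⟨r.1, Finset.mem_filter.2 ⟨Finset.mem_univ _, hp _ r.2⟩⟩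
  have hf : Function.Bijective f := (Nat.bijective_iff_injective_and_card f).2
    ⟨fun a b h => Subtype.ext (congrArg Subtype.val h :), by
      rw [hR, Nat.card_eq_finsetCard, stab_table]⟩
  obtain ⟨r, hr⟩ := hf.2 ⟨π, Finset.mem_filter.2 ⟨Finset.mem_univ _, hπ⟩⟩
  exact (show (r : Equiv.Perm (Fin 5)) = π from congrArg Subtype.val hr) ▸ r.2

namespace Hyp

variable {G : Type u} [Group G] [Finite G] {z : G} (H : Hyp z) {u : Fin 4 → G} (F : FourRel u z)
  (hu : ∀ i, u i ∈ H.Q)
include H F hu

theorem exists_lift {h : G} (hh : h * z = z * h) (s : Fin 4 → Fin 4)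
    (hs : ∀ i, h * u i * h⁻¹ = u (s i) ∨ h * u i * h⁻¹ = u (s i) * z) :
    ∃ q ∈ H.Q, (h * q) * z = z * (h * q) ∧ ∀ i, (h * q) * u i = u (s i) * (h * q) := by
  classical
  have hv : ∀ i : Fin 4, qv u z (2 ^ i.val + 16) = u i * z := fun i => by
    rw [show 2 ^ i.val + 16 = qMul (2 ^ i.val) 16 by fin_cases i <;> decide +kernel,
      qv_mul F (by fin_cases i <;> norm_num) (by norm_num), qv_z, qv_gen]
  let b : Fin 4 → Bool := fun i => decide (h * u i * h⁻¹ ≠ u (s i))
  obtain ⟨q, hq, q0, q1, q2, q3⟩ := sign_table (b 0) (b 1) (b 2) (b 3)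
  have hqs : ∀ i, qv u z q * u i = (if b i then u i * z else u i) * qv u z q := by
    intro i
    have e : qMul q (2 ^ i.val) = qMul (if b i then 2 ^ i.val + 16 else 2 ^ i.val) q := by
      fin_cases i <;> assumption
    have hlt : (if b i then 2 ^ i.val + 16 else 2 ^ i.val) < 32 := by
      cases b i <;> fin_cases i <;> norm_num
    have := congrArg (qv u z) e
    rw [qv_mul F (List.mem_range.1 hq) (by fin_cases i <;> norm_num), qv_mul F hlt (List.mem_range.1 hq),
      qv_gen, apply_ite (qv u z), hv, qv_gen] at this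
    exact this
  have hqQ := qv_mem H.Q hu H.zQ q
  have hhq : h * qv u z q * z = z * (h * qv u z q) := by
    rw [mul_assoc, H.cz _ hqQ, ← mul_assoc, hh, mul_assoc]
  refine ⟨qv u z q, hqQ, hhq, fun i => ?_⟩
  rw [mul_assoc, hqs, ← mul_assoc, ← mul_assoc]
  congr 1
  have hh' : z * h⁻¹ = h⁻¹ * z := by
    rw [eq_inv_mul_iff_mul_eq, ← mul_assoc, hh, mul_assoc, mul_inv_cancel, mul_one]
  by_cases hb : h * u i * h⁻¹ = u (s i)
  · rw [show b i = false from decide_eq_false (not_not.2 hb), if_neg (by simp)]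
    rw [← hb]; group
  · rw [show b i = true from decide_eq_true hb, if_pos rfl]
    have hsz := (hs i).resolve_left hb
    calc h * (u i * z) = h * u i * h⁻¹ * (z * h) := by rw [← hh]; group
      _ = u (s i) * (z * z) * h := by rw [hsz]; simp only [mul_assoc]
      _ = u (s i) * h := by rw [H.zz, mul_one]

theorem same {x y : G} (hx : x * z = z * x) (hy : y * z = z * y) (s : Fin 4 → Fin 4)
    (h1 : ∀ i, x * u i = u (s i) * x) (h2 : ∀ i, y * u i = u (s i) * y) : x = y ∨ x = y * z := by
  have hc : (y⁻¹ * x) * z = z * (y⁻¹ * x) := by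
    have hy' : y⁻¹ * z = z * y⁻¹ := by
      rw [inv_mul_eq_iff_eq_mul, ← mul_assoc, hy, mul_assoc, mul_inv_cancel, mul_one]
    rw [mul_assoc, hx, ← mul_assoc, hy', mul_assoc]
  have hu' : ∀ i, (y⁻¹ * x) * u i = u i * (y⁻¹ * x) := fun i => by
    rw [mul_assoc, h1, inv_mul_eq_iff_eq_mul, ← mul_assoc y, h2]
    group
  rcases H.cen_eq F hu hc hu' with e | e
  · exact Or.inl (inv_mul_eq_one.1 e).symm
  · exact Or.inr (by rw [← e, mul_inv_cancel_left])

theorem exists_cen_of_lifts
    (hl : ∀ t : Fin 3, ∃ w, w * z = z * w ∧ ∀ i, w * u i = u (st t i) * w) :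
    ∃ k, Nonempty (Cen k z) := by
  obtain ⟨a, ha, ha'⟩ := hl 0
  obtain ⟨b', hb1, hb1'⟩ := hl 1
  obtain ⟨c', hc1, hc1'⟩ := hl 2
  have hcomp : ∀ {x y : G} {s t : Fin 4 → Fin 4}, x * z = z * x → y * z = z * y →
      (∀ i, x * u i = u (s i) * x) → (∀ i, y * u i = u (t i) * y) →
      (x * y) * z = z * (x * y) ∧ ∀ i, x * y * u i = u (s (t i)) * (x * y) := by
    intro x y s t hx hy h1 h2
    refine ⟨by rw [mul_assoc, hy, ← mul_assoc, hx, mul_assoc], fun i => ?_⟩
    rw [mul_assoc, h2, ← mul_assoc, h1, mul_assoc]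
  have hzc : ∀ {y : G} {t : Fin 4 → Fin 4}, y * z = z * y → (∀ i, y * u i = u (t i) * y) →
      ∀ i, y * z * u i = u (t i) * (y * z) := by
    intro y t hy h i
    rw [mul_assoc, F.zc, ← mul_assoc, h, mul_assoc]
  have hadj : ∀ {x y : G}, x * z = z * x → y * z = z * y → x * y * x = y * x * y * z →
      x * (y * z) * x = y * z * x * (y * z) := by
    intro x y hx hy h
    calc x * (y * z) * x = x * y * x * z := by simp only [mul_assoc, hx]
      _ = y * x * y * (z * z) := by rw [h, mul_assoc]
      _ = y * x * (z * y) * z := by rw [← hy]; simp only [mul_assoc]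
      _ = y * (x * z) * (y * z) := by simp only [mul_assoc]
      _ = y * z * x * (y * z) := by rw [hx]; simp only [mul_assoc]
  obtain ⟨b, hb, hb', hbr1⟩ : ∃ b, b * z = z * b ∧ (∀ i, b * u i = u (st 1 i) * b) ∧
      a * b * a = b * a * b := by
    obtain ⟨h1, h1'⟩ := hcomp ha hb1 ha' hb1'
    obtain ⟨h2, h2'⟩ := hcomp h1 ha h1' ha'
    obtain ⟨h3, h3'⟩ := hcomp hb1 ha hb1' ha'
    obtain ⟨h4, h4'⟩ := hcomp h3 hb1 h3' hb1'
    rcases H.same F hu h2 h4 _ h2' (fun i => by rw [h4', (st_braid i).1]) with e | e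
    · exact ⟨b', hb1, hb1', e⟩
    · exact ⟨b' * z, by rw [hb1, mul_assoc, hb1], hzc hb1 hb1', hadj ha hb1 e⟩
  obtain ⟨c, hc, hc', hbr2⟩ : ∃ c, c * z = z * c ∧ (∀ i, c * u i = u (st 2 i) * c) ∧
      b * c * b = c * b * c := by
    obtain ⟨h1, h1'⟩ := hcomp hb hc1 hb' hc1'
    obtain ⟨h2, h2'⟩ := hcomp h1 hb h1' hb'
    obtain ⟨h3, h3'⟩ := hcomp hc1 hb hc1' hb'
    obtain ⟨h4, h4'⟩ := hcomp h3 hc1 h3' hc1'
    rcases H.same F hu h2 h4 _ h2' (fun i => by rw [h4', (st_braid i).2.1]) with e | e
    · exact ⟨c', hc1, hc1', e⟩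
    · exact ⟨c' * z, by rw [hc1, mul_assoc, hc1], hzc hc1 hc1', hadj hb hc1 e⟩
  obtain ⟨e1, he1, hsq⟩ : ∃ e1 < 2, a * a = z ^ e1 := by
    obtain ⟨h1, h1'⟩ := hcomp ha ha ha' ha'
    rcases H.cen_eq F hu h1 (fun i => by rw [h1', (st_braid i).2.2.2]) with e | e
    · exact ⟨0, by norm_num, by rw [e, pow_zero]⟩
    · exact ⟨1, by norm_num, by rw [e, pow_one]⟩
  obtain ⟨e2, he2, hcomm⟩ : ∃ e2 < 2, c * a = z ^ e2 * (a * c) := by
    obtain ⟨h1, h1'⟩ := hcomp hc ha hc' ha'
    obtain ⟨h2, h2'⟩ := hcomp ha hc ha' hc'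
    rcases H.same F hu h1 h2 _ h1' (fun i => by rw [h2', (st_braid i).2.2.1]) with e | e
    · exact ⟨0, by norm_num, by rw [e, pow_zero, one_mul]⟩
    · exact ⟨1, by norm_num, by rw [e, h2, pow_one]⟩
  have hsqb : ∀ {x y : G}, x * z = z * x → y * z = z * y → x * y * x = y * x * y →
      x * x = z ^ e1 → y * y = z ^ e1 := by
    intro x y hx hy h h'
    have e : y = x * y * x * (x * y)⁻¹ := by rw [h]; group
    have hz : Commute (x * y) (z ^ e1) := (Commute.mul_left hx hy).pow_right e1
    calc y * y = (x * y * x * (x * y)⁻¹) * (x * y * x * (x * y)⁻¹) := by rw [← e]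
      _ = x * y * (x * x) * (x * y)⁻¹ := by group
      _ = z ^ e1 := by rw [h', hz.eq, mul_inv_cancel_right]
  have hbb := hsqb ha hb hbr1 hsq
  have hcc := hsqb hb hc hbr2 hbb
  have R : LiftRel u z ![a, b, c] ((2 * e1 + e2) / 2) ((2 * e1 + e2) % 2) := by
    rw [show (2 * e1 + e2) / 2 = e1 by omega, show (2 * e1 + e2) % 2 = e2 by omega]
    refine ⟨fun i => by fin_cases i <;> assumption, hcomm, hbr1, hbr2,
      fun i => by fin_cases i <;> assumption, fun t i => ?_⟩
    rw [genIm_st, qv_gen]
    fin_cases t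
    exacts [ha' i, hb' i, hc' i]
  set k := 2 * e1 + e2
  have hk : k < 4 := by omega
  have hTz : ∀ i, ![a, b, c] i * z = z * ![a, b, c] i := R.tz
  have hval : ∀ m, elt u z ![a, b, c] m * z = z * elt u z ![a, b, c] m := fun m => by
    unfold elt
    have := zw F R (word (m % 24)) 1
    rw [pow_one] at this
    rw [mul_assoc, this, ← mul_assoc, H.cz _ (qv_mem H.Q hu H.zQ _), mul_assoc]
  let f : Fin 768 → centralizer ({z} : Set G) := fun m =>
    ⟨elt u z ![a, b, c] m, mem_centralizer_singleton_iff.2 (hval m)⟩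
  have hf : Function.Bijective f := (Nat.bijective_iff_injective_and_card f).2
    ⟨fun m n h => Fin.ext (elt_inj F R m.2 n.2 (congrArg Subtype.val h)), by
      rw [H.cent, Nat.card_eq_fintype_card, Fintype.card_fin]⟩
  refine ⟨k, ⟨{
    hk := hk
    ord := orderOf_eq_prime (by rw [pow_two, H.zz]) H.ne
    val := elt u z ![a, b, c]
    val_mul := fun m n hm hn => elt_mul F R hk hm hn
    val_comm := fun m _ => hval m
    val_inj := fun m n hm hn h => elt_inj F R hm hn h
    val_surj := fun g hg => by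
      obtain ⟨m, hm⟩ := hf.2 ⟨g, mem_centralizer_singleton_iff.2 hg⟩
      exact ⟨m, m.2, congrArg Subtype.val hm⟩
    val_z := by simp [elt, zN, word, w1, w2, w3, wv, qv_z] }⟩⟩

/-- the permutation of the five pairs -/
noncomputable def perm5 : centralizer ({z} : Set G) →* Equiv.Perm (Fin 5) :=
  MonoidHom.mk' (fun c => Equiv.ofBijective
      (fun i => H.pimg F hu (mem_centralizer_singleton_iff.1 c.2) i)
      (Finite.injective_iff_bijective.1 fun i j h => by
        have hi := H.pimg_spec F hu (mem_centralizer_singleton_iff.1 c.2) i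
        have hj := H.pimg_spec F hu (mem_centralizer_singleton_iff.1 c.2) j
        rw [h] at hi
        have e : qv u z (g5 i) = qv u z (g5 j) ∨ qv u z (g5 i) = qv u z (g5 j) * z := by
          have hcz : (c : G) * z * (c : G)⁻¹ = z := by
            rw [mem_centralizer_singleton_iff.1 c.2, mul_inv_cancel_right]
          have hmul : ∀ x, (c : G) * (x * z) * (c : G)⁻¹ = (c : G) * x * (c : G)⁻¹ * z := fun x => by
            have : (c : G) * (x * z) * (c : G)⁻¹ = (c : G) * x * (c : G)⁻¹ * ((c : G) * z * (c : G)⁻¹) := by group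
            rwa [hcz] at this
          rcases hi with hi | hi <;> rcases hj with hj | hj
          · exact Or.inl (mul_left_cancel (mul_right_cancel (hi.trans hj.symm)))
          · exact Or.inr (mul_left_cancel (mul_right_cancel (b := (c : G)⁻¹) (by
              rw [hi, hmul, hj, mul_assoc, H.zz, mul_one])))
          · exact Or.inr (mul_left_cancel (mul_right_cancel (b := (c : G)⁻¹) (by
              rw [hi, hmul, hj])))
          · exact Or.inl (mul_left_cancel (mul_right_cancel (hi.trans hj.symm)))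
        exact pair_unique i j (e.elim (fun e => Or.inl (qv_inj F (g5_lt i) (g5_lt j) e))
          (fun e => Or.inr (Or.inl (qv_inj F (g5_lt i) (qMul_lt _ _)
            (e.trans (by rw [qv_mul F (g5_lt j) (by norm_num), qv_z]))))))))
    fun c d => Equiv.ext fun i => by
      have hc := mem_centralizer_singleton_iff.1 c.2
      have hd := mem_centralizer_singleton_iff.1 d.2
      refine H.pimg_eq F hu (mem_centralizer_singleton_iff.1 (c * d).2) ?_
      have hcz : (c : G) * z * (c : G)⁻¹ = z := by rw [hc, mul_inv_cancel_right]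
      have hmul : ∀ x, (c : G) * (x * z) * (c : G)⁻¹ = (c : G) * x * (c : G)⁻¹ * z := fun x => by
        have : (c : G) * (x * z) * (c : G)⁻¹ = (c : G) * x * (c : G)⁻¹ * ((c : G) * z * (c : G)⁻¹) := by group
        rwa [hcz] at this
      have e : ((c * d : centralizer ({z} : Set G)) : G) * qv u z (g5 i) *
          ((c * d : centralizer ({z} : Set G)) : G)⁻¹ =
          (c : G) * ((d : G) * qv u z (g5 i) * (d : G)⁻¹) * (c : G)⁻¹ := by
        rw [Subgroup.coe_mul]; group
      rw [e]
      show _ = qv u z (g5 (H.pimg F hu hc (H.pimg F hu hd i))) ∨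
        _ = qv u z (g5 (H.pimg F hu hc (H.pimg F hu hd i))) * z
      rcases H.pimg_spec F hu hd i with h1 | h1 <;>
        rcases H.pimg_spec F hu hc (H.pimg F hu hd i) with h2 | h2
      · exact Or.inl (by rw [h1]; exact h2)
      · exact Or.inr (by rw [h1]; exact h2)
      · exact Or.inr (by rw [h1, hmul, h2])
      · exact Or.inl (by rw [h1, hmul, h2, mul_assoc, H.zz, mul_one])

theorem perm5_spec (c : centralizer ({z} : Set G)) (i : Fin 5) :
    (c : G) * qv u z (g5 i) * (c : G)⁻¹ = qv u z (g5 (H.perm5 F hu c i)) ∨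
      (c : G) * qv u z (g5 i) * (c : G)⁻¹ = qv u z (g5 (H.perm5 F hu c i)) * z :=
  H.pimg_spec F hu (mem_centralizer_singleton_iff.1 c.2) i

theorem perm5_ker : (H.perm5 F hu).ker = H.Q.subgroupOf (centralizer ({z} : Set G)) := by
  refine le_antisymm (fun c hc => ?_) fun c hc => ?_
  · have hcz := mem_centralizer_singleton_iff.1 c.2
    have hs : ∀ i : Fin 4, (c : G) * u i * (c : G)⁻¹ = u (id i) ∨
        (c : G) * u i * (c : G)⁻¹ = u (id i) * z := fun i => by
      have h := H.perm5_spec F hu c i.castSucc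
      have e : qv u z (g5 i.castSucc) = u i := by
        rw [show g5 i.castSucc = 2 ^ i.val by fin_cases i <;> rfl, qv_gen]
      rwa [MonoidHom.mem_ker.1 hc, Equiv.Perm.one_apply, e] at h
    obtain ⟨q, hq, hz', hq'⟩ := H.exists_lift F hu hcz id hs
    rw [Subgroup.mem_subgroupOf]
    have hcq : (c : G) * q ∈ H.Q := by
      rcases H.cen_eq F hu hz' hq' with e | e
      · rw [e]; exact one_mem _
      · rw [e]; exact H.zQ
    simpa using mul_mem hcq (inv_mem hq)
  · refine MonoidHom.mem_ker.2 (Equiv.ext fun i => H.pimg_eq F hu (mem_centralizer_singleton_iff.1 c.2) ?_)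
    rw [Subgroup.mem_subgroupOf] at hc
    have hg := qv_mem H.Q hu H.zQ (g5 i)
    rcases H.comm _ hc _ hg with e | e
    · exact Or.inl (by rw [e, mul_inv_cancel_right]; rfl)
    · refine Or.inr ?_
      rw [e, mul_assoc _ z, show z * (c : G)⁻¹ = (c : G)⁻¹ * z from (H.cz _ (inv_mem hc)).symm]
      rw [← mul_assoc, mul_inv_cancel_right]
      rfl

theorem perm5_card : Nat.card (H.perm5 F hu).range = 24 := by
  have hle : H.Q ≤ centralizer ({z} : Set G) := fun q hq =>
    mem_centralizer_singleton_iff.2 (H.cz q hq)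
  have h := (H.perm5 F hu).ker.card_mul_index
  rw [Subgroup.index_ker, H.perm5_ker F hu, Nat.card_congr (subgroupOfEquivOfLe hle).toEquiv,
    H.card, H.cent] at h
  omega

/-- A centraliser satisfying the hypotheses is given by one of the models. -/
theorem exists_cen : ∃ k, Nonempty (Cen k z) := by
  obtain ⟨p, hp⟩ := exists_fixed _ (H.perm5_card F hu)
  let v : Fin 4 → G := fun i => qv u z (g5 (avoid p i))
  have hv : ∀ i, v i ∈ H.Q := fun i => qv_mem H.Q hu H.zQ _
  have Fv : FourRel v z := H.fourRel hv (fun i => by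
      rw [← qv_mul F (g5_lt _) (g5_lt _), (g5_invol _).1, qv_zero])
    (fun i => ⟨fun e => (g5_invol _).2.1 (qv_inj F (g5_lt _) (by norm_num) (e.trans (qv_zero u z).symm)),
      fun e => (g5_invol _).2.2 (qv_inj F (g5_lt _) (by norm_num) (e.trans (qv_z u z).symm))⟩)
    (fun i j hij => ⟨fun e => hij.ne (avoid_inj p i j
        (pair_unique _ _ (Or.inl (qv_inj F (g5_lt _) (g5_lt _) e))).symm),
      fun e => hij.ne (avoid_inj p i j (pair_unique _ _ (Or.inr (Or.inl (qv_inj F (g5_lt _) (qMul_lt _ _)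
        (e.trans (by rw [qv_mul F (g5_lt _) (by norm_num), qv_z])))))).symm)⟩)
  refine H.exists_cen_of_lifts Fv hv fun t => ?_
  obtain ⟨c, hc⟩ := (hp (trans5 p t)).2 (trans5_spec p t).1
  have hs : ∀ i, (c : G) * v i * (c : G)⁻¹ = v (st t i) ∨
      (c : G) * v i * (c : G)⁻¹ = v (st t i) * z := fun i => by
    have h := H.perm5_spec F hu c (avoid p i)
    rwa [hc, (trans5_spec p t).2 i] at h
  obtain ⟨q, -, hz', hq'⟩ := H.exists_lift Fv hv (mem_centralizer_singleton_iff.1 c.2) _ hs
  exact ⟨_, hz', hq'⟩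

end Hyp

/-- An involution whose centraliser has a self-centralising normal subgroup, the central product of
a dihedral and a quaternion group of order eight, with quotient symmetric of degree four. -/
theorem exists_cen {G : Type u} [Group G] [Finite G] (z : G) (hz : orderOf z = 2)
    (E : Subgroup ↥(Subgroup.centralizer ({z} : Set G))) [E.Normal] (hE : Cfsg.IsExtraspecial 2 ↥E)
    (hE32 : Nat.card ↥E = 32)
    (hEminus : ∀ A : Subgroup ↥E, Cfsg.IsElementaryAbelian 2 A → Nat.card ↥A ≠ 8)
    (hCE : Subgroup.centralizer (E : Set ↥(Subgroup.centralizer ({z} : Set G))) ≤ E)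
    (e : (↥(Subgroup.centralizer ({z} : Set G)) ⧸ E) ≃* Equiv.Perm (Fin 4)) :
    ∃ k, Nonempty (Cen k z) := by
  classical
  obtain ⟨w, S⟩ := CfsgLib.Small.exists_ESTwo hE
  have hzz : z * z = 1 := by rw [← pow_two, ← hz, pow_orderOf_eq_one]
  have hz1 : z ≠ 1 := fun h => by rw [h, orderOf_one] at hz; norm_num at hz
  have hzC : z ∈ (centralizer ({z} : Set G)) := mem_centralizer_singleton_iff.2 rfl
  have hzE : (⟨z, hzC⟩ : (centralizer ({z} : Set G))) ∈ E := hCE fun x _ =>
    Subtype.ext (mem_centralizer_singleton_iff.1 x.2)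
  have hw : w = ⟨⟨z, hzC⟩, hzE⟩ := by
    rcases (S.center_iff ⟨⟨z, hzC⟩, hzE⟩).1 (mem_center_iff.2 fun x =>
      Subtype.ext (Subtype.ext (mem_centralizer_singleton_iff.1 (x : (centralizer ({z} : Set G))).2))) with h | h
    · exact absurd (congrArg (fun x : E => ((x : (centralizer ({z} : Set G))) : G)) h) hz1
    · exact h.symm
  have hwv : ((w : (centralizer ({z} : Set G))) : G) = z := by rw [hw]
  have hQ : ∀ x, x ∈ E.map (centralizer ({z} : Set G)).subtype → ∃ y : E, ((y : (centralizer ({z} : Set G))) : G) = x := by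
    rintro x ⟨y, hy, rfl⟩
    exact ⟨⟨y, hy⟩, rfl⟩
  have hpow : ∀ (y : E), ((y : (centralizer ({z} : Set G))) : G) * ((y : (centralizer ({z} : Set G))) : G) = 1 → y ^ 2 = 1 := fun y h => by
    rw [pow_two]; exact Subtype.ext (Subtype.ext h)
  let H : Hyp z :=
    { Q := E.map (centralizer ({z} : Set G)).subtype
      ne := hz1
      zz := hzz
      card := by rw [← hE32]; exact Nat.card_congr (E.equivMapOfInjective _ (centralizer ({z} : Set G)).subtype_injective).toEquiv.symm
      cz := fun q hq => by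
        obtain ⟨y, rfl⟩ := hQ q hq
        exact mem_centralizer_singleton_iff.1 (y : (centralizer ({z} : Set G))).2
      zQ := ⟨⟨z, hzC⟩, hzE, rfl⟩
      norm := fun h hh q hq => by
        obtain ⟨y, hy, rfl⟩ := hq
        exact ⟨⟨h, mem_centralizer_singleton_iff.2 hh⟩ * y * ⟨h, mem_centralizer_singleton_iff.2 hh⟩⁻¹,
          Subgroup.Normal.conj_mem inferInstance y hy _, rfl⟩
      self := fun c hc h => ⟨⟨c, mem_centralizer_singleton_iff.2 hc⟩, hCE fun y hy =>
        Subtype.ext (h _ ⟨y, hy, rfl⟩).symm, rfl⟩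
      comm := fun a ha b hb => by
        obtain ⟨a, rfl⟩ := hQ a ha
        obtain ⟨b, rfl⟩ := hQ b hb
        exact (S.comm_eq a b).imp (congrArg fun x : E => ((x : (centralizer ({z} : Set G))) : G)) fun h => by
          have := congrArg (fun x : E => ((x : (centralizer ({z} : Set G))) : G)) h
          simpa [hwv] using this
      pair := fun a ha b hb ha2 hb2 hane hanz hab => by
        obtain ⟨a, rfl⟩ := hQ a ha
        obtain ⟨b, rfl⟩ := hQ b hb
        by_contra hcon
        push Not at hcon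
        obtain ⟨hb1, hbz, hba, hbaz⟩ := hcon
        have cwa : Commute w a := (S.mul_comm_z a).symm
        have cwb : Commute w b := (S.mul_comm_z b).symm
        have cab : Commute a b := Subtype.ext (Subtype.ext hab)
        have hbp : ∀ {x : E} (i i' : Bool), x * x = 1 → bpow i x * bpow i' x = bpow (i ^^ i') x :=
          fun i i' hx => by cases i <;> cases i' <;> simp [bpow, hx]
        have hbc : ∀ {x y : E} (i j : Bool), Commute x y → Commute (bpow i x) (bpow j y) :=
          fun i j h => by cases i <;> cases j <;> simp [bpow, h]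
        have ha' : a * a = 1 := Subtype.ext (Subtype.ext ha2)
        have hb' : b * b = 1 := Subtype.ext (Subtype.ext hb2)
        let g : Bool × Bool × Bool → E := fun t => bpow t.1 w * bpow t.2.1 a * bpow t.2.2 b
        have hg : ∀ t t', g t * g t' = g (t.1 ^^ t'.1, t.2.1 ^^ t'.2.1, t.2.2 ^^ t'.2.2) := by
          rintro ⟨i, j, l⟩ ⟨i', j', l'⟩
          show bpow i w * bpow j a * bpow l b * (bpow i' w * bpow j' a * bpow l' b) = _
          rw [mul_assoc (bpow i' w), ← mul_assoc (bpow i w * bpow j a * bpow l b) (bpow i' w),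
            mul_assoc (bpow i w * bpow j a) (bpow l b), ← (hbc i' l cwb).eq,
            ← mul_assoc (bpow i w * bpow j a) (bpow i' w), mul_assoc (bpow i w) (bpow j a),
            ← (hbc i' j cwa).eq, ← mul_assoc (bpow i w) (bpow i' w), hbp i i' S.mul_self,
            ← mul_assoc (bpow (i ^^ i') w * bpow j a * bpow l b) (bpow j' a),
            mul_assoc (bpow (i ^^ i') w * bpow j a) (bpow l b), ← (hbc j' l cab).eq,
            ← mul_assoc (bpow (i ^^ i') w * bpow j a) (bpow j' a),
            mul_assoc (bpow (i ^^ i') w) (bpow j a), hbp j j' ha', mul_assoc, hbp l l' hb']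
        let A : Subgroup E :=
          { carrier := Set.range g
            one_mem' := ⟨(false, false, false), by simp [g, bpow]⟩
            mul_mem' := by rintro _ _ ⟨t, rfl⟩ ⟨t', rfl⟩; exact ⟨_, (hg t t').symm⟩
            inv_mem' := by
              rintro _ ⟨t, rfl⟩
              refine ⟨t, (inv_eq_of_mul_eq_one_right ?_).symm⟩
              rw [hg]; simp [g, bpow] }
        have hA : Cfsg.IsElementaryAbelian 2 A := by
          refine ⟨⟨⟨?_⟩⟩, ?_⟩
          · rintro ⟨_, t, rfl⟩ ⟨_, t', rfl⟩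
            refine Subtype.ext ?_
            show g t * g t' = g t' * g t
            rw [hg, hg, Bool.xor_comm t.1, Bool.xor_comm t.2.1, Bool.xor_comm t.2.2]
          · rintro _ ⟨t, rfl⟩
            rw [pow_two, hg]; simp [g, bpow]
        have hone : ∀ t, g t = 1 → t = (false, false, false) := by
          rintro ⟨i, j, l⟩ h
          have h' := congrArg (fun x : E => ((x : (centralizer ({z} : Set G))) : G)) h
          have haz : ((a : (centralizer ({z} : Set G))) : G) * z = z * ((a : (centralizer ({z} : Set G))) : G) := mem_centralizer_singleton_iff.1 (a : (centralizer ({z} : Set G))).2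
          cases i <;> cases j <;> cases l <;> simp [g, bpow, hwv] at h' ⊢
          · exact hb1 (by simp [h'])
          · exact hane (by simp [h'])
          · exact hba ((eq_inv_of_mul_eq_one_right h').trans (inv_eq_of_mul_eq_one_right ha2))
          · exact hz1 h'
          · exact hbz ((eq_inv_of_mul_eq_one_right h').trans (inv_eq_of_mul_eq_one_right hzz))
          · exact hanz ((eq_inv_of_mul_eq_one_right h').trans (inv_eq_of_mul_eq_one_right hzz))
          · exact hbaz ((eq_inv_of_mul_eq_one_right h').trans (by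
              rw [mul_inv_rev, inv_eq_of_mul_eq_one_right ha2, inv_eq_of_mul_eq_one_right hzz]))
        refine hEminus A hA ?_
        have hinj : Function.Injective g := by
          intro t t' h
          have h' := hone _ (by rw [← hg, h, hg]; simp [g, bpow] :
            g (t.1 ^^ t'.1, t.2.1 ^^ t'.2.1, t.2.2 ^^ t'.2.2) = 1)
          simpa [Prod.ext_iff, bne_eq_false_iff_eq] using h'
        rw [show Nat.card A = Nat.card (Set.range g) from rfl, Nat.card_range_of_injective hinj]
        simp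
      many := fun T hT => by
        by_contra hcon
        push Not at hcon
        have hN := CfsgLib.Small.two_mul_card_sq_one_sub_sq S.mem_center S.ne_one S.mul_self
          S.sq_eq S.comm_eq fun d hd => S.sq_center hd
        rw [hE32, S.extra.2] at hN
        have hle : Nat.card {x : E // x ^ 2 = 1} ≤ T.card := by
          rw [← Nat.card_eq_finsetCard]
          refine Nat.card_le_card_of_injective (fun x => ⟨((x.1 : (centralizer ({z} : Set G))) : G), hcon _ ⟨x.1, x.1.2, rfl⟩ ?_⟩)
            fun x y h => Subtype.ext (Subtype.ext (Subtype.ext (congrArg Subtype.val h :)))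
          exact congrArg (fun y : E => ((y : (centralizer ({z} : Set G))) : G)) ((pow_two x.1).symm.trans x.2)
        generalize Nat.card {x : E // x ^ 2 = 1} = N at hN hle
        have h' : (2 * (N : ℤ) - 32) ^ 2 = 8 ^ 2 := by push_cast at hN; rw [hN]; norm_num
        rcases sq_eq_sq_iff_eq_or_eq_neg.1 h' with h' | h' <;> omega
      cent := by
        rw [E.card_eq_card_quotient_mul_card_subgroup, hE32, Nat.card_congr e.toEquiv,
          Nat.card_perm, Nat.card_fin]
        rfl }
  obtain ⟨u, F, hu⟩ := H.exists_frame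
  exact H.exists_cen F hu

end CfsgLib.L34Cent
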