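import Mathlib
import Cfsg.Agent.Lib.Transfer.YoshidaTransfer
import Cfsg.Agent.Lib.Transfer.TransferFixed

/-!
A non-real element of order three outside the centre of a non-abelian Sylow `3`-subgroup of order `27`
survives in the abelianisation.
-/

set_option autoImplicit false
set_option linter.unusedSectionVars false
set_option linter.style.haveILetI false
set_option maxHeartbeats 1000000

namespace CfsgLib.L34Cent

open Subgroup Finset

universe u

theorem zmod_pair_sum : ∀ S : Finset (ZMod 3 × ZMod 3), (1, 0) ∈ S → (∀ v ∈ S, -v ∉ S) →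
    S.card ≠ 3 → ∑ v ∈ S, v ≠ 0 := by decide +kernel

/-- In an abelian group of order `9` and exponent three: a set containing `a`, meeting no inverse of its
members, of size prime to three, has product `≠ 1`. -/
theorem prod_ne_one {V : Type*} [CommGroup V] [Finite V] (hV : Nat.card V = 9) (hexp : ∀ v : V, v ^ 3 = 1)
    {a : V} (ha : a ≠ 1) (O : Finset V) (haO : a ∈ O) (hO : ∀ v ∈ O, v⁻¹ ∉ O) (h3 : ¬ 3 ∣ O.card) :
    ∏ v ∈ O, v ≠ 1 := by
  classical
  haveI : Fact (Nat.Prime 3) := ⟨Nat.prime_three⟩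
  have hord : orderOf a = 3 := orderOf_eq_prime (hexp a) ha
  obtain ⟨b, hb⟩ : ∃ b : V, b ∉ zpowers a := by
    by_contra hcon
    push Not at hcon
    have htop : zpowers a = ⊤ := eq_top_iff.2 (fun v _ => hcon v)
    have := Nat.card_zpowers a
    rw [htop, card_top, hV, hord] at this
    norm_num at this
  have hpow : ∀ (v : V) (m : ℕ), v ^ m = v ^ (m % 3) := fun v m => pow_eq_pow_mod m (hexp v)
  let f : Multiplicative (ZMod 3 × ZMod 3) →* V :=
    { toFun := fun w => a ^ (Multiplicative.toAdd w).1.val * b ^ (Multiplicative.toAdd w).2.val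
      map_one' := by simp
      map_mul' := fun v w => by
        simp only [toAdd_mul, Prod.fst_add, Prod.snd_add, ZMod.val_add]
        rw [← hpow, ← hpow, pow_add, pow_add]
        exact mul_mul_mul_comm _ _ _ _ }
  have hinj : Function.Injective f := by
    refine (injective_iff_map_eq_one f).2 fun w hw => ?_
    set i := (Multiplicative.toAdd w).1 with hi
    set j := (Multiplicative.toAdd w).2 with hj
    replace hw : a ^ i.val * b ^ j.val = 1 := hw
    have hj0 : j = 0 := by
      by_contra hne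
      refine hb ?_
      have hbj : b ^ j.val ∈ zpowers a := by
        rw [eq_inv_of_mul_eq_one_right hw]
        exact inv_mem (pow_mem (mem_zpowers a) _)
      have hc : Nat.Coprime j.val 3 := by
        refine ((Nat.prime_three.coprime_iff_not_dvd).2 fun h => hne ?_).symm
        have := ZMod.val_lt j
        exact (ZMod.val_eq_zero j).1 (Nat.eq_zero_of_dvd_of_lt h this)
      obtain ⟨m, hm⟩ := exists_pow_eq_self_of_coprime
        (hc.coprime_dvd_right (orderOf_dvd_of_pow_eq_one (hexp b)))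
      rw [← hm]; exact pow_mem hbj m
    have hi0 : i = 0 := by
      rw [hj0, ZMod.val_zero, pow_zero, mul_one] at hw
      exact (ZMod.val_eq_zero i).1 (Nat.eq_zero_of_dvd_of_lt (orderOf_dvd_of_pow_eq_one hw)
        (lt_of_lt_of_eq (ZMod.val_lt i) hord.symm))
    apply Multiplicative.toAdd.injective
    exact Prod.ext hi0 hj0
  have hbij : Function.Bijective f := hinj.bijective_of_nat_card_le (le_of_eq (by
    rw [hV, Nat.card_congr Multiplicative.toAdd, Nat.card_prod, Nat.card_zmod]))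
  let e : ZMod 3 × ZMod 3 → V := fun w => f (Multiplicative.ofAdd w)
  have he : Function.Injective e := hinj.comp Multiplicative.ofAdd.injective
  set S := O.preimage e he.injOn with hS
  have himg : S.image e = O := by
    rw [hS]
    exact Finset.image_preimage_of_bij e O (by
      refine ⟨fun w hw => hw, he.injOn, fun v hv => ?_⟩
      obtain ⟨w, rfl⟩ := hbij.2 v
      exact ⟨Multiplicative.toAdd w, hv, rfl⟩)
  intro hprod
  refine zmod_pair_sum S ?_ ?_ ?_ ?_
  · rw [hS, Finset.mem_preimage]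
    show f (Multiplicative.ofAdd ((1, 0) : ZMod 3 × ZMod 3)) ∈ O
    simpa [f, ZMod.val_one] using haO
  · intro v hv hv'
    rw [hS, Finset.mem_preimage] at hv hv'
    refine hO _ hv ?_
    convert hv' using 1
    simp [e, ofAdd_neg]
  · intro hc
    refine h3 ⟨1, ?_⟩
    rw [← himg, Finset.card_image_of_injective _ he, hc]
  · apply Multiplicative.ofAdd.injective
    apply hinj
    rw [ofAdd_zero, map_one, ← hprod, ← himg, Finset.prod_image he.injOn, ofAdd_sum, map_prod]

/-- A non-real element `x` of a non-abelian Sylow `3`-subgroup of order `27`, outside its centre, is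
not in the commutator subgroup. -/
theorem not_mem_commutator {K : Type u} [Group K] [Finite K] [Fact (Nat.Prime 3)] (P : Sylow 3 K)
    (hP : Nat.card P = 27) {x y : K} (hx : x ∈ (P : Subgroup K)) (hy : y ∈ (P : Subgroup K))
    (hxy : x * y ≠ y * x) (hreal : ∀ n : K, n * x * n⁻¹ ≠ x⁻¹) : x ∉ commutator K := by
  classical
  haveI : Nontrivial (P : Subgroup K) := by
    rw [← Finite.one_lt_card_iff_nontrivial, hP]; norm_num
  set Z := center (P : Subgroup K) with hZ
  have hxZ : (⟨x, hx⟩ : (P : Subgroup K)) ∉ Z := fun h =>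
    hxy (congrArg Subtype.val (Subgroup.mem_center_iff.1 h ⟨y, hy⟩)).symm
  have hnc : ¬ IsCyclic ((P : Subgroup K) ⧸ Z) := fun h => by
    have := ((QuotientGroup.mk' Z).isMulCommutative_of_isCyclic_of_ker_le_center (by rw [QuotientGroup.ker_mk'])).is_comm.comm ⟨x, hx⟩ ⟨y, hy⟩
    exact hxy (congrArg Subtype.val this)
  have hq : IsPGroup 3 ((P : Subgroup K) ⧸ Z) := P.2.to_quotient Z
  have h27 : Nat.card Z * Z.index = 27 := by rw [Subgroup.card_mul_index, hP]
  have hZ1 : Nat.card Z ≠ 1 := fun h => by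
    haveI := P.2.center_nontrivial
    exact absurd (Finite.one_lt_card_iff_nontrivial.2 ‹_›) (by rw [h]; norm_num)
  have hidx : Z.index = 9 ∧ Nat.card Z = 3 := by
    obtain ⟨i, hi, he⟩ := (Nat.dvd_prime_pow Nat.prime_three).1
      (show Z.index ∣ 3 ^ 3 from ⟨Nat.card Z, by rw [mul_comm, h27]; norm_num⟩)
    have hi0 : i ≠ 0 := fun h => by
      rw [h, pow_zero, Subgroup.index_eq_one] at he
      exact hxZ (he ▸ mem_top _)
    have hi1 : i ≠ 1 := fun h => hnc (isCyclic_of_prime_card (p := 3) (by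
      rw [← Subgroup.index_eq_card, he, h, pow_one]))
    interval_cases i
    · exact absurd rfl hi0
    · exact absurd rfl hi1
    · refine ⟨by rw [he]; norm_num, ?_⟩
      rw [he] at h27
      norm_num at h27
      omega
    · rw [he] at h27
      norm_num at h27
      exact absurd (by rw [h27]; exact Subgroup.card_bot) hZ1
  have hVcard : Nat.card ((P : Subgroup K) ⧸ Z) = 9 := by rw [← Subgroup.index_eq_card, hidx.1]
  have hexp : ∀ v : (P : Subgroup K) ⧸ Z, v ^ 3 = 1 := by
    intro v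
    have hd : orderOf v ∣ 3 ^ 2 := by have := orderOf_dvd_natCard v; rwa [hVcard] at this
    obtain ⟨i, hi, he⟩ := (Nat.dvd_prime_pow Nat.prime_three).1 hd
    rcases Nat.lt_or_ge i 2 with h | h
    · exact orderOf_dvd_iff_pow_eq_one.1 (he ▸ (pow_dvd_pow 3 (by omega : i ≤ 1)))
    · exfalso
      refine hnc (isCyclic_of_orderOf_eq_card v ?_)
      rw [he, hVcard, show i = 2 by omega]
      norm_num
  have hcomm : ∀ v w : (P : Subgroup K) ⧸ Z, v * w = w * v :=
    (IsPGroup.isMulCommutative_of_card_eq_prime_sq (p := 3) (by rw [hVcard]; norm_num)).is_comm.comm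
  let : CommGroup ((P : Subgroup K) ⧸ Z) :=
    { (inferInstance : Group ((P : Subgroup K) ⧸ Z)) with mul_comm := hcomm }
  set xp : (P : Subgroup K) := ⟨x, hx⟩ with hxp
  set yp : (P : Subgroup K) := ⟨y, hy⟩ with hyp
  -- every element of `x⁻¹ Z` is a conjugate of `x⁻¹` in `P`
  have hclass : ∀ z ∈ Z, ∃ c : (P : Subgroup K), c * xp⁻¹ * c⁻¹ = z * xp⁻¹ := by
    have hmem : ∀ c : (P : Subgroup K), c * xp⁻¹ * c⁻¹ * xp ∈ Z := fun c => by
      rw [← QuotientGroup.eq_one_iff]
      simp only [QuotientGroup.mk_mul, QuotientGroup.mk_inv]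
      rw [hcomm (c : (P : Subgroup K) ⧸ Z), mul_inv_cancel_right, inv_mul_cancel]
    let ψ : (P : Subgroup K) →* Z := MonoidHom.mk' (fun c => ⟨c * xp⁻¹ * c⁻¹ * xp, hmem c⟩)
      (fun c d => Subtype.ext (by
        show c * d * xp⁻¹ * (c * d)⁻¹ * xp = c * xp⁻¹ * c⁻¹ * xp * (d * xp⁻¹ * d⁻¹ * xp)
        have h1 := Subgroup.mem_center_iff.1 (hmem d) (c * xp⁻¹ * c⁻¹ * xp)
        have h2 := Subgroup.mem_center_iff.1 (hmem d) c
        calc c * d * xp⁻¹ * (c * d)⁻¹ * xp
            = c * (d * xp⁻¹ * d⁻¹ * xp) * (xp⁻¹ * c⁻¹ * xp) := by group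
          _ = (d * xp⁻¹ * d⁻¹ * xp) * c * (xp⁻¹ * c⁻¹ * xp) := by rw [h2]
          _ = (d * xp⁻¹ * d⁻¹ * xp) * (c * xp⁻¹ * c⁻¹ * xp) := by group
          _ = _ := h1.symm))
    have hψ : ψ yp ≠ 1 := by
      intro e
      have e1 : y * x⁻¹ * y⁻¹ * x = 1 := congrArg (fun t : Z => ((t : (P : Subgroup K)) : K)) e
      apply hxy
      calc x * y = x * (y * x⁻¹ * y⁻¹ * x)⁻¹ * y := by rw [e1]; group
        _ = y * x := by group
    intro z hz
    obtain ⟨k, hk⟩ := Subgroup.mem_zpowers_iff.1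
      (mem_zpowers_of_prime_card (p := 3) hidx.2 hψ (g' := (⟨z, hz⟩ : Z)))
    refine ⟨yp ^ k, ?_⟩
    have h1 : (ψ (yp ^ k) : (P : Subgroup K)) = z := by rw [map_zpow, hk]
    rw [eq_mul_inv_iff_mul_eq]
    exact h1
  -- transfer is controlled by the normaliser
  set N := Subgroup.normalizer ((P : Subgroup K) : Set K) with hN
  intro hxK
  have hxN : x ∈ ⁅N, N⁆ := by
    have hwc : Cfsg.IsWeaklyClosed (P : Subgroup K) (P : Subgroup K) :=
      ⟨le_rfl, fun g hg => Subgroup.eq_of_le_of_card_ge hg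
        (le_of_eq (Nat.card_congr ((P : Subgroup K).equivMapOfInjective _
          (MulAut.conj g).injective).toEquiv))⟩
    by_contra hcon
    obtain ⟨a, ha, b, hb, W₀, hW₀, -, hfr⟩ := Transfer.exists_commutator_witness P (P : Subgroup K) hwc
      (fun e => by
        have h1 : x ∈ (P : Subgroup K) ⊓ commutator K := Subgroup.mem_inf.2 ⟨hx, hxK⟩
        rw [e] at h1
        exact hcon (Subgroup.mem_inf.1 h1).2)
    refine hfr ?_
    have h1 : Transfer.engel b a ∈ Z.map (P : Subgroup K).subtype := by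
      refine ⟨Transfer.engel (⟨b, hb⟩ : (P : Subgroup K)) ⟨a, ha⟩, ?_, rfl⟩
      rw [SetLike.mem_coe, ← QuotientGroup.eq_one_iff]
      simp only [Transfer.engel, QuotientGroup.mk_mul, QuotientGroup.mk_inv]
      set A : (P : Subgroup K) ⧸ Z := ↑(⟨a, ha⟩ : (P : Subgroup K))
      set B : (P : Subgroup K) ⧸ Z := ↑(⟨b, hb⟩ : (P : Subgroup K))
      rw [mul_assoc, hcomm A B, ← mul_assoc, inv_mul_cancel_right, inv_mul_cancel]
    obtain ⟨c, hc, hce⟩ := h1
    have h2 : Transfer.engel b (Transfer.engel b a) = 1 := by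
      have h3 : b * (c : K) = (c : K) * b :=
        congrArg Subtype.val (Subgroup.mem_center_iff.1 hc ⟨b, hb⟩)
      rw [← hce]
      show ((c : K))⁻¹ * b⁻¹ * c * b = 1
      rw [mul_assoc, mul_assoc, ← h3]; group
    rw [show (Transfer.engel b)^[3 - 1] a = 1 from h2]
    exact one_mem _
  -- transfer `N → P ⧸ Z`
  have hPN : (P : Subgroup K) ≤ N := Subgroup.le_normalizer
  set H := (P : Subgroup K).subgroupOf N with hH
  haveI : H.Normal := Subgroup.normal_in_normalizer
  let φ : H →* (P : Subgroup K) ⧸ Z :=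
    (QuotientGroup.mk' Z).comp (Subgroup.subgroupOfEquivOfLe hPN).toMonoidHom
  letI : Fintype (N ⧸ H) := Fintype.ofFinite _
  set xN : N := ⟨x, hPN hx⟩ with hxNdef
  have hconjP : ∀ g : N, ∀ u : (P : Subgroup K), (g : K) * u * (g : K)⁻¹ ∈ (P : Subgroup K) :=
    fun g u => (Subgroup.mem_normalizer_iff.1 g.2 u).1 u.2
  -- the action of the normaliser on `P ⧸ Z`
  let α : N →* MulAut (P : Subgroup K) :=
    { toFun := fun g =>
        { toFun := fun u => ⟨(g : K) * u * (g : K)⁻¹, hconjP g u⟩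
          invFun := fun u => ⟨(g : K)⁻¹ * u * g, by simpa using hconjP g⁻¹ u⟩
          left_inv := fun u => Subtype.ext (by simp [mul_assoc])
          right_inv := fun u => Subtype.ext (by simp [mul_assoc])
          map_mul' := fun u v => Subtype.ext (by simp [mul_assoc]) }
      map_one' := by ext u; simp
      map_mul' := fun g g' => by ext u; simp [mul_assoc] }
  have hZmap : ∀ g : N, Z.map (α g).toMonoidHom = Z := fun g =>
    Subgroup.characteristic_iff_map_eq.1 (by rw [hZ]; infer_instance) (α g)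
  let A : N →* MulAut ((P : Subgroup K) ⧸ Z) :=
    { toFun := fun g => QuotientGroup.congr Z Z (α g) (hZmap g)
      map_one' := by
        refine MulEquiv.ext fun v => ?_
        induction v using QuotientGroup.induction_on with
        | H u => simp [QuotientGroup.congr_mk]
      map_mul' := fun g g' => by
        refine MulEquiv.ext fun v => ?_
        induction v using QuotientGroup.induction_on with
        | H u =>
          show ((α (g * g') u : (P : Subgroup K)) : (P : Subgroup K) ⧸ Z) = ((α g (α g' u)) : (P : Subgroup K) ⧸ Z)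
          rw [map_mul]
          rfl }
  have hA : ∀ (g : N) (u : (P : Subgroup K)),
      A g (u : (P : Subgroup K) ⧸ Z) = ((⟨(g : K) * u * (g : K)⁻¹, hconjP g u⟩ : (P : Subgroup K)) :
        (P : Subgroup K) ⧸ Z) := fun g u => rfl
  have hAH : H ≤ A.ker := by
    intro h hh
    refine MulEquiv.ext fun v => ?_
    induction v using QuotientGroup.induction_on with
    | H u =>
      rw [hA]
      show ((⟨h, hh⟩ * u * (⟨h, hh⟩ : (P : Subgroup K))⁻¹ : (P : Subgroup K)) : (P : Subgroup K) ⧸ Z) = _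
      rw [QuotientGroup.mk_mul, QuotientGroup.mk_mul, QuotientGroup.mk_inv,
        hcomm (⟨h, hh⟩ : (P : Subgroup K)), mul_inv_cancel_right]
      rfl
  let Ā := QuotientGroup.lift H A hAH
  letI := MulAction.compHom ((P : Subgroup K) ⧸ Z) Ā
  set a₀ : (P : Subgroup K) ⧸ Z := ↑xp with ha₀
  have hfv : ∀ g : N, Transfer.fixedVal φ xN (g : N ⧸ H) = A g⁻¹ a₀ := by
    intro g
    rw [Transfer.fixedVal_of_mem φ xN
      ((inferInstance : H.Normal).conj_mem' xN hx g), ha₀, hA]
    refine congrArg (QuotientGroup.mk' Z) (Subtype.ext ?_)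
    show ((g : K))⁻¹ * x * g = ((g : K))⁻¹ * x * ((g : K))⁻¹⁻¹
    rw [inv_inv]
  have hgood : ∀ k, 1 < k → k ∣ orderOf xN → ∀ (g : N) (h : g⁻¹ * xN ^ k * g ∈ H), φ ⟨_, h⟩ = 1 := by
    intro k hk hkd g h
    have hxo : orderOf xN ∣ 3 ^ 3 := by
      have := orderOf_dvd_natCard xp
      rw [hP] at this
      rw [hxNdef, Subgroup.orderOf_mk]
      rw [hxp, Subgroup.orderOf_mk] at this
      simpa using this
    obtain ⟨i, -, he⟩ := (Nat.dvd_prime_pow Nat.prime_three).1 (hkd.trans hxo)
    obtain ⟨t, ht⟩ : 3 ∣ k := he ▸ dvd_pow_self 3 (by rintro rfl; omega)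
    have hxk : xN ^ k ∈ H := pow_mem (show xN ∈ H from hx) k
    have e : φ ⟨_, h⟩ = A g⁻¹ (((⟨x ^ k, pow_mem hx k⟩ : (P : Subgroup K))) : (P : Subgroup K) ⧸ Z) := by
      rw [hA]
      refine congrArg (QuotientGroup.mk' Z) (Subtype.ext ?_)
      show ((g⁻¹ * xN ^ k * g : N) : K) = ((g : K))⁻¹ * x ^ k * ((g : K))⁻¹⁻¹
      simp [xN]
    rw [e, show (⟨x ^ k, pow_mem hx k⟩ : (P : Subgroup K)) = xp ^ k from Subtype.ext (by simp [xp]),
      QuotientGroup.mk_pow, ht, pow_mul, hexp, one_pow, map_one]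
  have htr : MonoidHom.transfer φ xN = 1 := by
    have : xN ∈ (MonoidHom.transfer φ).ker := by
      refine Abelianization.commutator_subset_ker _ ?_
      rw [← Subgroup.map_subtype_commutator] at hxN
      exact (Subgroup.mem_map_iff_mem N.subtype_injective).1 hxN
    exact this
  rw [Transfer.transfer_eq_prod_fixedVal φ _ hgood] at htr
  have htr' : ∏ q : N ⧸ H, q • a₀ = 1 := by
    rw [← Equiv.prod_comp (Equiv.inv (N ⧸ H)), ← htr]
    refine Finset.prod_congr rfl fun q _ => ?_
    induction q using QuotientGroup.induction_on with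
    | H g => rw [hfv]; rfl
  set O : Finset ((P : Subgroup K) ⧸ Z) := (Finset.univ : Finset (N ⧸ H)).image (· • a₀) with hO
  letI := Fintype.ofFinite (MulAction.stabilizer (N ⧸ H) a₀)
  have hfib : ∀ v ∈ O, (Finset.univ.filter fun q : N ⧸ H => q • a₀ = v).card =
      Fintype.card (MulAction.stabilizer (N ⧸ H) a₀) := by
    intro v hv
    obtain ⟨g, -, rfl⟩ := Finset.mem_image.1 hv
    rw [← Fintype.card_subtype]
    exact (Fintype.card_congr (Equiv.subtypeEquiv (Equiv.mulLeft g) fun q => by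
      simp [MulAction.mem_stabilizer_iff, mul_smul])).symm
  have hcop : ¬ 3 ∣ Fintype.card (N ⧸ H) := by
    rw [← Nat.card_eq_fintype_card, ← Subgroup.index_eq_card]
    intro h
    exact P.not_dvd_index (h.trans (Subgroup.relIndex_dvd_index_of_le hPN))
  have htotal : Fintype.card (N ⧸ H) = O.card * Fintype.card (MulAction.stabilizer (N ⧸ H) a₀) := by
    rw [← Finset.card_univ, Finset.card_eq_sum_card_image (fun q : N ⧸ H => q • a₀),
      ← hO, Finset.sum_congr rfl hfib, Finset.sum_const, smul_eq_mul]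
  have hprodc : (∏ v ∈ O, v) ^ Fintype.card (MulAction.stabilizer (N ⧸ H) a₀) = 1 := by
    rw [← Finset.prod_pow, ← htr', ← Finset.prod_fiberwise_of_maps_to
      (t := O) (g := fun q : N ⧸ H => q • a₀)
      (fun q _ => Finset.mem_image_of_mem _ (Finset.mem_univ q))]
    refine Finset.prod_congr rfl fun v hv => ?_
    rw [Finset.prod_congr rfl (fun q hq => (Finset.mem_filter.1 hq).2), Finset.prod_const, hfib v hv]
  refine prod_ne_one hVcard hexp (a := a₀) ?_ O ?_ ?_ (fun h => hcop (htotal ▸ dvd_mul_of_dvd_left h _)) ?_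
  · exact fun e => hxZ ((QuotientGroup.eq_one_iff _).1 e)
  · exact Finset.mem_image.2 ⟨1, Finset.mem_univ _, one_smul _ _⟩
  · intro v hv hv'
    obtain ⟨q, -, rfl⟩ := Finset.mem_image.1 hv
    obtain ⟨q', -, hq'⟩ := Finset.mem_image.1 hv'
    obtain ⟨n, hn⟩ := QuotientGroup.mk_surjective (q⁻¹ * q')
    have h1 : A n a₀ = a₀⁻¹ := by
      have h1 : (q⁻¹ * q') • a₀ = a₀⁻¹ := by
        rw [mul_smul, hq']
        show Ā q⁻¹ (Ā q a₀)⁻¹ = a₀⁻¹
        rw [map_inv (Ā q⁻¹), map_inv Ā q]
        exact congrArg _ ((Ā q).symm_apply_apply a₀)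
      rw [← hn] at h1
      exact h1
    rw [ha₀, hA, ← QuotientGroup.mk_inv, eq_comm, QuotientGroup.eq, inv_inv] at h1
    -- `h1 : x * (n x n⁻¹) ∈ Z`
    obtain ⟨c, hc⟩ := hclass _ h1
    have hc' : (c : K) * x⁻¹ * (c : K)⁻¹ = (n : K) * x * (n : K)⁻¹ := by
      have h9 := congrArg Subtype.val hc
      have hz' := congrArg Subtype.val (Subgroup.mem_center_iff.1 h1 xp⁻¹)
      simp only [xp, Subgroup.coe_mul, Subgroup.coe_inv] at h9 hz'
      rw [h9, ← hz']; group
    refine hreal ((c : K)⁻¹ * (n : K)) ?_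
    calc (c : K)⁻¹ * (n : K) * x * ((c : K)⁻¹ * (n : K))⁻¹
        = (c : K)⁻¹ * ((n : K) * x * (n : K)⁻¹) * c := by group
      _ = x⁻¹ := by rw [← hc']; group
  · refine orderOf_eq_one_iff.1 (Nat.dvd_one.1 ?_)
    have hr : Nat.gcd 3 (Fintype.card (MulAction.stabilizer (N ⧸ H) a₀)) = 1 :=
      (Nat.prime_three.coprime_iff_not_dvd).2 fun h => hcop (htotal ▸ dvd_mul_of_dvd_right h _)
    rw [← hr]
    exact Nat.dvd_gcd (orderOf_dvd_of_pow_eq_one (hexp _)) (orderOf_dvd_of_pow_eq_one hprodc)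

end CfsgLib.L34Cent
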