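import Cfsg.Agent.Lib.L34Cent.Interface
import Cfsg.Agent.Lib.L34Cent.TransferThree
import Cfsg.Agent.Lib.Base.Cores
import Cfsg.Agent.Lib.Base.Nilpotent
import Cfsg.Agent.Lib.Recog.CIT.Defs

/-!
# The normal subgroup of order `20160`

With `|G| = 241920`, the tower and the fusion of the involutions, the derived group of the subgroup of
index four is simple of order `20160` with all involution centralisers `2`-groups, and has trivial
centraliser.
-/

set_option autoImplicit false
set_option linter.unusedSectionVars false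
set_option linter.style.haveILetI false
set_option maxRecDepth 100000
set_option maxHeartbeats 1000000

namespace CfsgLib.L34Cent

open Subgroup

universe u

/-- the centraliser of `z` in the subgroup of index four -/
def cL : List Nat := els.filter fun m => chiQ m == 0 && chiP m == 0

theorem mem_cL {m : ℕ} (hm : m < 768) : m ∈ cL ↔ chiQ m = 0 ∧ chiP m = 0 := by
  simp [cL, els, hm]

theorem cL_lt {m : ℕ} (h : m ∈ cL) : m < 768 := els_lt (List.mem_filter.1 h).1

theorem cL_mul : ∀ a ∈ cL, ∀ b ∈ cL, chiQ (mulN 0 a b) = 0 ∧ chiP (mulN 0 a b) = 0 := by decide +kernel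
theorem cL_inv : ∀ a ∈ cL, chiQ (invN 0 a) = 0 ∧ chiP (invN 0 a) = 0 := by decide +kernel
theorem nodup_cL : cL.Nodup := List.Nodup.filter _ List.nodup_range
theorem isSub_tL : IsSub 0 tL := by decide +kernel
theorem len_cL : cL.length = 192 := by decide +kernel
theorem len_tL : tL.length = 64 := by decide +kernel
theorem tL_sub_cL : ∀ m ∈ tL, m ∈ cL := by decide +kernel
theorem tL_pow : ∀ m ∈ cL, powN 0 m 4 = 0 ↔ m ∈ tL := by decide +kernel
theorem cL_comm : ∀ m ∈ cL, mulN 0 m uN = mulN 0 uN m ∧ mulN 0 m zuN = mulN 0 zuN m := by decide +kernel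
theorem tL_center : ∀ m ∈ els, (∀ n ∈ tL, mulN 0 m n = mulN 0 n m) → mulN 0 m m = 0 →
    m = 0 ∨ m = zN ∨ m = uN ∨ m = zuN := by decide +kernel
theorem cL_invol : ∀ m ∈ cL, mulN 0 m m = 0 → m = 0 ∨ m = zN ∨ m = uN ∨ m = zuN ∨
    (m ∈ clsOf 0 7 ∧ m ∈ tL) := by decide +kernel
theorem tL_gen : ∀ m ∈ tL, ∃ a ∈ tL, mulN 0 a a = 0 ∧ ∃ b ∈ tL, mulN 0 b b = 0 ∧ mulN 0 a b = m := by
  decide +kernel
theorem xN_spec : xN ∈ cL ∧ xN ∉ tL ∧ powN 0 xN 3 = 0 ∧ mulN 0 xN xN ∉ tL ∧
    (∃ n ∈ tL, mulN 0 xN n ≠ mulN 0 n xN) := by decide +kernel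
theorem xN_comm : ∀ m ∈ cL, mulN 0 m xN = mulN 0 xN m →
    ∃ v ∈ [0, zN, uN, zuN], m = v ∨ m = mulN 0 v xN ∨ m = mulN 0 v (mulN 0 xN xN) := by decide +kernel
theorem cls_u : clsOf 0 uN = [uN, zuN] ∧ (zN, [zN]) ∈ clsL 0 ∧ (uN, [uN, zuN]) ∈ clsL 0 ∧
    (7, clsOf 0 7) ∈ clsL 0 := by decide +kernel

/-- The hypothesis on groups with a self-centralising four group. -/
def FourHyp : Prop :=
  ∀ (K : Type u) [Group K] [Finite K] (V : Subgroup K), IsKleinFour V →
    (∀ v ∈ V, v ≠ 1 → Subgroup.centralizer ({v} : Set K) = V) →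
      Nat.card K = 4 ∨ Nat.card K = 12 ∨ Nat.card K = 60

variable {G : Type u} [Group G] [Finite G] {z : G}

namespace Setting

variable (D : Cen 0 z)

/-- `C(z) ⊓ G2` -/
def Cc : Subgroup G where
  carrier := {g | ∃ m ∈ cL, D.val m = g}
  one_mem' := ⟨0, by decide +kernel, D.val_zero⟩
  mul_mem' := by
    rintro a b ⟨i, hi, rfl⟩ ⟨j, hj, rfl⟩
    exact ⟨mulN 0 i j, (mem_cL (mulN_lt ..)).2 (cL_mul i hi j hj), D.val_mul i j (cL_lt hi) (cL_lt hj)⟩
  inv_mem' := by
    rintro a ⟨i, hi, rfl⟩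
    exact ⟨invN 0 i, (mem_cL (invN_lt D.hk (cL_lt hi))).2 (cL_inv i hi), D.val_inv (cL_lt hi)⟩
/-- the normal subgroup `T` of order `64` of `C(z) ⊓ G2` -/
def Tt : Subgroup G := D.grp isSub_tL
/-- the element `x` -/
def xx : G := D.val xN

variable {D}

theorem tt_le : Tt D ≤ Cc D := by
  rintro g ⟨m, hm, rfl⟩
  exact ⟨m, tL_sub_cL m hm, rfl⟩

theorem card_cc : Nat.card (Cc D) = 192 := (D.card_image (fun _ h => cL_lt h) nodup_cL).trans len_cL
theorem card_tt : Nat.card (Tt D) = 64 := (D.card_grp isSub_tL).trans len_tL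

theorem cc_eq (S : Tower D) : Cc D = S.G2 ⊓ centralizer ({z} : Set G) := by
  ext g
  rw [mem_inf, D.mem_cent_iff]
  constructor
  · rintro ⟨m, hm, rfl⟩
    exact ⟨(S.mem2 m (cL_lt hm)).2 ((mem_cL (cL_lt hm)).1 hm), m, cL_lt hm, rfl⟩
  · rintro ⟨hg, m, hm, rfl⟩
    exact ⟨m, (mem_cL hm).2 ((S.mem2 m hm).1 hg), rfl⟩

theorem cc_le (S : Tower D) : Cc D ≤ S.G2 := cc_eq S ▸ inf_le_left
theorem tt_le_G2 (S : Tower D) : Tt D ≤ S.G2 := tt_le.trans (cc_le S)

theorem z_mem_tt : z ∈ Tt D := ⟨zN, by decide +kernel, D.val_z⟩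
theorem u_mem_tt : D.val uN ∈ Tt D := ⟨uN, by decide +kernel, rfl⟩
theorem zu_mem_tt : D.val zuN ∈ Tt D := ⟨zuN, by decide +kernel, rfl⟩
theorem xx_mem : xx D ∈ Cc D := ⟨xN, xN_spec.1, rfl⟩

theorem xx_pow : xx D ^ 3 = 1 := by
  rw [xx, ← D.val_pow (cL_lt xN_spec.1), xN_spec.2.2.1, D.val_zero]

theorem xx_ne : xx D ≠ 1 := fun h => by
  have := D.val_eq_one (cL_lt xN_spec.1) h
  simp [xN] at this

theorem orderOf_xx : orderOf (xx D) = 3 :=
  haveI : Fact (Nat.Prime 3) := ⟨Nat.prime_three⟩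
  orderOf_eq_prime xx_pow xx_ne

theorem xx_not_mem : xx D ∉ Tt D := fun h => xN_spec.2.1 ((D.mem_grp isSub_tL (cL_lt xN_spec.1)).1 h)

theorem xx_sq_not_mem : xx D * xx D ∉ Tt D := fun h => by
  rw [xx, ← D.val_mul _ _ (cL_lt xN_spec.1) (cL_lt xN_spec.1)] at h
  exact xN_spec.2.2.2.1 ((D.mem_grp isSub_tL (mulN_lt ..)).1 h)

theorem xx_not_comm : ∃ t ∈ Tt D, xx D * t ≠ t * xx D := by
  obtain ⟨n, hn, hne⟩ := xN_spec.2.2.2.2
  have hn' := cL_lt (tL_sub_cL n hn)
  exact ⟨D.val n, ⟨n, hn, rfl⟩, fun h => hne (D.mul_val_eq (cL_lt xN_spec.1) hn' h)⟩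

theorem cc_comm_u {g : G} (hg : g ∈ Cc D) :
    g * D.val uN = D.val uN * g ∧ g * D.val zuN = D.val zuN * g := by
  obtain ⟨m, hm, rfl⟩ := hg
  exact ⟨D.val_commute (cL_lt hm) (by decide) (cL_comm m hm).1,
    D.val_commute (cL_lt hm) (by decide) (cL_comm m hm).2⟩

theorem mem_tt_of_pow {g : G} (hg : g ∈ Cc D) (h : g ^ 4 = 1) : g ∈ Tt D := by
  obtain ⟨m, hm, rfl⟩ := hg
  rw [← D.val_pow (cL_lt hm)] at h
  exact ⟨m, (tL_pow m hm).1 (D.val_eq_one (powN_lt ..) h), rfl⟩

theorem pow_of_mem_tt {g : G} (hg : g ∈ Tt D) : g ^ 4 = 1 := by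
  obtain ⟨m, hm, rfl⟩ := hg
  rw [← D.val_pow (cL_lt (tL_sub_cL m hm)), (tL_pow m (tL_sub_cL m hm)).2 hm, D.val_zero]

/-- `T` is normalised by `C(z) ⊓ G2`. -/
theorem tt_conj {c g : G} (hc : c ∈ Cc D) (hg : g ∈ Tt D) : c * g * c⁻¹ ∈ Tt D :=
  mem_tt_of_pow (mul_mem (mul_mem hc (tt_le hg)) (inv_mem hc)) (by
    rw [conj_pow, pow_of_mem_tt hg]; group)

theorem zu_isConj (hf : Fused D) : IsConj z (D.val zuN) :=
  hf.hu.trans (D.cls_conj cls_u.2.2.1 (by simp))

/-- every involution of `C(z) ⊓ G2` is conjugate to `z` and lies in `T` -/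
theorem cc_invol (hf : Fused D) {g : G} (hg : g ∈ Cc D) (hg2 : g * g = 1) (hg1 : g ≠ 1) :
    IsConj z g ∧ g ∈ Tt D := by
  obtain ⟨m, hm, rfl⟩ := hg
  have hsq : mulN 0 m m = 0 := D.val_sq (cL_lt hm) hg2
  refine ⟨?_, mem_tt_of_pow ⟨m, hm, rfl⟩ (by rw [pow_succ, pow_succ, pow_two, hg2, one_mul, hg2])⟩
  rcases cL_invol m hm hsq with rfl | rfl | rfl | rfl | ⟨h, -⟩
  · exact absurd D.val_zero hg1
  · rw [D.val_z]
  · exact hf.hu
  · exact zu_isConj hf
  · exact hf.h7.trans (D.cls_conj cls_u.2.2.2 h)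

variable (S : Tower D) (hf : Fused D) (hcard : Nat.card G = 241920) (hO : Cfsg.oddCore G = ⊥)

theorem card_G2 (hcard : Nat.card G = 241920) : Nat.card S.G2 = 60480 := by
  have := S.G2.index_mul_card
  rw [S.index2, hcard] at this
  omega

/-- If `|G : K| |K ⊓ C(z)| = 768`, the conjugates of `z` are conjugate under `K`. -/
theorem conj_of_index (D : Cen 0 z) {K : Subgroup G} [K.Normal]
    (h : K.index * Nat.card (K ⊓ centralizer ({z} : Set G) : Subgroup G) = 768) {w : G}
    (hw : IsConj z w) : ∃ k ∈ K, k * z * k⁻¹ = w := by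
  set H := centralizer ({z} : Set G) with hH
  have h1 : K.relIndex H * Nat.card (K ⊓ H : Subgroup G) = 768 := by
    rw [← D.card_cent, ← inf_relIndex_right K H]
    have := relIndex_mul_relIndex ⊥ (K ⊓ H) H bot_le inf_le_right
    rw [relIndex_bot_left, relIndex_bot_left] at this
    rw [← this, mul_comm]
  have h2 : K.relIndex H = K.index := by
    have hpos : 0 < Nat.card (K ⊓ H : Subgroup G) := Nat.card_pos
    exact Nat.eq_of_mul_eq_mul_right hpos (h1.trans h.symm)
  have h3 : H ⊔ K = ⊤ := by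
    rw [← index_eq_one]
    have h4 := relIndex_mul_index (show K ≤ H ⊔ K from le_sup_right)
    rw [relIndex_sup_right, h2] at h4
    exact (mul_eq_left₀ K.index_ne_zero_of_finite).1 h4
  obtain ⟨g, rfl⟩ := isConj_iff.1 hw
  obtain ⟨k, hk, c, hc, rfl⟩ := mem_sup_of_normal_left.1 (show g ∈ K ⊔ H by rw [sup_comm, h3]; trivial)
  refine ⟨k, hk, ?_⟩
  rw [mul_inv_rev, show k * c * z * (c⁻¹ * k⁻¹) = k * (c * z) * c⁻¹ * k⁻¹ by group,
    mem_centralizer_singleton_iff.1 hc]
  group

theorem index_cond_G2 (_hcard : Nat.card G = 241920) :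
    S.G2.index * Nat.card (S.G2 ⊓ centralizer ({z} : Set G) : Subgroup G) = 768 := by
  rw [← cc_eq S, S.index2, card_cc]

include hf in
theorem invol_G2 (hcard : Nat.card G = 241920) {w : G} (hw : w ∈ S.G2) (hw2 : w * w = 1) (hw1 : w ≠ 1) :
    IsConj z w := by
  haveI : Fact (Nat.Prime 2) := ⟨Nat.prime_two⟩
  have hTp : IsPGroup 2 ((Tt D).subgroupOf S.G2) :=
    IsPGroup.of_card (n := 6) (by
      rw [Nat.card_congr (subgroupOfEquivOfLe (tt_le_G2 S)).toEquiv, card_tt]; norm_num)
  have hdvd : ¬ 2 ∣ ((Tt D).subgroupOf S.G2).index := by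
    have h := ((Tt D).subgroupOf S.G2).index_mul_card
    rw [Nat.card_congr (subgroupOfEquivOfLe (tt_le_G2 S)).toEquiv, card_tt, card_G2 S hcard] at h
    omega
  let P : Sylow 2 S.G2 := hTp.toSylow hdvd
  have hwp : IsPGroup 2 (zpowers (⟨w, hw⟩ : S.G2)) := IsPGroup.of_card (n := 1) (by
    rw [Nat.card_zpowers, pow_one]
    exact orderOf_eq_prime (by rw [pow_two]; exact Subtype.ext hw2) (fun e => hw1 (congrArg Subtype.val e)))
  obtain ⟨Q, hQ⟩ := hwp.exists_le_sylow
  obtain ⟨k, hk⟩ := MulAction.exists_smul_eq S.G2 Q P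
  have hmem : MulAut.conj k ⟨w, hw⟩ ∈ ((Tt D).subgroupOf S.G2) := by
    have : MulAut.conj k • (⟨w, hw⟩ : S.G2) ∈ ((k • Q : Sylow 2 S.G2) : Subgroup S.G2) := by
      rw [Sylow.coe_subgroup_smul]
      exact smul_mem_pointwise_smul _ _ _ (hQ (mem_zpowers _))
    rw [hk] at this
    exact this
  have hconj : IsConj w ((k : G) * w * (k : G)⁻¹) := isConj_iff.2 ⟨k, rfl⟩
  refine ((cc_invol hf (g := (k : G) * w * (k : G)⁻¹) (tt_le hmem) ?_ ?_).1).trans hconj.symm
  · rw [show (k : G) * w * (k : G)⁻¹ * ((k : G) * w * (k : G)⁻¹) = k * (w * w) * (k : G)⁻¹ by group, hw2]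
    group
  · rw [Ne, mul_inv_eq_one, mul_eq_left]; exact hw1

include hf hO in
/-- A non-trivial normal subgroup inside `G2` contains `T`. -/
theorem tt_le_normal (hcard : Nat.card G = 241920) {K : Subgroup G} [K.Normal] (hK : K ≤ S.G2)
    (hne : K ≠ ⊥) : Tt D ≤ K := by
  haveI : Fact (Nat.Prime 2) := ⟨Nat.prime_two⟩
  have heven : 2 ∣ Nat.card K := by
    by_contra h
    exact hne (le_bot_iff.1 (hO ▸ Base.le_oddCore (Nat.odd_iff.2 (by omega))))
  obtain ⟨⟨w, hwK⟩, hw⟩ := exists_prime_orderOf_dvd_card' (G := K) 2 heven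
  rw [Subgroup.orderOf_mk] at hw
  have hconj := invol_G2 S hf hcard (hK hwK) (by rw [← pow_two, ← hw, pow_orderOf_eq_one])
    (fun e => by rw [e, orderOf_one] at hw; norm_num at hw)
  have hmem : ∀ v, IsConj z v → v ∈ K := fun v hv => by
    obtain ⟨g, rfl⟩ := isConj_iff.1 (hconj.symm.trans hv)
    exact Subgroup.Normal.conj_mem ‹_› w hwK g
  rintro g ⟨m, hm, rfl⟩
  obtain ⟨a, ha, ha2, b, hb, hb2, rfl⟩ := tL_gen m hm
  rw [D.val_mul a b (cL_lt (tL_sub_cL a ha)) (cL_lt (tL_sub_cL b hb))]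
  have key : ∀ a ∈ tL, mulN 0 a a = 0 → D.val a ∈ K := fun a ha ha2 => by
    by_cases h1 : D.val a = 1
    · rw [h1]; exact one_mem _
    · exact hmem _ (cc_invol hf ⟨a, tL_sub_cL a ha, rfl⟩ (by
        rw [← D.val_mul a a (cL_lt (tL_sub_cL a ha)) (cL_lt (tL_sub_cL a ha)), ha2, D.val_zero]) h1).1
  exact mul_mem (key a ha ha2) (key b hb hb2)

theorem conj_tt_of_conj {k v : G} (hkG : k ∈ S.G2) (hv : k * z * k⁻¹ = v)
    (hc : ∀ g ∈ Cc D, g * v = v * g) : k ∈ normalizer (Tt D : Set G) := by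
  haveI := S.normal2
  have hsub : ∀ g ∈ Cc D, k⁻¹ * g * k ∈ Cc D := by
    intro g hg
    rw [cc_eq S] at hg ⊢
    refine mem_inf.2 ⟨mul_mem (mul_mem (inv_mem hkG) (mem_inf.1 hg).1) hkG,
      mem_centralizer_singleton_iff.2 ?_⟩
    have h1 := hc g (by rw [cc_eq S]; exact hg)
    rw [← hv] at h1
    calc k⁻¹ * g * k * z = k⁻¹ * (g * (k * z * k⁻¹)) * k := by group
      _ = _ := by rw [h1]; group
  have hT : ∀ g ∈ Tt D, k⁻¹ * g * k ∈ Tt D := fun g hg =>
    mem_tt_of_pow (hsub g (tt_le hg)) (by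
      have := conj_pow (i := 4) (a := k⁻¹) (b := g)
      rw [inv_inv] at this
      rw [this, pow_of_mem_tt hg]; group)
  have hinv : k⁻¹ ∈ normalizer (Tt D : Set G) := by
    refine mem_normalizer_iff_map_conj_eq.2 (eq_of_le_of_card_ge ?_ (le_of_eq (Nat.card_congr
      ((Tt D).equivMapOfInjective _ (MulAut.conj k⁻¹).injective).toEquiv)))
    rintro _ ⟨g, hg, rfl⟩
    simpa using hT g hg
  simpa using inv_mem hinv

/-- `z, u, uz` -/
def threeSet (D : Cen 0 z) : Set G := {z, D.val uN, D.val zuN}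

theorem threeSet_comm {v : G} (hv : v ∈ threeSet D) {g : G} (hg : g ∈ Cc D) : g * v = v * g := by
  rcases hv with rfl | rfl | rfl
  · obtain ⟨m, hm, rfl⟩ := hg; exact D.val_comm m (cL_lt hm)
  · exact (cc_comm_u hg).1
  · exact (cc_comm_u hg).2

theorem card_threeSet : Nat.card (threeSet D) = 3 := by
  have e : threeSet D = ({g | ∃ m ∈ [zN, uN, zuN], D.val m = g} : Set G) := by
    ext g
    simp [threeSet, D.val_z, eq_comm]
  rw [e]
  exact D.card_image (l := [zN, uN, zuN]) (by decide) (by decide)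

theorem mem_threeSet_of_norm {g : G} (hg : g ∈ normalizer (Tt D : Set G)) :
    g * z * g⁻¹ ∈ threeSet D := by
  obtain ⟨m, hm, he⟩ := (mem_normalizer_iff.1 hg z).1 z_mem_tt
  have hm' := cL_lt (tL_sub_cL m hm)
  have hz1 : g * z * g⁻¹ ≠ 1 := by
    rw [Ne, mul_inv_eq_one, mul_eq_left]
    intro e
    have := D.ord
    rw [e, orderOf_one] at this
    norm_num at this
  have hcomm : ∀ n ∈ tL, mulN 0 m n = mulN 0 n m := by
    intro n hn
    have hn' := cL_lt (tL_sub_cL n hn)
    refine D.mul_val_eq hm' hn' ?_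
    have h2 : g⁻¹ * D.val n * g ∈ Tt D := by
      have := (mem_normalizer_iff.1 (inv_mem hg) (D.val n)).1 ⟨n, hn, rfl⟩
      simpa using this
    obtain ⟨r, hr, hre⟩ := h2
    have hc : g⁻¹ * D.val n * g * z = z * (g⁻¹ * D.val n * g) := by
      rw [← hre]; exact D.val_comm r (cL_lt (tL_sub_cL r hr))
    rw [he]
    calc g * z * g⁻¹ * D.val n = g * (z * (g⁻¹ * D.val n * g)) * g⁻¹ := by group
      _ = D.val n * (g * z * g⁻¹) := by rw [← hc]; group
  rcases tL_center m (mem_els hm') hcomm (D.val_sq hm' (by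
      rw [he, show g * z * g⁻¹ * (g * z * g⁻¹) = g * (z * z) * g⁻¹ by group, D.zz]; group)) with
    rfl | rfl | rfl | rfl
  · exact absurd (he.symm.trans D.val_zero) hz1
  · rw [← he, D.val_z]; exact Or.inl rfl
  · rw [← he]; exact Or.inr (Or.inl rfl)
  · rw [← he]; exact Or.inr (Or.inr rfl)

theorem threeSet_conj (hf : Fused D) {v : G} (hv : v ∈ threeSet D) : IsConj z v := by
  rcases hv with rfl | rfl | rfl
  · exact IsConj.refl _
  · exact hf.hu
  · exact zu_isConj hf

include hf in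
theorem exists_norm_conj {K : Subgroup G} [K.Normal] (hK : K ≤ S.G2)
    (h : K.index * Nat.card (K ⊓ centralizer ({z} : Set G) : Subgroup G) = 768) {v : G}
    (hv : v ∈ threeSet D) : ∃ k ∈ K ⊓ normalizer (Tt D : Set G), k * z * k⁻¹ = v := by
  obtain ⟨k, hk, he⟩ := conj_of_index D h (threeSet_conj hf hv)
  exact ⟨k, mem_inf.2 ⟨hk, conj_tt_of_conj S (hK hk) he fun g hg => threeSet_comm hv hg⟩, he⟩

include hf in
theorem card_norm {K : Subgroup G} [K.Normal] (hK : K ≤ S.G2)
    (h : K.index * Nat.card (K ⊓ centralizer ({z} : Set G) : Subgroup G) = 768) :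
    Nat.card (K ⊓ normalizer (Tt D : Set G) : Subgroup G) =
      3 * Nat.card (K ⊓ centralizer ({z} : Set G) : Subgroup G) := by
  set M := K ⊓ normalizer (Tt D : Set G) with hM
  set L := (K ⊓ centralizer ({z} : Set G)).subgroupOf M with hL
  have hle : K ⊓ centralizer ({z} : Set G) ≤ M := by
    intro g hg
    refine mem_inf.2 ⟨(mem_inf.1 hg).1, ?_⟩
    have hg' : g ∈ Cc D := by
      rw [cc_eq S]; exact mem_inf.2 ⟨hK (mem_inf.1 hg).1, (mem_inf.1 hg).2⟩
    refine mem_normalizer_iff.2 fun a => ⟨fun ha => tt_conj hg' ha, fun ha => ?_⟩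
    have := tt_conj (inv_mem hg') ha
    simpa [mul_assoc] using this
  have hbij : Function.Bijective (fun q : M ⧸ L => Quotient.liftOn' q
      (fun m : M => (⟨(m : G) * z * (m : G)⁻¹, mem_threeSet_of_norm (mem_inf.1 m.2).2⟩ : threeSet D))
      (fun a b hab => by
        rw [QuotientGroup.leftRel_apply] at hab
        have hc := mem_centralizer_singleton_iff.1 (mem_inf.1 hab).2
        apply Subtype.ext
        show (a : G) * z * (a : G)⁻¹ = (b : G) * z * (b : G)⁻¹
        simp only [coe_mul, coe_inv, coe_subtype] at hc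
        calc (a : G) * z * (a : G)⁻¹
            = (a : G) * (z * ((a : G)⁻¹ * b)) * (b : G)⁻¹ := by group
          _ = _ := by rw [← hc]; group)) := by
    constructor
    · intro a b hab
      induction a using QuotientGroup.induction_on with
      | H a => induction b using QuotientGroup.induction_on with
        | H b =>
          refine QuotientGroup.eq.2 (mem_inf.2 ⟨mul_mem (inv_mem (mem_inf.1 a.2).1) (mem_inf.1 b.2).1,
            mem_centralizer_singleton_iff.2 ?_⟩)
          have h1 : (a : G) * z * (a : G)⁻¹ = (b : G) * z * (b : G)⁻¹ := congrArg Subtype.val hab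
          show (a : G)⁻¹ * b * z = z * ((a : G)⁻¹ * b)
          calc (a : G)⁻¹ * b * z = (a : G)⁻¹ * ((b : G) * z * (b : G)⁻¹) * b := by group
            _ = _ := by rw [← h1]; group
    · rintro ⟨v, hv⟩
      obtain ⟨k, hk, he⟩ := exists_norm_conj S hf hK h hv
      exact ⟨((⟨k, hk⟩ : M) : M ⧸ L), Subtype.ext he⟩
  have := L.index_mul_card
  rw [index_eq_card, Nat.card_eq_of_bijective _ hbij, card_threeSet,
    Nat.card_congr (subgroupOfEquivOfLe hle).toEquiv] at this
  exact this.symm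

/-- Two elements of `N(T) ⊓ G2` commute modulo `T`. -/
theorem comm_mod_tt {M : Subgroup G} (hM : Nat.card M = 576) (hT : Tt D ≤ M)
    (hN : M ≤ normalizer (Tt D : Set G)) {a b : G} (ha : a ∈ M) (hb : b ∈ M) :
    a * b * a⁻¹ * b⁻¹ ∈ Tt D := by
  haveI : Fact (Nat.Prime 3) := ⟨Nat.prime_three⟩
  set T' := (Tt D).subgroupOf M with hT'
  haveI : T'.Normal := normal_subgroupOf_of_le_normalizer hN
  have hq : Nat.card (M ⧸ T') = 3 ^ 2 := by
    have := T'.index_mul_card
    rw [index_eq_card, Nat.card_congr (subgroupOfEquivOfLe hT).toEquiv, card_tt, hM] at this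
    omega
  have hc := (IsPGroup.isMulCommutative_of_card_eq_prime_sq hq).is_comm.comm
    ((⟨a, ha⟩ : M) : M ⧸ T') ((⟨b, hb⟩ : M) : M ⧸ T')
  have h1 : ((⟨a, ha⟩ * ⟨b, hb⟩ * ⟨a, ha⟩⁻¹ * ⟨b, hb⟩⁻¹ : M) : M ⧸ T') = 1 := by
    rw [QuotientGroup.mk_mul, QuotientGroup.mk_mul, QuotientGroup.mk_mul, hc, QuotientGroup.mk_inv,
      QuotientGroup.mk_inv, mul_inv_cancel_right, mul_inv_cancel]
  have h2 := (QuotientGroup.eq_one_iff _).1 h1
  exact h2

/-- The centraliser of `x` in `G2`. -/
def Cx : Subgroup G := S.G2 ⊓ centralizer ({xx D} : Set G)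

theorem four_facts : ∃ V : Subgroup G, V ≤ Tt D ∧ V ≤ Cx S ∧ Nat.card V = 4 ∧
    ∀ v ∈ V, v ≠ 1 → v ∈ threeSet D := by
  have hsub : IsSub 0 [0, zN, uN, zuN] := by decide +kernel
  refine ⟨D.grp hsub, ?_, ?_, D.card_grp hsub, ?_⟩
  · rintro g ⟨m, hm, rfl⟩
    exact ⟨m, (by decide +kernel : ∀ m ∈ [0, zN, uN, zuN], m ∈ tL) m hm, rfl⟩
  · rintro g ⟨m, hm, rfl⟩
    have hm' : m < 768 := (by decide +kernel : ∀ m ∈ [0, zN, uN, zuN], m < 768) m hm
    refine mem_inf.2 ⟨tt_le_G2 S
      ⟨m, (by decide +kernel : ∀ m ∈ [0, zN, uN, zuN], m ∈ tL) m hm, rfl⟩,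
      mem_centralizer_singleton_iff.2 ?_⟩
    exact D.val_commute hm' (cL_lt xN_spec.1)
      ((by decide +kernel : ∀ m ∈ [0, zN, uN, zuN], mulN 0 m xN = mulN 0 xN m) m hm)
  · rintro g ⟨m, hm, rfl⟩ hg
    simp only [List.mem_cons, List.not_mem_nil, or_false] at hm
    rcases hm with rfl | rfl | rfl | rfl
    · exact absurd D.val_zero hg
    · rw [D.val_z]; exact Or.inl rfl
    · exact Or.inr (Or.inl rfl)
    · exact Or.inr (Or.inr rfl)

include hf in
theorem card_cx (hfour : FourHyp.{u}) (hcard : Nat.card G = 241920) :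
    Nat.card (Cx S) = 12 ∨ Nat.card (Cx S) = 36 ∨ Nat.card (Cx S) = 180 := by
  haveI := S.normal2
  obtain ⟨V, hVT, hVC, hV4, hV3⟩ := four_facts S
  have hxC : xx D ∈ Cx S := mem_inf.2 ⟨cc_le S xx_mem, mem_centralizer_singleton_iff.2 rfl⟩
  set Z : Subgroup (Cx S) := zpowers ⟨xx D, hxC⟩ with hZ
  haveI : Z.Normal := by
    refine ⟨fun a ha g => ?_⟩
    obtain ⟨i, rfl⟩ := mem_zpowers_iff.1 ha
    have hc : Commute g (⟨xx D, hxC⟩ : Cx S) :=
      Subtype.ext (mem_centralizer_singleton_iff.1 (mem_inf.1 g.2).2)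
    rw [(hc.zpow_right i).eq, mul_inv_cancel_right]
    exact zpow_mem (mem_zpowers _) i
  have hZcard : Nat.card Z = 3 := by rw [Nat.card_zpowers, Subgroup.orderOf_mk, orderOf_xx]
  set π := QuotientGroup.mk' Z with hπ
  set W := (V.subgroupOf (Cx S)).map π with hW
  have hpow : ∀ c : Cx S, c ∈ Z → c ^ 3 = 1 := fun c hc => by
    obtain ⟨i, rfl⟩ := mem_zpowers_iff.1 hc
    rw [← zpow_natCast, ← zpow_mul, mul_comm, zpow_mul, zpow_natCast,
      show (⟨xx D, hxC⟩ : Cx S) ^ 3 = 1 from Subtype.ext xx_pow, one_zpow]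
  have hV2 : ∀ v ∈ V, v * v = 1 := fun v hv => by
    by_cases h : v = 1
    · rw [h, one_mul]
    · rcases hV3 v hv h with rfl | rfl | rfl
      · exact D.zz
      · rw [← D.val_mul _ _ (by decide) (by decide), show mulN 0 uN uN = 0 by decide +kernel, D.val_zero]
      · rw [← D.val_mul _ _ (by decide) (by decide), show mulN 0 zuN zuN = 0 by decide +kernel, D.val_zero]
  have hinj : ∀ v : Cx S, (v : G) ∈ V → π v = 1 → v = 1 := fun v hv hv1 => by
    have h3 := hpow v ((QuotientGroup.eq_one_iff v).1 hv1)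
    have h2 : v * v = 1 := Subtype.ext (hV2 v hv)
    rw [pow_succ, pow_two, h2, one_mul] at h3
    exact h3
  have hW4 : Nat.card W = 4 := by
    rw [← hV4, ← Nat.card_congr (subgroupOfEquivOfLe hVC).toEquiv]
    exact (Nat.card_eq_of_bijective (fun v : V.subgroupOf (Cx S) => (⟨π v, mem_map_of_mem π v.2⟩ : W))
      ⟨fun a b hab => Subtype.ext (mul_inv_eq_one.1 (hinj ((a : Cx S) * (b : Cx S)⁻¹)
        (mul_mem a.2 (inv_mem b.2)) (by
          rw [map_mul, map_inv, show π a = π b from congrArg Subtype.val hab, mul_inv_cancel]))),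
      fun ⟨w, v, hv, e⟩ => ⟨⟨v, hv⟩, Subtype.ext e⟩⟩).symm
  have hkl : IsKleinFour W := by
    refine ⟨hW4, ?_⟩
    haveI : Nontrivial W := by rw [← Finite.one_lt_card_iff_nontrivial, hW4]; norm_num
    refine Monoid.exponent_eq_prime_iff Nat.prime_two |>.2 fun w hw => ?_
    obtain ⟨w, v, hv, rfl⟩ := w
    exact orderOf_eq_prime (Subtype.ext (by
      show π v ^ 2 = 1
      rw [← map_pow, pow_two, show v * v = 1 from Subtype.ext (hV2 v hv), map_one])) hw
  have hcentW : ∀ w ∈ W, w ≠ 1 → centralizer ({w} : Set (Cx S ⧸ Z)) = W := by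
    rintro _ ⟨v, hv, rfl⟩ hw
    have hv1 : (v : G) ≠ 1 := fun e => hw (by rw [show v = 1 from Subtype.ext e, map_one])
    have hvT := hV3 v hv hv1
    refine le_antisymm (fun q hq => ?_) ?_
    · induction q using QuotientGroup.induction_on with
      | H g =>
        have hq' := mem_centralizer_singleton_iff.1 hq
        have h1 : g * v * g⁻¹ * v⁻¹ ∈ Z := by
          rw [← QuotientGroup.eq_one_iff]
          simp only [QuotientGroup.mk_mul, QuotientGroup.mk_inv]
          have e : (g : Cx S ⧸ Z) * (v : Cx S ⧸ Z) = (v : Cx S ⧸ Z) * (g : Cx S ⧸ Z) := hq'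
          rw [e, mul_inv_cancel_right, mul_inv_cancel]
        set c := g * v * g⁻¹ * v⁻¹ with hcdef
        have hcv : Commute c v := by
          obtain ⟨i, hi⟩ := mem_zpowers_iff.1 h1
          rw [← hi]
          have hcm : Commute (⟨xx D, hxC⟩ : Cx S) v :=
            Subtype.ext (mem_centralizer_singleton_iff.1 (mem_inf.1 v.2).2).symm
          exact hcm.zpow_left i
        have hvv : v * v = 1 := Subtype.ext (hV2 v hv)
        have h2 : c * c = 1 := by
          have e1 : c * v = g * v * g⁻¹ := by rw [hcdef]; group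
          have e2 : c * v * (c * v) = 1 := by
            rw [e1, show g * v * g⁻¹ * (g * v * g⁻¹) = g * (v * v) * g⁻¹ by group, hvv]; group
          rwa [show c * v * (c * v) = c * (v * c) * v by group, ← hcv.eq,
            show c * (c * v) * v = c * c * (v * v) by group, hvv, mul_one] at e2
        have h3 : c = 1 := by
          have := hpow c h1
          rwa [pow_succ, pow_two, h2, one_mul] at this
        have h3' : g * v * g⁻¹ * v⁻¹ = 1 := h3
        have e5 : g * v = v * g := mul_inv_eq_iff_eq_mul.1 (mul_inv_eq_one.1 h3')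
        have hgv : (g : G) * (v : G) = (v : G) * (g : G) := congrArg Subtype.val e5
        -- so `g` centralises `v` in `G2`
        have hg2 := (mem_inf.1 g.2).1
        have hgz : (g : G) ∈ Cc D := by
          obtain ⟨k, hk, hke⟩ := exists_norm_conj S hf le_rfl (index_cond_G2 S hcard) hvT
          rw [cc_eq S]
          refine mem_inf.2 ⟨hg2, mem_centralizer_singleton_iff.2 ?_⟩
          have h5 : k⁻¹ * (g : G) * k ∈ Cc D := by
            rw [cc_eq S]
            refine mem_inf.2 ⟨mul_mem (mul_mem (inv_mem (mem_inf.1 hk).1) hg2) (mem_inf.1 hk).1,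
              mem_centralizer_singleton_iff.2 ?_⟩
            rw [← hke] at hgv
            calc k⁻¹ * (g : G) * k * z = k⁻¹ * ((g : G) * (k * z * k⁻¹)) * k := by group
              _ = _ := by rw [hgv]; group
          have h6 : k⁻¹ * z * k ∈ threeSet D := by
            have := mem_threeSet_of_norm (D := D) (inv_mem (mem_inf.1 hk).2)
            simpa using this
          have h7 := threeSet_comm h6 h5
          calc (g : G) * z = k * (k⁻¹ * (g : G) * k * (k⁻¹ * z * k)) * k⁻¹ := by group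
            _ = _ := by rw [h7]; group
        obtain ⟨m, hm, hme⟩ := hgz
        obtain ⟨r, hr, hrc⟩ := xN_comm m hm (D.mul_val_eq (cL_lt hm) (cL_lt xN_spec.1) (by
          rw [hme]; exact mem_centralizer_singleton_iff.1 (mem_inf.1 g.2).2))
        have hsub : IsSub 0 [0, zN, uN, zuN] := by decide +kernel
        have hr' : r < 768 := (hsub.2.2.1 r hr).1
        have hrV : D.val r ∈ V := by
          simp only [List.mem_cons, List.not_mem_nil, or_false] at hr
          have hzV : ∀ t ∈ threeSet D, t ∈ V := by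
            classical
            intro t ht
            by_contra htV
            have hsub : (V : Set G) ⊆ ({1} ∪ (threeSet D \ {t})) := fun a ha => by
              by_cases h : a = 1
              · exact Or.inl h
              · exact Or.inr ⟨hV3 a ha h, fun e => htV (e ▸ ha)⟩
            have h8 := Set.ncard_le_ncard hsub (Set.toFinite _)
            have h9 := Set.ncard_union_le {(1 : G)} (threeSet D \ {t})
            rw [Set.ncard_singleton, Set.ncard_sdiff_singleton_of_mem ht,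
              ← Nat.card_coe_set_eq (threeSet D), card_threeSet] at h9
            rw [← Nat.card_coe_set_eq] at h8
            change Nat.card V ≤ _ at h8
            omega
          rcases hr with rfl | rfl | rfl | rfl
          · rw [D.val_zero]; exact one_mem _
          · rw [D.val_z]; exact hzV _ (Or.inl rfl)
          · exact hzV _ (Or.inr (Or.inl rfl))
          · exact hzV _ (Or.inr (Or.inr rfl))
        refine ⟨⟨D.val r, hVC hrV⟩, hrV, ?_⟩
        refine QuotientGroup.eq.2 ?_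
        have hx1 := cL_lt xN_spec.1
        rcases hrc with rfl | rfl | rfl
        · rw [show (⟨D.val m, hVC hrV⟩ : Cx S) = g from Subtype.ext hme, inv_mul_cancel]
          exact one_mem _
        · have : (⟨D.val r, hVC hrV⟩ : Cx S)⁻¹ * g = ⟨xx D, hxC⟩ := Subtype.ext (by
            show (D.val r)⁻¹ * (g : G) = xx D
            rw [← hme, D.val_mul r xN hr' hx1, inv_mul_cancel_left]; rfl)
          rw [this]; exact mem_zpowers _
        · have : (⟨D.val r, hVC hrV⟩ : Cx S)⁻¹ * g = ⟨xx D, hxC⟩ * ⟨xx D, hxC⟩ := Subtype.ext (by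
            show (D.val r)⁻¹ * (g : G) = xx D * xx D
            rw [← hme, D.val_mul r _ hr' (mulN_lt ..), inv_mul_cancel_left, D.val_mul xN xN hx1 hx1]; rfl)
          rw [this]; exact mul_mem (mem_zpowers _) (mem_zpowers _)
    · rintro _ ⟨v', hv', rfl⟩
      refine mem_centralizer_singleton_iff.2 ?_
      rw [← map_mul, ← map_mul]
      refine congrArg π (Subtype.ext ?_)
      have h : (v : G) * v' * ((v : G) * v') = 1 := hV2 _ (mul_mem hv hv')
      have ha : (v : G) * v = 1 := hV2 _ hv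
      have hb : (v' : G) * v' = 1 := hV2 _ hv'
      show (v' : G) * v = v * v'
      calc (v' : G) * v = ((v : G) * v) * ((v' : G) * v) * ((v' : G) * v') := by rw [ha, hb]; group
        _ = (v : G) * (((v : G) * v') * ((v : G) * v')) * v' := by group
        _ = _ := by rw [h, mul_one]
  have hX : Nat.card (Cx S) = 3 * Nat.card (Cx S ⧸ Z) := by
    rw [card_eq_card_quotient_mul_card_subgroup Z, hZcard, mul_comm]
  rcases hfour (Cx S ⧸ Z) W hkl hcentW with h | h | h <;> omega

include S hf hO in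
/-- The derived group of `G2`. -/
theorem main (hfour : FourHyp.{u}) (hcard : Nat.card G = 241920) :
    ∃ K : Subgroup G, K.Normal ∧ Nat.card K = 20160 ∧ IsSimpleGroup K ∧ (∃ a b : K, a * b ≠ b * a) ∧
      Recog.CIT.CIT K ∧ centralizer (K : Set G) = ⊥ := by
  haveI : Fact (Nat.Prime 3) := ⟨Nat.prime_three⟩
  haveI : Fact (Nat.Prime 2) := ⟨Nat.prime_two⟩
  haveI := S.normal2
  set M := S.G2 ⊓ normalizer (Tt D : Set G) with hM
  have hTM : Tt D ≤ M := le_inf (tt_le_G2 S) le_normalizer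
  have hM576 : Nat.card M = 576 := by
    rw [card_norm S hf le_rfl (index_cond_G2 S hcard), ← cc_eq S, card_cc]
  have hccM : Cc D ≤ M := fun g hg => mem_inf.2 ⟨cc_le S hg, mem_normalizer_iff.2 fun a =>
    ⟨fun ha => tt_conj hg ha, fun ha => by
      have := tt_conj (inv_mem hg) ha
      simpa [mul_assoc] using this⟩⟩
  have hxM : xx D ∈ M := hccM xx_mem
  -- a subgroup of order nine of `M` containing `x`
  obtain ⟨Q, hQ⟩ : ∃ Q : Sylow 3 M, (⟨xx D, hxM⟩ : M) ∈ (Q : Subgroup M) := by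
    have hp : IsPGroup 3 (zpowers (⟨xx D, hxM⟩ : M)) := IsPGroup.of_card (n := 1) (by
      rw [Nat.card_zpowers, Subgroup.orderOf_mk, orderOf_xx, pow_one])
    obtain ⟨Q, hQ⟩ := hp.exists_le_sylow
    exact ⟨Q, hQ (mem_zpowers _)⟩
  set P9 := (Q : Subgroup M).map M.subtype with hP9
  have hP9card : Nat.card P9 = 9 := by
    rw [hP9, card_map_of_injective M.subtype_injective, Q.card_eq_multiplicity, hM576]
    rw [show (576 : ℕ) = 3 ^ 2 * 64 by norm_num, Nat.factorization_mul (by norm_num) (by norm_num),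
      Nat.Prime.factorization_pow Nat.prime_three]
    simp [Nat.factorization_eq_zero_of_not_dvd]
  have hP9M : P9 ≤ M := map_subtype_le _
  have hxP9 : xx D ∈ P9 := ⟨_, hQ, rfl⟩
  have hP9comm : ∀ a ∈ P9, ∀ b ∈ P9, a * b = b * a := fun a ha b hb =>
    congrArg Subtype.val ((IsPGroup.isMulCommutative_of_card_eq_prime_sq (G := P9) (p := 3)
      (by rw [hP9card]; norm_num)).is_comm.comm ⟨a, ha⟩ ⟨b, hb⟩)
  have hP9p : IsPGroup 3 (P9.subgroupOf S.G2) := IsPGroup.of_card (n := 2) (by
    rw [Nat.card_congr (subgroupOfEquivOfLe (hP9M.trans inf_le_left)).toEquiv, hP9card]; norm_num)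
  obtain ⟨P, hP⟩ := hP9p.exists_le_sylow
  have hPcard : Nat.card P = 27 := by
    rw [P.card_eq_multiplicity, card_G2 S hcard]
    rw [show (60480 : ℕ) = 3 ^ 3 * 2240 by norm_num, Nat.factorization_mul (by norm_num) (by norm_num),
      Nat.Prime.factorization_pow Nat.prime_three]
    simp [Nat.factorization_eq_zero_of_not_dvd]
  have hxP : (⟨xx D, cc_le S xx_mem⟩ : S.G2) ∈ (P : Subgroup S.G2) := hP hxP9
  have hcx := card_cx S hf hfour hcard
  -- some element of `P` does not centralise `x`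
  obtain ⟨y, hy, hxy⟩ : ∃ y ∈ (P : Subgroup S.G2),
      (⟨xx D, cc_le S xx_mem⟩ : S.G2) * y ≠ y * ⟨xx D, cc_le S xx_mem⟩ := by
    by_contra hcon
    push Not at hcon
    have hle : (P : Subgroup S.G2).map S.G2.subtype ≤ Cx S := by
      rintro _ ⟨y, hy, rfl⟩
      exact mem_inf.2 ⟨y.2, mem_centralizer_singleton_iff.2 (congrArg Subtype.val (hcon y hy)).symm⟩
    have := card_dvd_of_le hle
    rw [card_map_of_injective S.G2.subtype_injective, hPcard] at this
    omega
  have hreal : ∀ n : S.G2, n * (⟨xx D, cc_le S xx_mem⟩ : S.G2) * n⁻¹ ≠ (⟨xx D, cc_le S xx_mem⟩ : S.G2)⁻¹ := by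
    intro n hn
    have hn' : (n : G) * xx D * (n : G)⁻¹ = (xx D)⁻¹ := congrArg Subtype.val hn
    obtain ⟨V, hVT, hVC, hV4, hV3⟩ := four_facts S
    have hVp : IsPGroup 2 (V.subgroupOf (Cx S)) := IsPGroup.of_card (n := 2) (by
      rw [Nat.card_congr (subgroupOfEquivOfLe hVC).toEquiv, hV4]; norm_num)
    have hVd : ¬ 2 ∣ (V.subgroupOf (Cx S)).index := by
      have := (V.subgroupOf (Cx S)).index_mul_card
      rw [Nat.card_congr (subgroupOfEquivOfLe hVC).toEquiv, hV4] at this
      omega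
    let PV : Sylow 2 (Cx S) := hVp.toSylow hVd
    have hnC : ∀ g ∈ V, (n : G) * g * (n : G)⁻¹ ∈ Cx S := by
      intro g hg
      refine mem_inf.2 ⟨mul_mem (mul_mem n.2 (tt_le_G2 S (hVT hg))) (inv_mem n.2),
        mem_centralizer_singleton_iff.2 ?_⟩
      have h1 := mem_centralizer_singleton_iff.1 (mem_inf.1 (hVC hg)).2
      have h2 : g * (xx D)⁻¹ = (xx D)⁻¹ * g := (Commute.inv_right h1).eq
      have h3 : xx D = (n : G) * (xx D)⁻¹ * (n : G)⁻¹ := by
        have := congrArg (·⁻¹) hn'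
        simpa [mul_assoc] using this.symm
      calc (n : G) * g * (n : G)⁻¹ * xx D
          = (n : G) * g * (n : G)⁻¹ * ((n : G) * (xx D)⁻¹ * (n : G)⁻¹) := by rw [← h3]
        _ = (n : G) * (g * (xx D)⁻¹) * (n : G)⁻¹ := by group
        _ = (n : G) * (xx D)⁻¹ * (n : G)⁻¹ * ((n : G) * g * (n : G)⁻¹) := by rw [h2]; group
        _ = _ := by rw [← h3]
    set V' : Subgroup (Cx S) := (V.map (MulAut.conj (n : G)).toMonoidHom).subgroupOf (Cx S) with hV'
    have hV'C : V.map (MulAut.conj (n : G)).toMonoidHom ≤ Cx S := by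
      rintro _ ⟨g, hg, rfl⟩
      exact hnC g hg
    have hV'card : Nat.card V' = 4 := by
      rw [hV', Nat.card_congr (subgroupOfEquivOfLe hV'C).toEquiv,
        card_map_of_injective (MulAut.conj (n : G)).injective, hV4]
    obtain ⟨R, hR⟩ := (IsPGroup.of_card (p := 2) (n := 2) (G := V') (by rw [hV'card]; norm_num)).exists_le_sylow
    obtain ⟨c, hc⟩ := MulAction.exists_smul_eq (Cx S) R PV
    -- `c n` maps `z` into `V`
    set n' : G := (c : G) * n with hn'def
    have hn'G : n' ∈ S.G2 := mul_mem (mem_inf.1 c.2).1 n.2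
    have hz4 : n' * z * n'⁻¹ ∈ threeSet D := by
      have hzV : z ∈ V := by
        classical
        by_contra htV
        have hsub : (V : Set G) ⊆ ({1} ∪ (threeSet D \ {z})) := fun a ha => by
          by_cases h : a = 1
          · exact Or.inl h
          · exact Or.inr ⟨hV3 a ha h, fun e => htV (e ▸ ha)⟩
        have h8 := Set.ncard_le_ncard hsub (Set.toFinite _)
        have h9 := Set.ncard_union_le {(1 : G)} (threeSet D \ {z})
        rw [Set.ncard_singleton, Set.ncard_sdiff_singleton_of_mem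
          (show z ∈ threeSet D from Or.inl rfl), ← Nat.card_coe_set_eq (threeSet D), card_threeSet] at h9
        rw [← Nat.card_coe_set_eq] at h8
        change Nat.card V ≤ _ at h8
        omega
      have h1 : (⟨(n : G) * z * (n : G)⁻¹, hnC z hzV⟩ : Cx S) ∈ (R : Subgroup (Cx S)) :=
        hR ⟨z, hzV, rfl⟩
      have h2 : MulAut.conj c • (⟨(n : G) * z * (n : G)⁻¹, hnC z hzV⟩ : Cx S) ∈
          ((c • R : Sylow 2 (Cx S)) : Subgroup (Cx S)) := by
        rw [Sylow.coe_subgroup_smul]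
        exact smul_mem_pointwise_smul _ _ _ h1
      rw [hc] at h2
      have h3 : (c : G) * ((n : G) * z * (n : G)⁻¹) * (c : G)⁻¹ ∈ V := h2
      have h4 : n' * z * n'⁻¹ = (c : G) * ((n : G) * z * (n : G)⁻¹) * (c : G)⁻¹ := by
        rw [hn'def]; group
      refine h4 ▸ hV3 _ h3 ?_
      rw [← h4, Ne, mul_inv_eq_one, mul_eq_left]
      intro e
      have := D.ord
      rw [e, orderOf_one] at this
      norm_num at this
    obtain ⟨k, hk, hke⟩ := exists_norm_conj S hf le_rfl (index_cond_G2 S hcard) hz4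
    have hn'M : n' ∈ M := by
      have h5 : k⁻¹ * n' ∈ Cc D := by
        rw [cc_eq S]
        refine mem_inf.2 ⟨mul_mem (inv_mem (mem_inf.1 hk).1) hn'G, mem_centralizer_singleton_iff.2 ?_⟩
        calc k⁻¹ * n' * z = k⁻¹ * (n' * z * n'⁻¹) * n' := by group
          _ = _ := by rw [← hke]; group
      have h6 : k * (k⁻¹ * n') ∈ M := mul_mem hk (hccM h5)
      rwa [mul_inv_cancel_left] at h6
    have hn'x : n' * xx D * n'⁻¹ = (xx D)⁻¹ := by
      have h7 := mem_centralizer_singleton_iff.1 (mem_inf.1 c.2).2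
      have h8 : (c : G) * (xx D)⁻¹ = (xx D)⁻¹ * c := (Commute.inv_right h7).eq
      calc n' * xx D * n'⁻¹ = (c : G) * ((n : G) * xx D * (n : G)⁻¹) * (c : G)⁻¹ := by rw [hn'def]; group
        _ = _ := by rw [hn', h8, mul_inv_cancel_right]
    have h9 := comm_mod_tt hM576 hTM inf_le_right hn'M hxM
    rw [hn'x, ← mul_inv_rev] at h9
    exact xx_sq_not_mem (inv_mem_iff.1 h9)
  have hxcom := not_mem_commutator P hPcard hxP hy hxy hreal
  -- the derived group
  set K := ⁅S.G2, S.G2⁆ with hK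
  haveI hKn : K.Normal := by rw [hK]; infer_instance
  have hKle : K ≤ S.G2 := commutator_le_self _
  have hxK : xx D ∉ K := by
    intro h
    rw [hK, ← map_subtype_commutator] at h
    obtain ⟨g, hg, e⟩ := h
    rw [show g = ⟨xx D, cc_le S xx_mem⟩ from Subtype.ext e] at hg
    exact hxcom hg
  have hcommT : ∃ a ∈ Tt D, ∃ b ∈ Tt D, a * b ≠ b * a :=
    ⟨D.val 7, ⟨7, by decide +kernel, rfl⟩, D.val 72, ⟨72, by decide +kernel, rfl⟩, fun h =>
      (by decide +kernel : mulN 0 7 72 ≠ mulN 0 72 7) (D.mul_val_eq (by norm_num) (by norm_num) h)⟩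
  have hcomm_ne : ∀ A : Subgroup G, Tt D ≤ A → ⁅A, A⁆ ≠ ⊥ := fun A hA e => by
    obtain ⟨a, ha, b, hb, hne⟩ := hcommT
    have := commutator_mem_commutator (hA ha) (hA hb)
    rw [e, mem_bot] at this
    exact hne (commutatorElement_eq_one_iff_mul_comm.1 this)
  have hTK : Tt D ≤ K := tt_le_normal S hf hO hcard hKle (hcomm_ne _ (tt_le_G2 S))
  -- normal subgroups of a subgroup containing `T`
  have hfrat : ∀ (A W : Subgroup G), A ≤ S.G2 → Tt D ≤ W → W ≤ A →
      A ≤ normalizer (W : Set G) → W.relIndex A ∣ (Tt D).relIndex (A ⊓ normalizer (Tt D : Set G)) ∧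
        W.relIndex A = W.relIndex (A ⊓ normalizer (Tt D : Set G)) := by
    intro A W hA hTW hWA hAW
    have hTs : IsPGroup 2 ((Tt D).subgroupOf W) := IsPGroup.of_card (n := 6) (by
      rw [Nat.card_congr (subgroupOfEquivOfLe hTW).toEquiv, card_tt]; norm_num)
    have hTd : ¬ 2 ∣ ((Tt D).subgroupOf W).index := by
      have h1 := ((Tt D).subgroupOf W).index_mul_card
      rw [Nat.card_congr (subgroupOfEquivOfLe hTW).toEquiv, card_tt] at h1
      have h2 : Nat.card W ∣ 60480 := card_G2 S hcard ▸ card_dvd_of_le (hWA.trans hA)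
      rw [← h1] at h2
      intro h3
      have : 2 * 64 ∣ 60480 := (mul_dvd_mul_right h3 64).trans h2
      norm_num at this
    let PT : Sylow 2 W := hTs.toSylow hTd
    set N := A ⊓ normalizer (Tt D : Set G) with hNdef
    have hsup : A ≤ W ⊔ N := by
      intro g hg
      have hTg : (Tt D).map (MulAut.conj g).toMonoidHom ≤ W := by
        rintro _ ⟨t, ht, rfl⟩
        exact (mem_normalizer_iff.1 (hAW hg) t).1 (hTW ht)
      obtain ⟨R, hR⟩ := (IsPGroup.of_card (p := 2) (n := 6)
        (G := ((Tt D).map (MulAut.conj g).toMonoidHom).subgroupOf W) (by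
          rw [Nat.card_congr (subgroupOfEquivOfLe hTg).toEquiv,
            card_map_of_injective (MulAut.conj g).injective, card_tt]; norm_num)).exists_le_sylow
      obtain ⟨w, hw⟩ := MulAction.exists_smul_eq W R PT
      have hwg : (w : G) * g ∈ normalizer (Tt D : Set G) := by
        refine mem_normalizer_iff_map_conj_eq.2 (eq_of_le_of_card_ge ?_ (le_of_eq (Nat.card_congr
          ((Tt D).equivMapOfInjective _ (MulAut.conj ((w : G) * g)).injective).toEquiv)))
        rintro _ ⟨t, ht, rfl⟩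
        have h1 : MulAut.conj w • (⟨g * t * g⁻¹, hTg ⟨t, ht, rfl⟩⟩ : W) ∈
            ((w • R : Sylow 2 W) : Subgroup W) := by
          rw [Sylow.coe_subgroup_smul]
          exact smul_mem_pointwise_smul _ _ _ (hR ⟨t, ht, rfl⟩)
        rw [hw] at h1
        have h2 : (w : G) * (g * t * g⁻¹) * (w : G)⁻¹ ∈ Tt D := h1
        simpa [mul_assoc] using h2
      have h3 : (w : G)⁻¹ * ((w : G) * g) ∈ W ⊔ N := mul_mem (mem_sup_left (inv_mem w.2))
        (mem_sup_right (mem_inf.2 ⟨mul_mem (hWA w.2) hg, hwg⟩))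
      rwa [inv_mul_cancel_left] at h3
    have hNW : N ≤ normalizer (W : Set G) := inf_le_left.trans hAW
    have hWN : W ⊔ N = A := le_antisymm (sup_le hWA inf_le_left) hsup
    have e : W.relIndex A = W.relIndex N := by
      have h3 : W.subgroupOf A ⊔ N.subgroupOf A = ⊤ := by
        rw [← subgroupOf_sup hWA inf_le_left, hWN, subgroupOf_self]
      haveI : (W.subgroupOf A).Normal := normal_subgroupOf_of_le_normalizer hAW
      have h4 := relIndex_sup_right (H := N.subgroupOf A) (K := W.subgroupOf A)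
      rw [sup_comm, h3, relIndex_top_right] at h4
      rw [relIndex, h4, relIndex_subgroupOf inf_le_left]
    exact ⟨e ▸ relIndex_dvd_of_le_left N hTW, e⟩
  have hTrel : (Tt D).relIndex M = 9 := by
    have h1 := relIndex_mul_relIndex ⊥ (Tt D) M bot_le hTM
    rw [relIndex_bot_left, relIndex_bot_left, card_tt, hM576] at h1
    omega
  -- no normal subgroup of index nine
  have hno9 : ∀ W : Subgroup G, W.Normal → W ≤ S.G2 → Tt D ≤ W → W.relIndex S.G2 ≠ 9 := by
    intro W hWn hWle hTW h9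
    have hWcard : Nat.card W = 6720 := by
      have h1 := relIndex_mul_relIndex ⊥ W S.G2 bot_le hWle
      rw [relIndex_bot_left, relIndex_bot_left, card_G2 S hcard, h9] at h1
      omega
    set PG := (P : Subgroup S.G2).map S.G2.subtype with hPG
    have hPGcard : Nat.card PG = 27 := by rw [card_map_of_injective S.G2.subtype_injective, hPcard]
    set U := W ⊓ PG with hU
    have hUdvd : Nat.card U ∣ 3 := by
      have h1 : Nat.card U ∣ 6720 := hWcard ▸ card_dvd_of_le inf_le_left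
      have h2 : Nat.card U ∣ 27 := hPGcard ▸ card_dvd_of_le inf_le_right
      have := Nat.dvd_gcd h1 h2
      norm_num at this
      exact this
    have hUrel : U.relIndex PG ∣ 9 := by
      have h1 : W.relIndex PG ∣ W.relIndex S.G2 := by
        haveI : (W.subgroupOf S.G2).Normal := hWn.subgroupOf _
        have := relIndex_dvd_index_of_normal (W.subgroupOf S.G2) (P : Subgroup S.G2)
        rw [← relIndex_subgroupOf (map_subtype_le (P : Subgroup S.G2))]
        rw [show PG.subgroupOf S.G2 = (P : Subgroup S.G2) from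
          comap_map_eq_self_of_injective S.G2.subtype_injective _]
        exact this
      rw [hU, inf_relIndex_right, ← h9]
      exact h1
    have hU3 : Nat.card U = 3 := by
      have h1 := relIndex_mul_relIndex ⊥ U PG bot_le inf_le_right
      rw [relIndex_bot_left, relIndex_bot_left, hPGcard] at h1
      rcases (Nat.dvd_prime Nat.prime_three).1 hUdvd with h | h
      · rw [h, one_mul] at h1
        rw [h1] at hUrel
        norm_num at hUrel
      · exact h
    -- `W ⊓ P9 = 1`
    have hWP9 : ∀ a ∈ P9, a ∈ W → a = 1 := by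
      intro a ha haW
      have hWM : Nat.card (W ⊓ M : Subgroup G) = 64 := by
        have h2 : W.relIndex M = 9 := by
          have h1 := (hfrat S.G2 W le_rfl hTW hWle (by rw [normalizer_eq_top]; exact le_top)).2
          rw [h9, ← hM] at h1
          exact h1.symm
        have h7 := relIndex_mul_relIndex ⊥ (W ⊓ M) M bot_le inf_le_right
        rw [relIndex_bot_left, relIndex_bot_left, hM576, inf_relIndex_right, h2] at h7
        omega
      have h8 : a ∈ W ⊓ M := mem_inf.2 ⟨haW, hP9M ha⟩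
      have hd1 : orderOf a ∣ 9 := by
        have := orderOf_dvd_natCard (⟨a, ha⟩ : P9)
        rwa [Subgroup.orderOf_mk, hP9card] at this
      have hd2 : orderOf a ∣ 64 := by
        have := orderOf_dvd_natCard (⟨a, h8⟩ : (W ⊓ M : Subgroup G))
        rwa [Subgroup.orderOf_mk, hWM] at this
      exact orderOf_eq_one_iff.1 (Nat.eq_one_of_dvd_coprimes (by norm_num : Nat.Coprime 9 64) hd1 hd2)
    have hUn : (U.subgroupOf PG).Normal := by
      haveI := hWn
      rw [hU, inf_subgroupOf_right]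
      infer_instance
    have hPGp : IsPGroup 3 PG := IsPGroup.of_card (n := 3) (by rw [hPGcard]; norm_num)
    have hcentral : ∀ u ∈ U, ∀ p ∈ PG, u * p = p * u := by
      intro u hu p hp
      have hUle : U.subgroupOf PG ≤ center PG := by
        have h1 : Nat.card (U.subgroupOf PG) = 3 := by
          rw [Nat.card_congr (subgroupOfEquivOfLe inf_le_right).toEquiv, hU3]
        haveI : Fact (Nat.card (U.subgroupOf PG)).Prime := ⟨h1 ▸ Nat.prime_three⟩
        haveI := hUn
        haveI : Group.IsNilpotent PG := hPGp.isNilpotent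
        rcases ((U.subgroupOf PG) ⊓ center PG).subgroupOf (U.subgroupOf PG) |>.eq_bot_or_eq_top_of_prime_card
          with h | h
        · exfalso
          rw [subgroupOf_eq_bot, disjoint_iff, inf_comm, ← inf_assoc, inf_idem] at h
          exact CfsgLib.Base.inf_center_ne_bot_of_isNilpotent
            (fun e => by rw [e, card_bot] at h1; norm_num at h1) h
        · rw [subgroupOf_eq_top] at h
          exact h.trans inf_le_right
      have := Subgroup.mem_center_iff.1 (hUle (show (⟨u, (mem_inf.1 hu).2⟩ : PG) ∈ U.subgroupOf PG from hu))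
        ⟨p, hp⟩
      exact (congrArg Subtype.val this).symm
    -- `P = U × P9` is abelian
    have hyPG : (y : G) ∈ PG := ⟨y, hy, rfl⟩
    have hP9PG : P9 ≤ PG := fun a ha => ⟨⟨a, (mem_inf.1 (hP9M ha)).1⟩, hP ha, rfl⟩
    have hf' : Function.Bijective (fun q : U × P9 => (⟨(q.1 : G) * q.2,
        mul_mem (mem_inf.1 q.1.2).2 (hP9PG q.2.2)⟩ : PG)) := by
      refine Function.Injective.bijective_of_nat_card_le ?_ (le_of_eq (by
        rw [Nat.card_prod, hU3, hP9card, hPGcard]))
      rintro ⟨a, b⟩ ⟨a', b'⟩ hab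
      have h1 : (a : G) * b = a' * b' := congrArg Subtype.val hab
      have h2 : (b : G) * (b' : G)⁻¹ = (a : G)⁻¹ * a' := by
        calc (b : G) * (b' : G)⁻¹ = (a : G)⁻¹ * ((a : G) * b) * (b' : G)⁻¹ := by group
          _ = _ := by rw [h1]; group
      have h3 := hWP9 _ (mul_mem b.2 (inv_mem b'.2))
        (h2 ▸ mul_mem (inv_mem (mem_inf.1 a.2).1) (mem_inf.1 a'.2).1)
      have h4 : (b : G) = b' := mul_inv_eq_one.1 h3
      exact Prod.ext (Subtype.ext (mul_right_cancel (h4 ▸ h1))) (Subtype.ext h4)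
    obtain ⟨⟨a, b⟩, hab⟩ := hf'.2 ⟨y, hyPG⟩
    refine hxy (Subtype.ext ?_)
    have h1 : (a : G) * b = y := congrArg Subtype.val hab
    show xx D * (y : G) = (y : G) * xx D
    rw [← h1, ← mul_assoc, ← hcentral a a.2 (xx D) (hP9PG hxP9), mul_assoc,
      hP9comm (xx D) hxP9 b b.2, ← mul_assoc]
  -- the index of `K`
  have hKrel : K.relIndex S.G2 = 3 := by
    have h1 := (hfrat S.G2 K le_rfl hTK hKle (by rw [normalizer_eq_top]; exact le_top)).1
    rw [← hM, hTrel] at h1
    obtain ⟨i, hi, he⟩ := (Nat.dvd_prime_pow Nat.prime_three).1 (show K.relIndex S.G2 ∣ 3 ^ 2 by norm_num; exact h1)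
    interval_cases i
    · exact absurd (relIndex_eq_one.1 he (cc_le S xx_mem)) hxK
    · rw [he]; norm_num
    · exact absurd (by rw [he]; norm_num) (hno9 K hKn hKle hTK)
  have hKcard : Nat.card K = 20160 := by
    have h1 := relIndex_mul_relIndex ⊥ K S.G2 bot_le hKle
    rw [relIndex_bot_left, relIndex_bot_left, card_G2 S hcard, hKrel] at h1
    omega
  have hKC : K ⊓ centralizer ({z} : Set G) = Tt D := by
    have hle : K ⊓ centralizer ({z} : Set G) ≤ Cc D := by
      rw [cc_eq S]; exact inf_le_inf_right _ hKle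
    have hge : Tt D ≤ K ⊓ centralizer ({z} : Set G) :=
      le_inf hTK (tt_le.trans ((cc_eq S).le.trans inf_le_right))
    refine (eq_of_le_of_card_ge hge ?_).symm
    rw [card_tt]
    have h1 : Nat.card (K ⊓ centralizer ({z} : Set G) : Subgroup G) ∣ 192 := card_cc (D := D) ▸ card_dvd_of_le hle
    have h2 : 64 ∣ Nat.card (K ⊓ centralizer ({z} : Set G) : Subgroup G) := card_tt (D := D) ▸ card_dvd_of_le hge
    obtain ⟨t, ht⟩ := h2
    have h3 : t ∣ 3 := by
      rw [ht] at h1
      exact (Nat.mul_dvd_mul_iff_left (by norm_num : 0 < 64)).1 h1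
    rcases (Nat.dvd_prime Nat.prime_three).1 h3 with rfl | rfl
    · omega
    · exfalso
      refine hxK (inf_le_left (b := centralizer ({z} : Set G)) ?_)
      rw [eq_of_le_of_card_ge hle (by rw [ht, card_cc])]
      exact xx_mem
  have hidx : K.index * Nat.card (K ⊓ centralizer ({z} : Set G) : Subgroup G) = 768 := by
    rw [hKC, card_tt]
    have h1 := K.index_mul_card
    rw [hKcard, hcard] at h1
    omega
  have hinv : ∀ w : K, orderOf w = 2 → ∃ k : K, (k : G) * z * (k : G)⁻¹ = w := by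
    intro w hw
    rw [← orderOf_coe] at hw
    obtain ⟨k, hk, he⟩ := conj_of_index D hidx (invol_G2 S hf hcard (hKle w.2)
      (by rw [← pow_two, ← hw, pow_orderOf_eq_one]) (fun e => by rw [e, orderOf_one] at hw; norm_num at hw))
    exact ⟨⟨k, hk⟩, he⟩
  have hCIT : Recog.CIT.CIT K := by
    intro w hw
    obtain ⟨k, hk⟩ := hinv w hw
    intro c
    refine ⟨2, Subtype.ext (Subtype.ext ?_)⟩
    have hc := congrArg Subtype.val (mem_centralizer_singleton_iff.1 c.2)
    have hmem : (k : G)⁻¹ * ((c : K) : G) * k ∈ Tt D := by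
      rw [← hKC]
      refine mem_inf.2 ⟨mul_mem (mul_mem (inv_mem k.2) (c : K).2) k.2, mem_centralizer_singleton_iff.2 ?_⟩
      simp only [coe_mul, ← hk] at hc
      calc (k : G)⁻¹ * ((c : K) : G) * k * z
          = (k : G)⁻¹ * (((c : K) : G) * ((k : G) * z * (k : G)⁻¹)) * k := by group
        _ = _ := by rw [hc]; group
    have h4 := pow_of_mem_tt hmem
    have h5 := conj_pow (i := 4) (a := (k : G)⁻¹) (b := ((c : K) : G))
    rw [inv_inv, h4, eq_comm, mul_assoc, inv_mul_eq_one] at h5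
    rw [show (2 : ℕ) ^ 2 = 4 from rfl, SubmonoidClass.coe_pow, SubmonoidClass.coe_pow]
    exact (mul_eq_right.1 h5.symm)
  have hnab : ∃ a b : K, a * b ≠ b * a := by
    obtain ⟨a, ha, b, hb, hne⟩ := hcommT
    exact ⟨⟨a, hTK ha⟩, ⟨b, hTK hb⟩, fun e => hne (congrArg Subtype.val e)⟩
  have hsimple : IsSimpleGroup K := by
    haveI : Nontrivial K := ⟨hnab.choose * hnab.choose_spec.choose, hnab.choose_spec.choose * hnab.choose,
      hnab.choose_spec.choose_spec⟩
    refine ⟨fun W hW => ?_⟩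
    by_cases hWb : W = ⊥
    · exact Or.inl hWb
    refine Or.inr ?_
    -- `W` has even order
    have heven : 2 ∣ Nat.card W := by
      by_contra h
      haveI := hW
      have hle : W ≤ Cfsg.oddCore K := Base.le_oddCore (Nat.odd_iff.2 (by omega))
      haveI hch : (Cfsg.oddCore K).Characteristic := by unfold Cfsg.oddCore; infer_instance
      haveI hOn : ((Cfsg.oddCore K).map K.subtype).Normal := ConjAct.normal_of_characteristic_of_normal
      have hodd : Odd (Nat.card ((Cfsg.oddCore K).map K.subtype)) := by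
        rw [card_map_of_injective K.subtype_injective]; exact Base.odd_card_oddCore K
      have hb := hO ▸ Base.le_oddCore hodd
      rw [le_bot_iff, map_eq_bot_iff_of_injective _ K.subtype_injective] at hb
      exact hWb (le_bot_iff.1 (hb ▸ hle))
    obtain ⟨⟨w, hwW⟩, hw⟩ := exists_prime_orderOf_dvd_card' (G := W) 2 heven
    rw [Subgroup.orderOf_mk] at hw
    obtain ⟨k₀, hk₀⟩ := hinv w hw
    have hzK : z ∈ K := hTK z_mem_tt
    have hzW : (⟨z, hzK⟩ : K) ∈ W := by
      have := hW.conj_mem w hwW k₀⁻¹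
      convert this using 1
      apply Subtype.ext
      simp [← hk₀, mul_assoc]
    have hTW : Tt D ≤ W.map K.subtype := by
      rintro g ⟨m, hm, rfl⟩
      obtain ⟨a, ha, ha2, b, hb, hb2, rfl⟩ := tL_gen m hm
      rw [D.val_mul a b (cL_lt (tL_sub_cL a ha)) (cL_lt (tL_sub_cL b hb))]
      have key : ∀ a ∈ tL, mulN 0 a a = 0 → D.val a ∈ W.map K.subtype := fun a ha ha2 => by
        by_cases h1 : D.val a = 1
        · rw [h1]; exact one_mem _
        · have ha' : D.val a ∈ Tt D := ⟨a, ha, rfl⟩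
          obtain ⟨k, hk, he⟩ := conj_of_index D hidx (cc_invol hf (tt_le ha') (by
            rw [← D.val_mul a a (cL_lt (tL_sub_cL a ha)) (cL_lt (tL_sub_cL a ha)), ha2, D.val_zero]) h1).1
          exact ⟨⟨k, hk⟩ * ⟨z, hzK⟩ * ⟨k, hk⟩⁻¹, hW.conj_mem _ hzW _, he⟩
      exact mul_mem (key a ha ha2) (key b hb hb2)
    have hWK : W.map K.subtype ≤ K := map_subtype_le _
    have hKN : K ≤ normalizer (W.map K.subtype : Set G) := fun g hg => by
      refine mem_normalizer_iff.2 fun a => ⟨?_, ?_⟩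
      · rintro ⟨w', hw', rfl⟩
        exact ⟨_, hW.conj_mem w' hw' ⟨g, hg⟩, rfl⟩
      · rintro ⟨w', hw', e⟩
        refine ⟨_, hW.conj_mem w' hw' ⟨g, hg⟩⁻¹, ?_⟩
        show g⁻¹ * (w' : G) * g⁻¹⁻¹ = a
        rw [show (w' : G) = g * a * g⁻¹ from e]; group
    have hd := (hfrat K (W.map K.subtype) hKle hTW hWK hKN).1
    have hTKM : (Tt D).relIndex (K ⊓ normalizer (Tt D : Set G)) = 3 := by
      have h1 := relIndex_mul_relIndex ⊥ (Tt D) (K ⊓ normalizer (Tt D : Set G)) bot_le (le_inf hTK le_normalizer)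
      rw [relIndex_bot_left, relIndex_bot_left, card_tt, card_norm S hf hKle hidx, hKC, card_tt] at h1
      omega
    rw [hTKM] at hd
    rcases (Nat.dvd_prime Nat.prime_three).1 hd with h | h
    · refine eq_top_iff.2 fun a _ => ?_
      obtain ⟨a', ha', e⟩ := relIndex_eq_one.1 h a.2
      exact (K.subtype_injective e) ▸ ha'
    · exfalso
      set K2 := ⁅K, K⁆ with hK2
      haveI : K2.Normal := by rw [hK2]; infer_instance
      have hK2le : K2 ≤ K := commutator_le_self K
      have hTK2 : Tt D ≤ K2 := tt_le_normal S hf hO hcard (hK2le.trans hKle) (hcomm_ne _ hTK)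
      have hWi : W.index = 3 := by
        rw [relIndex, subgroupOf, comap_map_eq_self_of_injective K.subtype_injective] at h
        exact h
      have hK2W : K2 ≤ W.map K.subtype := by
        rw [hK2, ← map_subtype_commutator]
        refine map_mono ?_
        haveI := hW
        have hc : IsCyclic (K ⧸ W) := isCyclic_of_prime_card (p := 3) (by rw [← index_eq_card, hWi])
        exact (Subgroup.Normal.quotient_commutative_iff_commutator_le).1 ⟨⟨fun a b => by
          obtain ⟨g, hg⟩ := hc.exists_generator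
          obtain ⟨i, rfl⟩ := mem_zpowers_iff.1 (hg a)
          obtain ⟨j, rfl⟩ := mem_zpowers_iff.1 (hg b)
          rw [← zpow_add, ← zpow_add, add_comm]⟩⟩
      have h1 : K2.relIndex S.G2 ∣ 9 := by
        have := (hfrat S.G2 K2 le_rfl hTK2 (hK2le.trans hKle) (by rw [normalizer_eq_top]; exact le_top)).1
        rwa [← hM, hTrel] at this
      have h2 : 9 ∣ K2.relIndex S.G2 := by
        rw [← relIndex_mul_relIndex K2 (W.map K.subtype) S.G2 hK2W (hWK.trans hKle),
          ← relIndex_mul_relIndex (W.map K.subtype) K S.G2 hWK hKle, h, hKrel]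
        exact dvd_mul_left _ _
      exact hno9 K2 inferInstance (hK2le.trans hKle) hTK2 (Nat.dvd_antisymm h1 h2)
  refine ⟨K, hKn, hKcard, hsimple, hnab, hCIT, ?_⟩
  by_contra hne
  set R := centralizer (K : Set G) with hR
  haveI : R.Normal := by rw [hR]; infer_instance
  have heven : 2 ∣ Nat.card R := by
    by_contra h
    exact hne (le_bot_iff.1 (hO ▸ Base.le_oddCore (Nat.odd_iff.2 (by omega))))
  obtain ⟨⟨t, ht⟩, ht2⟩ := exists_prime_orderOf_dvd_card' (G := R) 2 heven
  rw [Subgroup.orderOf_mk] at ht2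
  have htc : ∀ a ∈ K, t * a = a * t := fun a ha => (mem_centralizer_iff.1 ht a ha).symm
  obtain ⟨m, hm, rfl⟩ := D.val_surj t (htc z (hTK z_mem_tt))
  have hmV := tL_center m (mem_els hm) (fun n hn => D.mul_val_eq hm (cL_lt (tL_sub_cL n hn))
    (htc _ (hTK ⟨n, hn, rfl⟩))) (D.val_sq hm (by rw [← pow_two, ← ht2, pow_orderOf_eq_one]))
  have htK : D.val m ∈ K := by
    rcases hmV with rfl | rfl | rfl | rfl
    · rw [D.val_zero]; exact one_mem _
    · rw [D.val_z]; exact hTK z_mem_tt
    · exact hTK u_mem_tt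
    · exact hTK zu_mem_tt
  have hcen : (⟨D.val m, htK⟩ : K) ∈ center K :=
    Subgroup.mem_center_iff.2 fun a => Subtype.ext (htc a a.2).symm
  haveI := hsimple
  rcases (center K).normal_of_characteristic.eq_bot_or_eq_top with h | h
  · rw [h, mem_bot] at hcen
    have : D.val m = 1 := congrArg Subtype.val hcen
    rw [this, orderOf_one] at ht2
    norm_num at ht2
  · obtain ⟨a, b, hab⟩ := hnab
    exact hab ((Subgroup.mem_center_iff.1 (h ▸ mem_top b) a))

end Setting

end CfsgLib.L34Cent
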