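import Cfsg.Agent.Lib.L34Cent.Setup

/-!
# The two normal subgroups cut out by the transfers
-/

set_option autoImplicit false

namespace CfsgLib.L34Cent

universe u

/-- Normal subgroups of index two and four meeting the centraliser in the expected subgroups. -/
structure Tower {G : Type u} [Group G] {z : G} (D : Cen 0 z) where
  G1 : Subgroup G
  G2 : Subgroup G
  normal1 : G1.Normal
  normal2 : G2.Normal
  le : G2 ≤ G1
  index1 : G1.index = 2
  index2 : G2.index = 4
  mem1 : ∀ m < 768, D.val m ∈ G1 ↔ chiQ m = chiP m
  mem2 : ∀ m < 768, D.val m ∈ G2 ↔ chiQ m = 0 ∧ chiP m = 0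

/-- The involutions conjugate to the central one are those of the classes `384`, `360`, `7`. -/
structure Fused {G : Type u} [Group G] {z : G} (D : Cen 0 z) : Prop where
  hu : IsConj z (D.val uN)
  h7 : IsConj z (D.val 7)

end CfsgLib.L34Cent
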