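import Cfsg.Agent.Lib.L34Cent.Setup
import Cfsg.Agent.Lib.L34Cent.FusionData

/-!
# Two-subgroups of centralisers of involutions fixing the central one
-/

set_option autoImplicit false
set_option linter.unusedSectionVars false
set_option linter.style.haveILetI false
set_option maxRecDepth 100000
set_option maxHeartbeats 1000000

namespace CfsgLib.L34Cent

universe u

/-- the elements of a list commuting with all of it and being squares in it -/
def sqCand (k : ℕ) (l : List ℕ) : List ℕ :=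
  l.filter fun n => (l.any fun r => mulN k r r == n) && (l.all fun a => mulN k n a == mulN k a n)

/-- the elements of the model commuting with one of them -/
def centL (k a : ℕ) : List ℕ := els.filter fun m => mulN k m a == mulN k a m

/-- A subgroup of order a power of two properly below another is normalised from outside. -/
theorem exists_above {G : Type u} [Group G] [Finite G] {P C : Subgroup G} (hPC : P ≤ C) {a : ℕ}
    (hP : Nat.card P = 2 ^ a) (h : 2 ^ (a + 1) ∣ Nat.card C) :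
    ∃ Q : Subgroup G, P ≤ Q ∧ Q ≤ C ∧ Nat.card Q = 2 ^ (a + 1) ∧
      ∀ g ∈ Q, ∀ p ∈ P, g * p * g⁻¹ ∈ P := by
  haveI : Fact (Nat.Prime 2) := ⟨Nat.prime_two⟩
  obtain ⟨Q, hQ, hle⟩ := Sylow.exists_subgroup_card_pow_succ (p := 2) (G := C) h
    (H := P.subgroupOf C) (by rw [Nat.card_congr (Subgroup.subgroupOfEquivOfLe hPC).toEquiv, hP])
  have hi : ((P.subgroupOf C).subgroupOf Q).index = 2 := by
    have h1 := Subgroup.card_mul_index ((P.subgroupOf C).subgroupOf Q)
    rw [Nat.card_congr (Subgroup.subgroupOfEquivOfLe hle).toEquiv,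
      Nat.card_congr (Subgroup.subgroupOfEquivOfLe hPC).toEquiv, hP, hQ, pow_succ] at h1
    exact mul_left_cancel₀ (by positivity) h1
  have hN := Subgroup.normal_of_index_eq_two hi
  refine ⟨Q.map C.subtype, fun p hp => ⟨⟨p, hPC hp⟩, hle hp, rfl⟩,
    Subgroup.map_subtype_le Q, ?_, ?_⟩
  · rw [Subgroup.card_map_of_injective C.subtype_injective, hQ]
  · rintro _ ⟨g, hg, rfl⟩ p hp
    exact hN.conj_mem ⟨⟨p, hPC hp⟩, hle hp⟩ hp ⟨g, hg⟩

namespace Cen

variable {k : ℕ} {G : Type u} [Group G] [Finite G] {z : G} (D : Cen k z)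
include D

/-- A normalising element sends `z` to a central square of the subgroup. -/
theorem conj_z_cand {l : List ℕ} (hl : IsSub k l) (hz : zN ∈ l)
    (hr : ∃ r ∈ l, mulN k r r = zN) {g : G}
    (hg : ∀ p ∈ D.grp hl, g * p * g⁻¹ ∈ D.grp hl)
    (hg' : ∀ p ∈ D.grp hl, g⁻¹ * p * g ∈ D.grp hl) :
    ∃ n ∈ sqCand k l, n ≠ 0 ∧ g * z * g⁻¹ = D.val n := by
  obtain ⟨n, hn, hnv⟩ := hg z ⟨zN, hz, D.val_z⟩
  obtain ⟨r, hr, hrz⟩ := hr
  have hlt : ∀ m ∈ l, m < 768 := fun m hm => (hl.2.2.1 m hm).1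
  obtain ⟨s, hs, hsv⟩ := hg _ ⟨r, hr, rfl⟩
  refine ⟨n, List.mem_filter.2 ⟨hn, ?_⟩, ?_, hnv.symm⟩
  · rw [Bool.and_eq_true, List.any_eq_true, List.all_eq_true]
    refine ⟨⟨s, hs, beq_iff_eq.2 ?_⟩, fun a ha => beq_iff_eq.2 ?_⟩
    · refine D.val_inj _ _ (mulN_lt ..) (hlt n hn) ?_
      rw [D.val_mul s s (hlt s hs) (hlt s hs), hsv, hnv]
      have hz' : D.val r * D.val r = z := by
        rw [← D.val_mul r r (hlt r hr) (hlt r hr), hrz, D.val_z]
      calc _ = g * (D.val r * D.val r) * g⁻¹ := by group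
        _ = _ := by rw [hz']
    · obtain ⟨b, hb, hbv⟩ := hg' _ ⟨a, ha, rfl⟩
      refine D.mul_val_eq (hlt n hn) (hlt a ha) ?_
      have hc := D.val_comm b (hlt b hb)
      rw [hbv] at hc
      rw [hnv]
      calc g * z * g⁻¹ * D.val a = g * (z * (g⁻¹ * D.val a * g)) * g⁻¹ := by group
        _ = g * (g⁻¹ * D.val a * g * z) * g⁻¹ := by rw [hc]
        _ = D.val a * (g * z * g⁻¹) := by group
  · rintro rfl
    rw [D.val_zero, eq_comm, conj_eq_one_iff] at hnv
    have := D.ord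
    rw [hnv, orderOf_one] at this
    norm_num at this

theorem centL_mem {a m : ℕ} : m ∈ centL k a ↔ m < 768 ∧ mulN k m a = mulN k a m := by
  simp [centL, els]

/-- The centraliser of an element of the model, in the centraliser of `z`. -/
theorem card_cent_inf {a : ℕ} (ha : a < 768) :
    Nat.card ↥(Subgroup.centralizer ({D.val a} : Set G) ⊓ Subgroup.centralizer ({z} : Set G)) =
      (centL k a).length := by
  rw [← D.card_image (l := centL k a) (fun m hm => (D.centL_mem.1 hm).1)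
    (List.nodup_range.filter _)]
  refine Nat.card_congr (Equiv.subtypeEquivRight fun g => ?_)
  rw [Subgroup.mem_inf, Subgroup.mem_centralizer_singleton_iff]
  constructor
  · rintro ⟨h1, h2⟩
    obtain ⟨m, hm, rfl⟩ := D.mem_cent_iff.1 h2
    exact ⟨m, D.centL_mem.2 ⟨hm, D.mul_val_eq hm ha h1⟩, rfl⟩
  · rintro ⟨m, hm, rfl⟩
    obtain ⟨hm, e⟩ := D.centL_mem.1 hm
    exact ⟨D.val_commute hm ha e, D.mem_cent_iff.2 ⟨m, hm, rfl⟩⟩

/-- The subgroup is a Sylow two-subgroup of any group `C` in which `z` has no new conjugates. -/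
theorem not_dvd_card {l : List ℕ} (hl : IsSub k l) (hz : zN ∈ l)
    (hr : ∃ r ∈ l, mulN k r r = zN) {a : ℕ} (hlen : l.length = 2 ^ a) {C : Subgroup G}
    (hle : D.grp hl ≤ C) (hd : ¬ 2 ^ (a + 1) ∣ Nat.card ↥(C ⊓ Subgroup.centralizer ({z} : Set G)))
    (hfix : ∀ n ∈ sqCand k l, n ≠ 0 → n ≠ zN → ∀ g ∈ C,
      (∀ p ∈ D.grp hl, g * p * g⁻¹ ∈ D.grp hl) → g * z * g⁻¹ ≠ D.val n) :
    ¬ 2 ^ (a + 1) ∣ Nat.card C := by
  intro h
  obtain ⟨Q, hPQ, hQC, hQ, hn⟩ := exists_above hle (by rw [D.card_grp hl, hlen]) h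
  have hQz : Q ≤ Subgroup.centralizer ({z} : Set G) := fun g hg => by
    obtain ⟨n, hnc, hn0, hnv⟩ := D.conj_z_cand hl hz hr (hn g hg) (fun p hp => by
      simpa using hn g⁻¹ (inv_mem hg) p hp)
    have : n = zN := by
      by_contra hne
      exact hfix n hnc hn0 hne g (hQC hg) (hn g hg) hnv
    rw [this, D.val_z, mul_inv_eq_iff_eq_mul] at hnv
    exact Subgroup.mem_centralizer_singleton_iff.2 hnv
  exact hd (hQ ▸ Subgroup.card_dvd_of_le (le_inf hQC hQz))

theorem grp_le_cent {l : List ℕ} (hl : IsSub k l) {a : ℕ} (ha : a < 768)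
    (h : ∀ m ∈ l, mulN k m a = mulN k a m) :
    D.grp hl ≤ Subgroup.centralizer ({D.val a} : Set G) := by
  rintro _ ⟨m, hm, rfl⟩
  exact Subgroup.mem_centralizer_singleton_iff.2
    (D.val_commute (hl.2.2.1 m hm).1 ha (h m hm))

end Cen

theorem syl_check_small : ∀ p ∈ sylTbl.filter (fun p => p.2.1 != 0), IsSub p.1 p.2.2 ∧ zN ∈ p.2.2 ∧
    (∃ r ∈ p.2.2, mulN p.1 r r = zN) ∧
    (p.2.1 ≠ 0 → p.2.1 < 768 ∧ (∀ m ∈ p.2.2, mulN p.1 m p.2.1 = mulN p.1 p.2.1 m) ∧
      (centL p.1 p.2.1).length / p.2.2.length % 2 = 1 ∧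
      (centL p.1 p.2.1).length % p.2.2.length = 0) ∧
    (p.2.1 = 7 ∨ ∀ n ∈ sqCand p.1 p.2.2, n = 0 ∨ n = zN) := by
  decide +kernel

end CfsgLib.L34Cent
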