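import Cfsg.Agent.Lib.L34Cent.Model
import Cfsg.Agent.Lib.Small.JankoTwoNormalForm

/-!
# Normal forms in a group with the generators of a model
-/

set_option autoImplicit false
set_option linter.unusedSectionVars false
set_option maxRecDepth 100000

namespace CfsgLib.L34Cent

open CfsgLib.Small.JTwoType (FiveRel bpow qev)
open CfsgLib.Small.JTwoModel (QW qmul qz qone)

/-- a bit -/
def bit (q i : ℕ) : Bool := q / 2 ^ i % 2 == 1

/-- the exponents of an element of `Q` -/
def qw (q : ℕ) : QW := (bit q 0, bit q 1, bit q 2, bit q 3, bit q 4)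

theorem qw_mul : ∀ a ∈ List.range 32, ∀ b ∈ List.range 32, qw (qMul a b) = qmul (qw a) (qw b) := by
  decide +kernel

theorem qw_inj : ∀ a ∈ List.range 32, ∀ b ∈ List.range 32, qw a = qw b → a = b := by
  decide +kernel

theorem qMul_lt (a b : ℕ) : qMul a b < 32 := Nat.mod_lt _ (by norm_num)

theorem qInv_lt (a : ℕ) : qInv a < 32 := Nat.mod_lt _ (by norm_num)

theorem qAct_lt (j a : ℕ) : qAct j a < 32 := Nat.mod_lt _ (by norm_num)

theorem pMul_lt (a b : ℕ) : pMul a b < 24 := Nat.mod_lt _ (by norm_num)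

theorem coc_lt (k a b : ℕ) : 16 * coc k a b < 32 := by
  have := Nat.mod_lt ((cT.getD k 0) >>> (24 * a + b)) (show 2 > 0 by norm_num)
  unfold coc
  omega

/-- the image of an element under a map given on the generators -/
def img (m : Fin 4 → ℕ) (q : ℕ) : ℕ :=
  qMul (qMul (qMul (qMul (if bit q 0 then m 0 else 0) (if bit q 1 then m 1 else 0))
    (if bit q 2 then m 2 else 0)) (if bit q 3 then m 3 else 0)) (if bit q 4 then 16 else 0)

/-- the images of the generators under the lifts of the three transpositions -/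
def genIm : Fin 3 → Fin 4 → ℕ := ![![2, 1, 4, 8], ![1, 4, 2, 8], ![1, 2, 8, 4]]

/-- the first factor -/
def w1 (a : ℕ) : List (Fin 3) := [[], [0]].getD a []

/-- the second factor -/
def w2 (b : ℕ) : List (Fin 3) := [[], [1], [1, 0]].getD b []

/-- the third factor -/
def w3 (c : ℕ) : List (Fin 3) := [[], [2], [2, 1], [2, 1, 0]].getD c []

/-- the word of a lift -/
def word (j : ℕ) : List (Fin 3) := w1 (j % 2) ++ w2 (j / 2 % 3) ++ w3 (j / 6)

/-- moving a generator past the third factor -/
def rule3 (e1 e2 c : ℕ) (t : Fin 3) : ℕ × Option (Fin 2) × ℕ :=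
  ([[(0, some 0, 0), (0, some 1, 0), (0, none, 1)],
    [(e2, some 0, 1), (0, none, 2), (e1, none, 0)],
    [(0, none, 3), (e1, none, 1), (0, some 1, 2)],
    [(e1, none, 2), (e2, some 0, 3), (e2, some 1, 3)]].getD c []).getD t.val (0, none, 0)

/-- moving a generator past the second factor -/
def rule2 (e1 b : ℕ) (t : Fin 2) : ℕ × Bool × ℕ :=
  ([[(0, true, 0), (0, false, 1)], [(0, false, 2), (e1, false, 0)],
    [(e1, false, 1), (0, true, 2)]].getD b []).getD t.val (0, false, 0)

/-- multiplying a normal form by a generator -/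
def step (e1 e2 : ℕ) (t : Fin 3) (st : ℕ × ℕ) : ℕ × ℕ :=
  match rule3 e1 e2 (st.2 / 6) t with
  | (d, none, c) => ((st.1 + d) % 2, st.2 % 2 + 2 * (st.2 / 2 % 3) + 6 * c)
  | (d, some h, c) =>
    match rule2 e1 (st.2 / 2 % 3) h with
    | (d', false, b) => ((st.1 + d + d') % 2, st.2 % 2 + 2 * b + 6 * c)
    | (d', true, b) => ((st.1 + d + d' + e1 * (st.2 % 2)) % 2, (1 - st.2 % 2) + 2 * b + 6 * c)

theorem word_act : ∀ j ∈ List.range 24, ∀ q ∈ List.range 32,
    (word j).foldr (fun t x => img (genIm t) x) q = qAct j q := by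
  decide +kernel

theorem word_mul : ∀ k ∈ List.range 4, ∀ a ∈ List.range 24, ∀ b ∈ List.range 24,
    (word b).foldl (fun st t => step (k / 2) (k % 2) t st) (0, a) = (coc k a b, pMul a b) := by
  decide +kernel

theorem act_faithful : ∀ a ∈ List.range 24, ∀ b ∈ List.range 24, ∀ w ∈ List.range 32,
    qMul (qAct b 1) w = qMul w (qAct a 1) → qMul (qAct b 2) w = qMul w (qAct a 2) →
    qMul (qAct b 4) w = qMul w (qAct a 4) → qMul (qAct b 8) w = qMul w (qAct a 8) → a = b := by
  decide +kernel

theorem qInv_mul : ∀ a ∈ List.range 32, qMul (qInv a) a = 0 := by decide +kernel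

variable {G : Type*} [Group G]

/-- the value of an element of `Q` -/
def qv (u : Fin 4 → G) (z : G) (q : ℕ) : G :=
  qev ![u 0, u 1, u 2, u 3, u 0 * u 1 * u 2 * u 3] z (qw q)

/-- Four pairwise anticommuting involutions. -/
structure FourRel (u : Fin 4 → G) (z : G) : Prop where
  ne : z ≠ 1
  zz : z * z = 1
  sq : ∀ i, u i * u i = 1
  zc : ∀ i, z * u i = u i * z
  anti : ∀ i j, i ≠ j → u i * u j = u j * (u i * z)

section

variable {u : Fin 4 → G} {z : G} (F : FourRel u z)
include F

theorem fiveRel : FiveRel ![u 0, u 1, u 2, u 3, u 0 * u 1 * u 2 * u 3] z where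
  zz := F.zz
  sq := fun i => by fin_cases i <;> exact F.sq _
  zc := fun i => by fin_cases i <;> exact F.zc _
  anti := fun i j h => by
    fin_cases i <;> fin_cases j <;> first | exact absurd rfl h | exact F.anti _ _ (by decide)
  four := rfl

theorem qv_mul {a b : ℕ} (ha : a < 32) (hb : b < 32) :
    qv u z (qMul a b) = qv u z a * qv u z b := by
  show qev _ z (qw (qMul a b)) = _
  rw [qw_mul a (List.mem_range.2 ha) b (List.mem_range.2 hb)]
  exact CfsgLib.Small.JTwoType.qev_mul (fiveRel F) _ _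

theorem qv_inj {a b : ℕ} (ha : a < 32) (hb : b < 32) (h : qv u z a = qv u z b) : a = b :=
  qw_inj a (List.mem_range.2 ha) b (List.mem_range.2 hb)
    (CfsgLib.Small.JTwoType.qev_injective (fiveRel F) F.ne h)

end

theorem qv_zero (u : Fin 4 → G) (z : G) : qv u z 0 = 1 := by
  simp [qv, qw, bit, qev, bpow]

theorem qv_z (u : Fin 4 → G) (z : G) : qv u z 16 = z := by
  simp [qv, qw, bit, qev, bpow]

theorem qv_gen (u : Fin 4 → G) (z : G) (i : Fin 4) : qv u z (2 ^ i.val) = u i := by
  fin_cases i <;> simp [qv, qw, bit, qev, bpow]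

theorem qv_mem {u : Fin 4 → G} {z : G} (Q : Subgroup G) (hu : ∀ i, u i ∈ Q) (hz : z ∈ Q) (q : ℕ) :
    qv u z q ∈ Q := by
  have hb : ∀ (b : Bool) (x : G), x ∈ Q → bpow b x ∈ Q := fun b x hx => by
    cases b
    · exact one_mem _
    · exact hx
  show bpow _ (u 0) * bpow _ (u 1) * bpow _ (u 2) * bpow _ (u 3) * bpow _ z ∈ Q
  exact mul_mem (mul_mem (mul_mem (mul_mem (hb _ _ (hu 0)) (hb _ _ (hu 1))) (hb _ _ (hu 2)))
    (hb _ _ (hu 3))) (hb _ _ hz)

section

variable {u : Fin 4 → G} {z : G} (F : FourRel u z)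
include F

/-- Conjugation is determined by the images of the generators. -/
theorem qv_semiconj {t : G} {m : Fin 4 → ℕ} (hm : ∀ i, m i < 32) (htz : t * z = z * t)
    (ht : ∀ i, t * u i = qv u z (m i) * t) (q : ℕ) :
    t * qv u z q = qv u z (img m q) * t := by
  have hb : ∀ (b : Bool) (x : G) (n : ℕ), SemiconjBy t x (qv u z n) →
      SemiconjBy t (bpow b x) (qv u z (if b then n else 0)) := fun b x n h => by
    cases b
    · simp only [bpow, Bool.false_eq_true, if_false, qv_zero]
      exact SemiconjBy.one_right t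
    · exact h
  have hlt : ∀ (b : Bool) (n : ℕ), n < 32 → (if b then n else 0) < 32 := fun b n h => by
    cases b <;> simp [h]
  have h16 : SemiconjBy t z (qv u z 16) := by rw [qv_z]; exact htz
  unfold img
  rw [qv_mul F (qMul_lt _ _) (hlt _ _ (by norm_num)), qv_mul F (qMul_lt _ _) (hlt _ _ (hm 3)),
    qv_mul F (qMul_lt _ _) (hlt _ _ (hm 2)), qv_mul F (hlt _ _ (hm 0)) (hlt _ _ (hm 1))]
  exact ((((hb _ _ _ (ht 0)).mul_right (hb _ _ _ (ht 1))).mul_right (hb _ _ _ (ht 2))).mul_right
    (hb _ _ _ (ht 3))).mul_right (hb _ _ _ h16)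

end

/-- The relations between the lifts of the three transpositions. -/
structure LiftRel (u : Fin 4 → G) (z : G) (T : Fin 3 → G) (e1 e2 : ℕ) : Prop where
  sq : ∀ i, T i * T i = z ^ e1
  comm : T 2 * T 0 = z ^ e2 * (T 0 * T 2)
  braid01 : T 0 * T 1 * T 0 = T 1 * T 0 * T 1
  braid12 : T 1 * T 2 * T 1 = T 2 * T 1 * T 2
  tz : ∀ i, T i * z = z * T i
  conj : ∀ i j, T i * u j = qv u z (genIm i j) * T i

/-- the product of a word -/
def wv (T : Fin 3 → G) (w : List (Fin 3)) : G := (w.map T).prod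

theorem wv_append (T : Fin 3 → G) (v w : List (Fin 3)) : wv T (v ++ w) = wv T v * wv T w := by
  simp [wv]

section

variable {u : Fin 4 → G} {z : G} {T : Fin 3 → G} {e1 e2 : ℕ} (F : FourRel u z)
  (R : LiftRel u z T e1 e2)
include F R

theorem zpow_mod (n : ℕ) : z ^ (n % 2) = z ^ n :=
  (pow_eq_pow_mod n (by rw [pow_two, F.zz])).symm

theorem zT (i : Fin 3) (n : ℕ) : T i * z ^ n = z ^ n * T i :=
  (Commute.pow_right (R.tz i) n).eq

theorem zw (w : List (Fin 3)) (n : ℕ) : wv T w * z ^ n = z ^ n * wv T w := by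
  induction w with
  | nil => simp [wv]
  | cons a w ih =>
    show T a * wv T w * z ^ n = z ^ n * (T a * wv T w)
    rw [mul_assoc, ih, ← mul_assoc, zT F R, mul_assoc]

theorem comm' : T 0 * T 2 = z ^ e2 * (T 2 * T 0) := by
  rw [R.comm, ← mul_assoc, ← pow_add, ← two_mul, pow_mul, pow_two, F.zz, one_pow, one_mul]

/-- Moving a generator past the third factor. -/
theorem rule3_sound : ∀ c < 4, ∀ t : Fin 3, wv T (w3 c) * T t =
    z ^ (rule3 e1 e2 c t).1 *
      ((match (rule3 e1 e2 c t).2.1 with | none => 1 | some h => T h.castSucc) *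
        wv T (w3 (rule3 e1 e2 c t).2.2)) ∧ (rule3 e1 e2 c t).2.2 < 4 := by
  intro c hc t
  have hzT := zT F R
  have hc' := comm' F R
  interval_cases c <;> fin_cases t <;> simp [rule3, w3, wv]
  · exact R.comm
  · exact R.sq 2
  · rw [mul_assoc]
  · rw [mul_assoc, R.sq, hzT]
  · rw [← mul_assoc, ← R.braid12, mul_assoc]
  · rw [mul_assoc, mul_assoc, R.sq, hzT, ← mul_assoc, hzT, mul_assoc]
  · calc T 2 * (T 1 * T 0) * T 1 = T 2 * (T 1 * T 0 * T 1) := by simp only [mul_assoc]
      _ = T 2 * (T 0 * T 1 * T 0) := by rw [R.braid01]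
      _ = T 2 * T 0 * (T 1 * T 0) := by simp only [mul_assoc]
      _ = _ := by rw [R.comm]; simp only [mul_assoc]
  · calc T 2 * (T 1 * T 0) * T 2 = T 2 * T 1 * (T 0 * T 2) := by simp only [mul_assoc]
      _ = T 2 * T 1 * z ^ e2 * (T 2 * T 0) := by rw [hc']; simp only [mul_assoc]
      _ = z ^ e2 * (T 2 * T 1 * T 2) * T 0 := by
          rw [show T 2 * T 1 * z ^ e2 = z ^ e2 * (T 2 * T 1) by
            rw [mul_assoc, hzT, ← mul_assoc, hzT, mul_assoc]]
          simp only [mul_assoc]
      _ = _ := by rw [← R.braid12]; simp only [mul_assoc]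

/-- Moving a generator past the second factor. -/
theorem rule2_sound : ∀ b < 3, ∀ t : Fin 2, wv T (w2 b) * T t.castSucc =
    z ^ (rule2 e1 b t).1 *
      ((if (rule2 e1 b t).2.1 then T 0 else 1) * wv T (w2 (rule2 e1 b t).2.2)) ∧
      (rule2 e1 b t).2.2 < 3 := by
  intro b hb t
  have hzT := zT F R
  interval_cases b <;> fin_cases t <;> simp [rule2, w2, wv]
  · exact R.sq 1
  · rw [mul_assoc, R.sq, hzT]
  · rw [← R.braid01, mul_assoc]

theorem r_mk {a b c : ℕ} (ha : a < 2) (hb : b < 3) :
    wv T (word (a + 2 * b + 6 * c)) = wv T (w1 a) * wv T (w2 b) * wv T (w3 c) := by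
  rw [word, wv_append, wv_append, show (a + 2 * b + 6 * c) % 2 = a by omega,
    show (a + 2 * b + 6 * c) / 2 % 3 = b by omega, show (a + 2 * b + 6 * c) / 6 = c by omega]

theorem w1_T0 {a : ℕ} (ha : a < 2) : wv T (w1 a) * T 0 = z ^ (e1 * a) * wv T (w1 (1 - a)) := by
  interval_cases a
  · simp [w1, wv]
  · simp [w1, wv, R.sq]

theorem step_sound (t : Fin 3) {n i : ℕ} (hi : i < 24) :
    z ^ n * wv T (word i) * T t = z ^ (step e1 e2 t (n, i)).1 * wv T (word (step e1 e2 t (n, i)).2) ∧
      (step e1 e2 t (n, i)).2 < 24 := by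
  have hA := zw F R (w1 (i % 2))
  have hB := zw F R (w2 (i / 2 % 3))
  obtain ⟨h3, hc⟩ := rule3_sound F R (i / 6) (by omega) t
  have hr : wv T (word i) * T t =
      wv T (w1 (i % 2)) * wv T (w2 (i / 2 % 3)) * (wv T (w3 (i / 6)) * T t) := by
    rw [word, wv_append, wv_append]; simp only [mul_assoc]
  rw [h3] at hr
  rw [mul_assoc, hr]
  rcases h : rule3 e1 e2 (i / 6) t with ⟨d, _ | h2, c⟩
  · rw [h] at hc
    simp only [step, h]
    refine ⟨?_, by simp only at hc ⊢; omega⟩
    rw [r_mk F R (Nat.mod_lt _ (by norm_num)) (Nat.mod_lt _ (by norm_num)), zpow_mod F R, one_mul]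
    calc z ^ n * (wv T (w1 (i % 2)) * wv T (w2 (i / 2 % 3)) * (z ^ d * wv T (w3 c)))
        = z ^ n * (wv T (w1 (i % 2)) * (wv T (w2 (i / 2 % 3)) * z ^ d) * wv T (w3 c)) := by
          simp only [mul_assoc]
      _ = z ^ n * (wv T (w1 (i % 2)) * z ^ d * (wv T (w2 (i / 2 % 3)) * wv T (w3 c))) := by
          rw [hB]; simp only [mul_assoc]
      _ = _ := by rw [hA, pow_add]; simp only [mul_assoc]
  · obtain ⟨h2', hb⟩ := rule2_sound F R (i / 2 % 3) (Nat.mod_lt _ (by norm_num)) h2
    rw [h] at hc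
    have he : wv T (w1 (i % 2)) * wv T (w2 (i / 2 % 3)) * (z ^ d * (T h2.castSucc * wv T (w3 c))) =
        z ^ d * (wv T (w1 (i % 2)) * (wv T (w2 (i / 2 % 3)) * T h2.castSucc) * wv T (w3 c)) := by
      calc _ = wv T (w1 (i % 2)) * (wv T (w2 (i / 2 % 3)) * z ^ d) *
            (T h2.castSucc * wv T (w3 c)) := by simp only [mul_assoc]
        _ = wv T (w1 (i % 2)) * z ^ d * (wv T (w2 (i / 2 % 3)) *
            (T h2.castSucc * wv T (w3 c))) := by rw [hB]; simp only [mul_assoc]
        _ = _ := by rw [hA]; simp only [mul_assoc]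
    rw [h2'] at he
    simp only
    rw [he]
    rcases h' : rule2 e1 (i / 2 % 3) h2 with ⟨d', _ | _, b⟩
    · rw [h'] at hb
      simp only [step, h, h', Bool.false_eq_true, if_false]
      refine ⟨?_, by simp only at hb hc ⊢; omega⟩
      rw [r_mk F R (Nat.mod_lt _ (by norm_num)) (by simpa using hb), zpow_mod F R, one_mul]
      calc z ^ n * (z ^ d * (wv T (w1 (i % 2)) * (z ^ d' * wv T (w2 b)) * wv T (w3 c)))
          = z ^ n * (z ^ d * (wv T (w1 (i % 2)) * z ^ d' * (wv T (w2 b) * wv T (w3 c)))) := by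
            simp only [mul_assoc]
        _ = _ := by rw [hA, pow_add, pow_add]; simp only [mul_assoc]
    · rw [h'] at hb
      simp only [step, h, h', if_true]
      refine ⟨?_, by simp only at hb hc ⊢; omega⟩
      rw [r_mk F R (by omega) (by simpa using hb), zpow_mod F R]
      calc z ^ n * (z ^ d * (wv T (w1 (i % 2)) * (z ^ d' * (T 0 * wv T (w2 b))) * wv T (w3 c)))
          = z ^ n * (z ^ d * (wv T (w1 (i % 2)) * z ^ d' * (T 0 * (wv T (w2 b) * wv T (w3 c))))) := by
            simp only [mul_assoc]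
        _ = z ^ n * (z ^ d * (z ^ d' * ((wv T (w1 (i % 2)) * T 0) * (wv T (w2 b) * wv T (w3 c))))) := by
            rw [hA]; simp only [mul_assoc]
        _ = _ := by
            rw [w1_T0 F R (Nat.mod_lt _ (by norm_num)), pow_add, pow_add, pow_add]
            simp only [mul_assoc]

theorem fold_sound : ∀ (w : List (Fin 3)) (n i : ℕ), i < 24 →
    z ^ n * wv T (word i) * wv T w =
      z ^ (w.foldl (fun st t => step e1 e2 t st) (n, i)).1 *
        wv T (word (w.foldl (fun st t => step e1 e2 t st) (n, i)).2) := by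
  intro w
  induction w with
  | nil => intro n i _; simp [wv]
  | cons t w ih =>
    intro n i hi
    obtain ⟨h1, h2⟩ := step_sound F R t (n := n) hi
    rw [show wv T (t :: w) = T t * wv T w from rfl, ← mul_assoc, h1, ih _ _ h2]
    rfl

theorem wv_semiconj : ∀ (w : List (Fin 3)) (q : ℕ), wv T w * qv u z q =
    qv u z (w.foldr (fun t x => img (genIm t) x) q) * wv T w := by
  intro w
  induction w with
  | nil => intro q; simp [wv]
  | cons t w ih =>
    intro q
    show T t * wv T w * qv u z q = _ * (T t * wv T w)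
    rw [mul_assoc, ih, ← mul_assoc,
      qv_semiconj F (fun i => by fin_cases t <;> fin_cases i <;> decide) (R.tz t) (R.conj t),
      mul_assoc]
    rfl

end

/-- the element of a model -/
def elt (u : Fin 4 → G) (z : G) (T : Fin 3 → G) (m : ℕ) : G :=
  qv u z (m / 24) * wv T (word (m % 24))

section

variable {u : Fin 4 → G} {z : G} {T : Fin 3 → G} {k : ℕ} (F : FourRel u z)
  (R : LiftRel u z T (k / 2) (k % 2))
include F R

theorem qv_pow (c : ℕ) (hc : c < 2) : qv u z (16 * c) = z ^ c := by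
  interval_cases c
  · simp [qv_zero]
  · simp [qv_z]

theorem elt_mul (hk : k < 4) {m n : ℕ} (hm : m < 768) (hn : n < 768) :
    elt u z T (mulN k m n) = elt u z T m * elt u z T n := by
  set a := m / 24
  set i := m % 24
  set b := n / 24
  set j := n % 24
  have hi : i < 24 := Nat.mod_lt _ (by norm_num)
  have hj : j < 24 := Nat.mod_lt _ (by norm_num)
  have ha : a < 32 := by omega
  have hb : b < 32 := by omega
  have hc : coc k i j < 2 := Nat.mod_lt _ (by norm_num)
  have hp := pMul_lt i j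
  have hq := qMul_lt (qMul a (qAct i b)) (16 * coc k i j)
  have hact : wv T (word i) * qv u z b = qv u z (qAct i b) * wv T (word i) := by
    rw [wv_semiconj F R, word_act i (List.mem_range.2 hi) b (List.mem_range.2 hb)]
  have hmul : wv T (word i) * wv T (word j) = z ^ coc k i j * wv T (word (pMul i j)) := by
    have h := fold_sound F R (word j) 0 i hi
    rw [word_mul k (List.mem_range.2 hk) i (List.mem_range.2 hi) j (List.mem_range.2 hj), pow_zero,
      one_mul] at h
    exact h
  show qv u z (mulN k m n / 24) * wv T (word (mulN k m n % 24)) =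
    qv u z a * wv T (word i) * (qv u z b * wv T (word j))
  rw [show mulN k m n / 24 = qMul (qMul a (qAct i b)) (16 * coc k i j) by
      show (qMul (qMul a (qAct i b)) (16 * coc k i j) * 24 + pMul i j) / 24 = _; omega,
    show mulN k m n % 24 = pMul i j by
      show (qMul (qMul a (qAct i b)) (16 * coc k i j) * 24 + pMul i j) % 24 = _; omega,
    qv_mul F (qMul_lt _ _) (coc_lt _ _ _), qv_mul F ha (qAct_lt _ _), qv_pow F R _ hc]
  calc qv u z a * qv u z (qAct i b) * z ^ coc k i j * wv T (word (pMul i j))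
      = qv u z a * qv u z (qAct i b) * (wv T (word i) * wv T (word j)) := by
        rw [hmul]; simp only [mul_assoc]
    _ = qv u z a * (qv u z (qAct i b) * wv T (word i)) * wv T (word j) := by simp only [mul_assoc]
    _ = _ := by rw [← hact]; simp only [mul_assoc]

theorem elt_inj {m n : ℕ} (hm : m < 768) (hn : n < 768) (h : elt u z T m = elt u z T n) :
    m = n := by
  unfold elt at h
  set a := m / 24
  set i := m % 24
  set b := n / 24
  set j := n % 24
  have hi : i < 24 := Nat.mod_lt _ (by norm_num)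
  have hj : j < 24 := Nat.mod_lt _ (by norm_num)
  have ha : a < 32 := by omega
  have hb : b < 32 := by omega
  set w := qMul (qInv b) a
  have hw : w < 32 := qMul_lt _ _
  have hr : wv T (word j) = qv u z w * wv T (word i) := by
    rw [qv_mul F (qInv_lt _) ha, mul_assoc, h, ← mul_assoc, ← qv_mul F (qInv_lt _) hb,
      qInv_mul b (List.mem_range.2 hb), qv_zero, one_mul]
  have key : ∀ g < 32, qMul (qAct j g) w = qMul w (qAct i g) := by
    intro g hg
    refine qv_inj F (qMul_lt _ _) (qMul_lt _ _) (mul_right_cancel (b := wv T (word i)) ?_)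
    rw [qv_mul F (qAct_lt _ _) hw, qv_mul F hw (qAct_lt _ _), mul_assoc, ← hr, mul_assoc,
      ← word_act i (List.mem_range.2 hi) g (List.mem_range.2 hg), ← wv_semiconj F R, ← mul_assoc,
      ← hr, ← word_act j (List.mem_range.2 hj) g (List.mem_range.2 hg), ← wv_semiconj F R]
  have hij : i = j := act_faithful i (List.mem_range.2 hi) j (List.mem_range.2 hj) w
    (List.mem_range.2 hw) (key 1 (by norm_num)) (key 2 (by norm_num)) (key 4 (by norm_num))
    (key 8 (by norm_num))
  rw [hij] at h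
  have hab : a = b := qv_inj F ha hb (mul_right_cancel h)
  omega

end

end CfsgLib.L34Cent
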