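import Cfsg.Agent.S0494
import Cfsg.Agent.Lib.L34Cent.Setup

/-!
# Counting lemmas for the order of the group
-/

set_option autoImplicit false
set_option linter.unusedSectionVars false
set_option maxRecDepth 100000

namespace CfsgLib.L34Cent

open Subgroup

universe u

/-- An element of square one is conjugate into a subgroup of odd index. -/
theorem conj_into_of_odd {G : Type u} [Group G] [Finite G] (H : Subgroup G) (hodd : Odd H.index)
    {v : G} (hv : v * v = 1) : ∃ g : G, g⁻¹ * v * g ∈ H := by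
  haveI : Fact (Nat.Prime 2) := ⟨Nat.prime_two⟩
  have hp : IsPGroup 2 (zpowers v) := by
    rintro ⟨y, k, rfl⟩
    refine ⟨1, Subtype.ext ?_⟩
    show (v ^ k) ^ 2 ^ 1 = 1
    rw [pow_one, ← zpow_natCast, ← zpow_mul, mul_comm, zpow_mul, zpow_natCast, pow_two, hv, one_zpow]
  have hn : ¬ 2 ∣ Nat.card (G ⧸ H) := Nat.two_dvd_ne_zero.2 (Nat.odd_iff.1 hodd)
  obtain ⟨x, hx⟩ := hp.nonempty_fixed_point_of_prime_not_dvd_card (G ⧸ H) hn
  obtain ⟨g, rfl⟩ := QuotientGroup.mk_surjective x
  have h : ((v * g : G) : G ⧸ H) = (g : G ⧸ H) := hx ⟨v, mem_zpowers v⟩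
  refine ⟨g, ?_⟩
  rw [mul_assoc]
  exact QuotientGroup.eq.1 h.symm

/-- The pairs counted at the second class. -/
def OddPair (K : Type u) [Group K] : Type u :=
  {p : K × K // p.1 ≠ 1 ∧ p.1 * p.1 = 1 ∧ p.2 * p.2 = 1 ∧ Odd (orderOf (p.1 * p.2))}

theorem card_oddPair_four {K : Type u} [Group K] [Finite K] (V : Subgroup K)
    (hcard : Nat.card V = 4) (hV : ∀ x ∈ V, x * x = 1) (hall : ∀ x : K, x * x = 1 → x ∈ V) :
    Nat.card (OddPair K) = 3 := by
  classical
  haveI := Fintype.ofFinite V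
  have e : OddPair K ≃ {v : V // v ≠ 1} :=
    { toFun := fun p => ⟨⟨p.1.1, hall _ p.2.2.1⟩, fun h => p.2.1 (congrArg Subtype.val h)⟩
      invFun := fun v => ⟨((v.1 : K), (v.1 : K)), fun h => v.2 (Subtype.ext h), hV _ v.1.2, hV _ v.1.2,
        by rw [hV _ v.1.2, orderOf_one]; exact odd_one⟩
      left_inv := fun p => by
        refine Subtype.ext (Prod.ext rfl ?_)
        have h2 := hV _ (mul_mem (hall _ p.2.2.1) (hall _ p.2.2.2.1))
        have h1 : orderOf (p.1.1 * p.1.2) ∣ 2 := orderOf_dvd_of_pow_eq_one (by rw [pow_two, h2])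
        rcases (Nat.dvd_prime Nat.prime_two).1 h1 with e | e
        · rw [orderOf_eq_one_iff] at e
          show p.1.1 = p.1.2
          exact ((eq_inv_of_mul_eq_one_right e).trans (inv_eq_of_mul_eq_one_right p.2.2.1)).symm
        · exact absurd p.2.2.2.2 (by rw [e]; decide)
      right_inv := fun v => rfl }
  rw [Nat.card_congr e, Nat.card_eq_fintype_card, Fintype.card_subtype_compl,
    Fintype.card_subtype_eq, ← Nat.card_eq_fintype_card, hcard]

/-- The involutions of the alternating group of degree five. -/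
def invFive : Finset (alternatingGroup (Fin 5)) :=
  Finset.univ.filter fun x => x * x = 1

theorem five_count :
    ((invFive.filter fun x => x ≠ 1) ×ˢ invFive |>.filter fun p => (p.1 * p.2) ^ 15 = 1).card = 195 := by
  decide +kernel

theorem five_odd : ∀ x : alternatingGroup (Fin 5), x ^ 15 = 1 ∨ (x ≠ 1 ∧ x * x = 1) := by
  decide +kernel

theorem card_oddPair_sixty {K : Type u} [Group K] [Finite K] (h : Nat.card K = 60)
    (hs : IsSimpleGroup K) : Nat.card (OddPair K) = 195 := by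
  classical
  haveI := hs
  obtain ⟨e⟩ := Cfsg.Agent.S0494.result (G := K) h
  have hodd : ∀ x : K, Odd (orderOf x) ↔ e x ^ 15 = 1 := by
    intro x
    rw [← MulEquiv.orderOf_eq e x]
    constructor
    · intro ho
      rcases five_odd (e x) with h' | ⟨h1, h2⟩
      · exact h'
      · rw [orderOf_eq_prime (p := 2) (by rw [pow_two, h2]) h1] at ho
        exact absurd ho (by decide)
    · exact fun h' => (show Odd 15 by decide).of_dvd_nat (orderOf_dvd_of_pow_eq_one h')
  rw [← five_count, ← Nat.card_eq_finsetCard]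
  refine Nat.card_congr ((e.toEquiv.prodCongr e.toEquiv).subtypeEquiv fun p => ?_)
  simp only [invFive, Finset.mem_filter, Finset.mem_product, Finset.mem_univ, true_and,
    Equiv.prodCongr_apply, Prod.map_fst, Prod.map_snd, MulEquiv.toEquiv_eq_coe, MulEquiv.coe_toEquiv]
  rw [hodd, map_mul, ← map_mul e p.1 p.1, ← map_mul e p.2 p.2, EmbeddingLike.map_eq_one_iff,
    EmbeddingLike.map_eq_one_iff, EmbeddingLike.map_ne_one_iff]
  tauto

/-- the scan of the powers of an element -/
def scanN (w : ℕ) : ℕ → ℕ → Bool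
  | 0, _ => false
  | n + 1, x => x == zN || scanN w n (mulN 0 x w)

theorem scanN_iff (w : ℕ) : ∀ n j, scanN w n (powN 0 w j) = true ↔
    ∃ i, j ≤ i ∧ i < j + n ∧ powN 0 w i = zN := by
  intro n
  induction n with
  | zero =>
    intro j
    simp only [scanN, Bool.false_eq_true, false_iff]
    rintro ⟨i, h1, h2, -⟩
    omega
  | succ n ih =>
    intro j
    simp only [scanN, Bool.or_eq_true, beq_iff_eq]
    rw [show mulN 0 (powN 0 w j) w = powN 0 w (j + 1) from rfl, ih]
    constructor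
    · rintro (h | ⟨i, h1, h2, h3⟩)
      · exact ⟨j, le_rfl, by omega, h⟩
      · exact ⟨i, by omega, by omega, h3⟩
    · rintro ⟨i, h1, h2, h3⟩
      rcases h1.eq_or_lt with rfl | h
      · exact Or.inl h3
      · exact Or.inr ⟨i, by omega, by omega, h3⟩

/-- the elements in the subgroup of index two -/
def hL : List ℕ := els.filter fun m => chiQ m == chiP m

/-- the involutions conjugate to the central one -/
def zcL : List ℕ := clsOf 0 384 ++ clsOf 0 360 ++ clsOf 0 7

/-- the other involutions in the subgroup of index two -/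
def tcL : List ℕ := clsOf 0 26

/-- the pairs whose product has the central involution as a power -/
def prsL : List (ℕ × ℕ) := (zcL.product tcL).filter fun p => scanN (mulN 0 p.1 p.2) 24 0

/-- the four-group -/
def vfL : List ℕ := [0, 360, 384, 744]

/-- the factor of order two -/
def wL : List ℕ := [0, 26]

/-- the elementary abelian group of order eight -/
def aeL : List ℕ := [0, 26, 338, 360, 384, 410, 722, 744]

theorem exponent_24 : ∀ m ∈ els, powN 0 m 24 = 0 := by decide +kernel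

theorem hL_length : hL.length = 384 ∧ hL.Nodup := by decide +kernel

theorem cls_facts : zcL.length = 27 ∧ zcL.Nodup ∧ tcL.Nodup ∧
    (∀ m ∈ zcL ++ tcL, m < 768 ∧ chiQ m = chiP m ∧ mulN 0 m m = 0 ∧ m ≠ 0) := by decide +kernel

theorem cls_split : ∀ m ∈ els, mulN 0 m m = 0 → m ≠ 0 → chiQ m = chiP m →
    m ∈ zcL ∨ m ∈ tcL := by decide +kernel

theorem tc_conj : ∀ m ∈ tcL, ∃ n ∈ els, chiQ n = chiP n ∧ cjN 0 n 26 = m := by decide +kernel

theorem prsL_facts : prsL.length = 384 ∧ prsL.Nodup := by decide +kernel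

theorem tc_cent : ∀ m ∈ tcL, (hL.filter fun n => mulN 0 n m == mulN 0 m n).length = 8 := by
  decide +kernel

theorem subs : IsSub 0 vfL ∧ IsSub 0 wL ∧ IsSub 0 aeL := by decide +kernel

theorem aeL_facts : (∀ a ∈ aeL, ∀ b ∈ aeL, mulN 0 a b = mulN 0 b a) ∧
    (∀ a ∈ aeL, mulN 0 a a = 0 ∧ chiQ a = chiP a) ∧
    (∀ a ∈ aeL, ∃ v ∈ vfL, ∃ w ∈ wL, mulN 0 v w = a) ∧
    (∀ v ∈ vfL, v ∈ aeL ∧ (v = 0 ∨ v ∈ zcL) ∧ (v ∈ wL → v = 0) ∧ mulN 0 v 26 ∈ tcL) ∧
    (∀ w ∈ wL, w ∈ aeL) ∧ (∀ a ∈ aeL, a ∈ vfL ∨ a ∈ tcL) := by decide +kernel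

end CfsgLib.L34Cent
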