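import Cfsg.Agent.Lib.L34Cent.Interface
import Cfsg.Agent.Lib.L34Cent.Four
import Cfsg.Agent.Lib.L34Cent.OrderTools
import Cfsg.Agent.Lib.U42.Count
import Cfsg.Agent.S0144

/-!
# The order of the group
-/

set_option autoImplicit false
set_option linter.unusedSectionVars false
set_option maxRecDepth 100000

namespace CfsgLib.L34Cent

open Subgroup

universe u

variable {G : Type u} [Group G] [Finite G] {z : G} {D : Cen 0 z} (S : Tower D)

namespace Tower

/-- the element of the subgroup of index two with a given value -/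
noncomputable def el (m : ℕ) : S.G1 :=
  haveI : Decidable (D.val m ∈ S.G1) := Classical.propDecidable _
  if h : D.val m ∈ S.G1 then ⟨D.val m, h⟩ else 1

theorem coe_el {m : ℕ} (hm : m < 768) (h : chiQ m = chiP m) : (S.el m : G) = D.val m := by
  rw [el, dif_pos ((S.mem1 m hm).2 h)]

theorem out_one : D.val 1 ∉ S.G1 := fun h => by
  have := (S.mem1 1 (by norm_num)).1 h
  revert this
  decide +kernel

theorem el_z : (S.el 384 : G) = z := by
  rw [S.coe_el (by norm_num) (by decide +kernel)]; exact D.val_z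

theorem val_of_comm {y : S.G1} (h : y * S.el 384 = S.el 384 * y) :
    ∃ m < 768, chiQ m = chiP m ∧ y = S.el m := by
  have h' : (y : G) * z = z * y := by
    have := congrArg Subtype.val h
    rwa [Subgroup.coe_mul, Subgroup.coe_mul, S.el_z] at this
  obtain ⟨m, hm, e⟩ := D.val_surj _ h'
  have hc := (S.mem1 m hm).1 (e ▸ y.2)
  exact ⟨m, hm, hc, Subtype.ext ((S.coe_el hm hc).trans e).symm⟩

theorem el_mul {m n : ℕ} (hm : m < 768) (hn : n < 768) (hcm : chiQ m = chiP m)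
    (hcn : chiQ n = chiP n) : S.el m * S.el n = S.el (mulN 0 m n) := by
  have h : D.val (mulN 0 m n) ∈ S.G1 := by
    rw [D.val_mul m n hm hn]
    exact mul_mem ((S.mem1 m hm).2 hcm) ((S.mem1 n hn).2 hcn)
  refine Subtype.ext ?_
  rw [Subgroup.coe_mul, S.coe_el hm hcm, S.coe_el hn hcn,
    S.coe_el (mulN_lt ..) ((S.mem1 _ (mulN_lt ..)).1 h), D.val_mul m n hm hn]

theorem el_inj {m n : ℕ} (hm : m < 768) (hn : n < 768) (hcm : chiQ m = chiP m)
    (hcn : chiQ n = chiP n) (h : S.el m = S.el n) : m = n := by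
  have := congrArg Subtype.val h
  rw [S.coe_el hm hcm, S.coe_el hn hcn] at this
  exact D.val_inj m n hm hn this

theorem el_zero : S.el 0 = 1 :=
  Subtype.ext (by rw [S.coe_el (by norm_num) (by decide +kernel), D.val_zero, Subgroup.coe_one])

theorem el_pow {m : ℕ} (hm : m < 768) (hc : chiQ m = chiP m) :
    ∀ i : ℕ, S.el m ^ i = S.el (powN 0 m i) ∧ chiQ (powN 0 m i) = chiP (powN 0 m i) := by
  intro i
  have hmem : D.val m ^ i ∈ S.G1 := pow_mem ((S.mem1 m hm).2 hc) i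
  rw [← D.val_pow hm] at hmem
  have hci := (S.mem1 _ (powN_lt ..)).1 hmem
  refine ⟨Subtype.ext ?_, hci⟩
  rw [SubmonoidClass.coe_pow, S.coe_el hm hc, S.coe_el (powN_lt ..) hci, D.val_pow hm]

theorem tc_prop {m : ℕ} (h : m ∈ tcL) : m < 768 ∧ chiQ m = chiP m ∧ mulN 0 m m = 0 ∧ m ≠ 0 :=
  cls_facts.2.2.2 m (List.mem_append_right _ h)

theorem zc_prop {m : ℕ} (h : m ∈ zcL) : m < 768 ∧ chiQ m = chiP m ∧ mulN 0 m m = 0 ∧ m ≠ 0 :=
  cls_facts.2.2.2 m (List.mem_append_left _ h)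

theorem t_prop : (26 : ℕ) ∈ tcL := by decide +kernel

theorem el_sq {m : ℕ} (hm : m < 768) (hc : chiQ m = chiP m) (h : mulN 0 m m = 0) :
    S.el m * S.el m = 1 := by
  rw [S.el_mul hm hm hc hc, h, S.el_zero]

theorem el_ord {m : ℕ} (hm : m < 768) (hc : chiQ m = chiP m) (h : mulN 0 m m = 0) (h0 : m ≠ 0) :
    orderOf (S.el m) = 2 := by
  refine orderOf_eq_prime (by rw [pow_two, S.el_sq hm hc h]) fun e => h0 ?_
  exact S.el_inj hm (by norm_num) hc (by decide +kernel) (e.trans S.el_zero.symm)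

/-- A conjugate of the central involution is already conjugate in the subgroup of index two. -/
theorem isConj_of_conj {y : S.G1} (h : IsConj z (y : G)) : IsConj (S.el 384) y := by
  obtain ⟨c, hc⟩ := isConj_iff.1 h
  by_cases hcm : c ∈ S.G1
  · exact isConj_iff.2 ⟨⟨c, hcm⟩, Subtype.ext (by
      rw [Subgroup.coe_mul, Subgroup.coe_mul, Subgroup.coe_inv, S.el_z]; exact hc)⟩
  · have hmem : c * D.val 1 ∈ S.G1 :=
      (Subgroup.mul_mem_iff_of_index_two S.index1).2 (iff_of_false hcm S.out_one)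
    refine isConj_iff.2 ⟨⟨c * D.val 1, hmem⟩, Subtype.ext ?_⟩
    rw [Subgroup.coe_mul, Subgroup.coe_mul, Subgroup.coe_inv, S.el_z]
    calc c * D.val 1 * z * (c * D.val 1)⁻¹ = c * (D.val 1 * z * (D.val 1)⁻¹) * c⁻¹ := by group
      _ = y := by rw [D.val_comm 1 (by norm_num), mul_inv_cancel_right]; exact hc

section

variable (hf : Fused D) (hout : ∀ m ∈ [24, 1, 26], ¬ IsConj z (D.val m))
include hf hout

theorem isConj_zc {m : ℕ} (h : m ∈ zcL) : IsConj (S.el 384) (S.el m) := by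
  obtain ⟨hm, hc, -, -⟩ := zc_prop h
  refine S.isConj_of_conj ?_
  rw [S.coe_el hm hc]
  have key : ∀ a, a ∈ [384, 360, 7] → m ∈ clsOf 0 a → IsConj (D.val a) (D.val m) := by
    intro a ha hma
    have facts : ∀ a ∈ ([384, 360, 7] : List ℕ), ∃ p ∈ clsL 0, p.1 = a ∧ p.2 = clsOf 0 a := by
      decide +kernel
    obtain ⟨p, hp, hpa, hpm⟩ := facts a ha
    exact hpa ▸ D.cls_conj hp (hpm ▸ hma)
  simp only [zcL, List.mem_append] at h
  rcases h with (h | h) | h
  · have h' := key 384 (by simp) h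
    rwa [show D.val 384 = z from D.val_z] at h'
  · exact hf.hu.trans (key 360 (by simp) h)
  · exact hf.h7.trans (key 7 (by simp) h)

theorem isConj_tc {m : ℕ} (h : m ∈ tcL) : IsConj (S.el 26) (S.el m) := by
  obtain ⟨n, hn, hcn, e⟩ := tc_conj m h
  obtain ⟨hm, hc, -, -⟩ := tc_prop h
  obtain ⟨h26, hc26, -, -⟩ := tc_prop t_prop
  refine isConj_iff.2 ⟨S.el n, Subtype.ext ?_⟩
  rw [Subgroup.coe_mul, Subgroup.coe_mul, Subgroup.coe_inv, S.coe_el (els_lt hn) hcn,
    S.coe_el h26 hc26, S.coe_el hm hc, ← D.val_cj (els_lt hn) h26, e]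

theorem not_conj : ¬ IsConj (S.el 384) (S.el 26) := by
  intro h
  obtain ⟨c, hc⟩ := isConj_iff.1 h
  refine hout 26 (by simp) (isConj_iff.2 ⟨c, ?_⟩)
  have := congrArg Subtype.val hc
  rwa [Subgroup.coe_mul, Subgroup.coe_mul, Subgroup.coe_inv, S.el_z,
    S.coe_el (by norm_num) (by decide +kernel)] at this

theorem invol_comm {y : S.G1} (h2 : y * y = 1) (h1 : y ≠ 1)
    (h : y * S.el 384 = S.el 384 * y) : ∃ m, (m ∈ zcL ∨ m ∈ tcL) ∧ y = S.el m := by
  obtain ⟨m, hm, hc, rfl⟩ := S.val_of_comm h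
  refine ⟨m, cls_split m (mem_els hm) ?_ (fun e => h1 (by rw [e, S.el_zero])) hc, rfl⟩
  rw [S.el_mul hm hm hc hc] at h2
  have hmul : D.val (mulN 0 m m) ∈ S.G1 := by
    rw [D.val_mul m m hm hm]; exact mul_mem ((S.mem1 m hm).2 hc) ((S.mem1 m hm).2 hc)
  exact S.el_inj (mulN_lt ..) (by norm_num) ((S.mem1 _ (mulN_lt ..)).1 hmul) (by decide +kernel)
    (h2.trans S.el_zero.symm)

theorem zc_of_conj {y : S.G1} (hy : IsConj (S.el 384) y) (h : y * S.el 384 = S.el 384 * y) :
    ∃ m ∈ zcL, y = S.el m := by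
  obtain ⟨hz', hzc', hzz, hz0⟩ := zc_prop (m := 384) (by decide +kernel)
  have hord : orderOf y = 2 := by
    obtain ⟨c, hc⟩ := isConj_iff.1 hy
    rw [← hc]
    exact ((MulAut.conj c).orderOf_eq (S.el 384)).trans (S.el_ord hz' hzc' hzz hz0)
  obtain ⟨m, hm | hm, rfl⟩ := S.invol_comm hf hout (by rw [← pow_two, ← hord, pow_orderOf_eq_one])
    (fun e => by rw [e, orderOf_one] at hord; norm_num at hord) h
  · exact ⟨m, hm, rfl⟩
  · exact absurd (hy.trans (S.isConj_tc hf hout hm).symm) (S.not_conj hf hout)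

theorem tc_of_conj {y : S.G1} (hy : IsConj (S.el 26) y) (h : y * S.el 384 = S.el 384 * y) :
    ∃ m ∈ tcL, y = S.el m := by
  obtain ⟨h26, hc26, htt, ht0⟩ := tc_prop t_prop
  have hord : orderOf y = 2 := by
    obtain ⟨c, hc⟩ := isConj_iff.1 hy
    rw [← hc]
    exact ((MulAut.conj c).orderOf_eq (S.el 26)).trans (S.el_ord h26 hc26 htt ht0)
  obtain ⟨m, hm | hm, rfl⟩ := S.invol_comm hf hout (by rw [← pow_two, ← hord, pow_orderOf_eq_one])
    (fun e => by rw [e, orderOf_one] at hord; norm_num at hord) h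
  · exact absurd ((S.isConj_zc hf hout hm).trans hy.symm) (S.not_conj hf hout)
  · exact ⟨m, hm, rfl⟩

theorem all_invol (hsylow : Odd (centralizer ({z} : Set G)).index) (v : S.G1) (hv : orderOf v = 2) :
    IsConj (S.el 384) v ∨ IsConj (S.el 26) v := by
  have hv2 : (v : G) * v = 1 := by
    have := congrArg Subtype.val (pow_orderOf_eq_one v)
    rwa [hv, SubmonoidClass.coe_pow, pow_two] at this
  obtain ⟨g, hg⟩ := conj_into_of_odd _ hsylow hv2
  obtain ⟨g, hgm, hg⟩ : ∃ g ∈ S.G1, g⁻¹ * (v : G) * g ∈ centralizer ({z} : Set G) := by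
    by_cases hgm : g ∈ S.G1
    · exact ⟨g, hgm, hg⟩
    · refine ⟨g * D.val 1,
        (Subgroup.mul_mem_iff_of_index_two S.index1).2 (iff_of_false hgm S.out_one), ?_⟩
      have h1 : D.val 1 ∈ centralizer ({z} : Set G) :=
        mem_centralizer_singleton_iff.2 (D.val_comm 1 (by norm_num))
      rw [show (g * D.val 1)⁻¹ * (v : G) * (g * D.val 1) =
        (D.val 1)⁻¹ * (g⁻¹ * (v : G) * g) * D.val 1 by group]
      exact mul_mem (mul_mem (inv_mem h1) hg) h1
  set c : S.G1 := ⟨g, hgm⟩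
  set y : S.G1 := c⁻¹ * v * c
  have hy : y * S.el 384 = S.el 384 * y := Subtype.ext (by
    rw [Subgroup.coe_mul, Subgroup.coe_mul _ (S.el 384), S.el_z]
    exact mem_centralizer_singleton_iff.1 hg)
  have hyv : IsConj y v := isConj_iff.2 ⟨c, by simp [y, mul_assoc]⟩
  have hy2 : orderOf y = 2 := by
    obtain ⟨d, hd⟩ := isConj_iff.1 hyv.symm
    rw [← hd]; exact ((MulAut.conj d).orderOf_eq v).trans hv
  obtain ⟨m, hm | hm, e⟩ := S.invol_comm hf hout (by rw [← pow_two, ← hy2, pow_orderOf_eq_one])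
    (fun e => by rw [e, orderOf_one] at hy2; norm_num at hy2) hy
  · exact Or.inl ((S.isConj_zc hf hout hm).trans (e ▸ hyv))
  · exact Or.inr ((S.isConj_tc hf hout hm).trans (e ▸ hyv))

theorem card_pair_z : Nat.card (U42.Pair (S.el 384) (S.el 26) (S.el 384)) = 384 := by
  classical
  refine Eq.trans ?_ prsL_facts.1
  rw [← List.toFinset_card_of_nodup prsL_facts.2, ← Nat.card_eq_finsetCard]
  have hmem : ∀ p : ℕ × ℕ, p ∈ prsL.toFinset ↔
      p.1 ∈ zcL ∧ p.2 ∈ tcL ∧ scanN (mulN 0 p.1 p.2) 24 0 = true := fun p => by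
    obtain ⟨a, b⟩ := p
    rw [List.mem_toFinset, prsL, List.mem_filter, List.pair_mem_product, and_assoc]
  symm
  have hto : ∀ p : {p // p ∈ prsL.toFinset}, IsConj (S.el 384) (S.el p.1.1) ∧
      IsConj (S.el 26) (S.el p.1.2) ∧ S.el p.1.1 * S.el 384 = S.el 384 * S.el p.1.1 ∧
      S.el p.1.2 * S.el 384 = S.el 384 * S.el p.1.2 ∧
      ∃ i : ℕ, (S.el p.1.1 * S.el p.1.2) ^ i = S.el 384 := by
    intro p
    obtain ⟨h1, h2, h3⟩ := (hmem p.1).1 p.2
    obtain ⟨ha, hca, -, -⟩ := zc_prop h1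
    obtain ⟨hb, hcb, -, -⟩ := tc_prop h2
    have hcomm : ∀ m, m < 768 → chiQ m = chiP m → S.el m * S.el 384 = S.el 384 * S.el m :=
      fun m hm hc => Subtype.ext (by
        rw [Subgroup.coe_mul, Subgroup.coe_mul, S.el_z, S.coe_el hm hc]; exact D.val_comm m hm)
    refine ⟨S.isConj_zc hf hout h1, S.isConj_tc hf hout h2, hcomm _ ha hca, hcomm _ hb hcb, ?_⟩
    obtain ⟨i, -, -, hi⟩ := (scanN_iff (mulN 0 p.1.1 p.1.2) 24 0).1 h3
    have hmul : D.val (mulN 0 p.1.1 p.1.2) ∈ S.G1 := by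
      rw [D.val_mul _ _ ha hb]; exact mul_mem ((S.mem1 _ ha).2 hca) ((S.mem1 _ hb).2 hcb)
    refine ⟨i, ?_⟩
    rw [S.el_mul ha hb hca hcb, (S.el_pow (mulN_lt ..) ((S.mem1 _ (mulN_lt ..)).1 hmul) i).1, hi]
    rfl
  refine Nat.card_eq_of_bijective
    (fun p => (⟨(S.el p.1.1, S.el p.1.2), hto p⟩ : U42.Pair (S.el 384) (S.el 26) (S.el 384))) ⟨?_, ?_⟩
  · intro p q h
    have h' := congrArg Subtype.val h
    simp only [Prod.mk.injEq] at h'
    obtain ⟨hp1, hp2, -⟩ := (hmem p.1).1 p.2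
    obtain ⟨hq1, hq2, -⟩ := (hmem q.1).1 q.2
    exact Subtype.ext (Prod.ext
      (S.el_inj (zc_prop hp1).1 (zc_prop hq1).1 (zc_prop hp1).2.1 (zc_prop hq1).2.1 h'.1)
      (S.el_inj (tc_prop hp2).1 (tc_prop hq2).1 (tc_prop hp2).2.1 (tc_prop hq2).2.1 h'.2))
  · rintro ⟨⟨x, y⟩, hx, hy, hxz, hyz, i, hi⟩
    obtain ⟨a, ha, rfl⟩ := S.zc_of_conj hf hout hx hxz
    obtain ⟨b, hb, rfl⟩ := S.tc_of_conj hf hout hy hyz
    obtain ⟨ha', hca, -, -⟩ := zc_prop ha
    obtain ⟨hb', hcb, -, -⟩ := tc_prop hb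
    refine ⟨⟨(a, b), (hmem _).2 ⟨ha, hb, ?_⟩⟩, rfl⟩
    have hmul : D.val (mulN 0 a b) ∈ S.G1 := by
      rw [D.val_mul _ _ ha' hb']; exact mul_mem ((S.mem1 _ ha').2 hca) ((S.mem1 _ hb').2 hcb)
    have hc := (S.mem1 _ (mulN_lt ..)).1 hmul
    set w := mulN 0 a b with hw
    rw [S.el_mul ha' hb' hca hcb] at hi
    have h24 : S.el w ^ 24 = 1 := by
      rw [(S.el_pow (mulN_lt ..) hc 24).1, exponent_24 w (mem_els (mulN_lt ..)), S.el_zero]
    rw [pow_eq_pow_mod i h24, (S.el_pow (mulN_lt ..) hc (i % 24)).1] at hi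
    refine (scanN_iff w 24 0).2 ⟨i % 24, Nat.zero_le _, by omega, ?_⟩
    exact S.el_inj (powN_lt ..) (by norm_num [zN]) (S.el_pow (mulN_lt ..) hc (i % 24)).2
      (by decide +kernel) hi

theorem card_cent_z : Nat.card (centralizer ({S.el 384} : Set S.G1)) = 384 := by
  have h := D.card_image (l := hL) (fun m hm => els_lt (List.mem_filter.1 hm).1) hL_length.2
  rw [hL_length.1] at h
  refine Eq.trans ?_ h
  refine Nat.card_congr (Equiv.ofBijective (fun y => ⟨((y : S.G1) : G), ?_⟩) ⟨?_, ?_⟩)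
  · obtain ⟨m, hm, hc, e⟩ := S.val_of_comm (mem_centralizer_singleton_iff.1 y.2)
    exact ⟨m, List.mem_filter.2 ⟨mem_els hm, by simpa using hc⟩, by rw [e, S.coe_el hm hc]⟩
  · exact fun a b e => Subtype.ext (Subtype.ext (congrArg Subtype.val e :))
  · rintro ⟨g, m, hm, rfl⟩
    obtain ⟨hm1, hm2⟩ := List.mem_filter.1 hm
    refine ⟨⟨S.el m, mem_centralizer_singleton_iff.2 (Subtype.ext ?_)⟩,
      Subtype.ext (S.coe_el (els_lt hm1) (by simpa using hm2))⟩
    rw [Subgroup.coe_mul, Subgroup.coe_mul, S.el_z, S.coe_el (els_lt hm1) (by simpa using hm2)]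
    exact D.val_comm m (els_lt hm1)

theorem twenty_seven_le : 27 ≤ (centralizer ({S.el 384} : Set S.G1)).index := by
  classical
  rw [← FgsB.card_isConj_eq_index, ← cls_facts.1, ← List.toFinset_card_of_nodup cls_facts.2.1,
    ← Nat.card_eq_finsetCard]
  refine Nat.card_le_card_of_injective
    (fun m => ⟨S.el m.1, S.isConj_zc hf hout (List.mem_toFinset.1 m.2)⟩) fun a b h => Subtype.ext ?_
  exact S.el_inj (zc_prop (List.mem_toFinset.1 a.2)).1 (zc_prop (List.mem_toFinset.1 b.2)).1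
    (zc_prop (List.mem_toFinset.1 a.2)).2.1 (zc_prop (List.mem_toFinset.1 b.2)).2.1
    (congrArg Subtype.val h :)

/-- the subgroup of the centraliser of `t` given by a list -/
def subC {l : List ℕ} (h : IsSub 0 l) : Subgroup (centralizer ({S.el 26} : Set S.G1)) :=
  (D.grp h).comap (S.G1.subtype.comp (centralizer ({S.el 26} : Set S.G1)).subtype)

theorem cent_t_data : ∃ cC a : ℕ, Nat.card (centralizer ({S.el 26} : Set S.G1)) = cC ∧
    Nat.card (U42.Pair (S.el 384) (S.el 26) (S.el 26)) = a ∧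
    ((cC = 8 ∧ a = 3) ∨ (cC = 24 ∧ a = 3) ∨ (cC = 120 ∧ a = 195)) := by
  classical
  obtain ⟨hcomm, hsq, hprod, hv, hw, hsplit⟩ := aeL_facts
  obtain ⟨hV, hW, hA⟩ := subs
  obtain ⟨h26, hc26, htt, ht0⟩ := tc_prop t_prop
  let V := S.subC hV
  let W := S.subC hW
  let A := S.subC hA
  have hlt : ∀ a ∈ aeL, a < 768 := fun a ha => (hA.2.2.1 a ha).1
  have h26A : 26 ∈ aeL := hw 26 (by decide +kernel)
  have hel : ∀ a ∈ aeL, S.el a ∈ centralizer ({S.el 26} : Set S.G1) := fun a ha => by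
    refine mem_centralizer_singleton_iff.2 ?_
    rw [S.el_mul (hlt a ha) h26 (hsq a ha).2 hc26, S.el_mul h26 (hlt a ha) hc26 (hsq a ha).2,
      hcomm a ha 26 h26A]
  have hmemV : ∀ x, x ∈ V ↔ ∃ m ∈ vfL, (x : S.G1) = S.el m := by
    refine fun x => ⟨fun ⟨m, hm, e⟩ => ⟨m, hm, Subtype.ext ?_⟩, fun ⟨m, hm, e⟩ => ⟨m, hm, ?_⟩⟩
    · rw [S.coe_el (hlt _ (hv m hm).1) (hsq _ (hv m hm).1).2]; exact e.symm
    · show D.val m = ((x : S.G1) : G)
      rw [e, S.coe_el (hlt _ (hv m hm).1) (hsq _ (hv m hm).1).2]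
  have hmemW : ∀ x, x ∈ W ↔ ∃ m ∈ wL, (x : S.G1) = S.el m := by
    refine fun x => ⟨fun ⟨m, hm, e⟩ => ⟨m, hm, Subtype.ext ?_⟩, fun ⟨m, hm, e⟩ => ⟨m, hm, ?_⟩⟩
    · rw [S.coe_el (hlt _ (hw m hm)) (hsq _ (hw m hm)).2]; exact e.symm
    · show D.val m = ((x : S.G1) : G)
      rw [e, S.coe_el (hlt _ (hw m hm)) (hsq _ (hw m hm)).2]
  have hmemA : ∀ x, x ∈ A ↔ ∃ m ∈ aeL, (x : S.G1) = S.el m := by
    refine fun x => ⟨fun ⟨m, hm, e⟩ => ⟨m, hm, Subtype.ext ?_⟩, fun ⟨m, hm, e⟩ => ⟨m, hm, ?_⟩⟩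
    · rw [S.coe_el (hlt _ hm) (hsq _ hm).2]; exact e.symm
    · show D.val m = ((x : S.G1) : G)
      rw [e, S.coe_el (hlt _ hm) (hsq _ hm).2]
  have hVWA : V ⊔ W = A := by
    refine le_antisymm (sup_le (fun x hx => ?_) fun x hx => ?_) fun x hx => ?_
    · obtain ⟨m, hm, e⟩ := (hmemV x).1 hx
      exact (hmemA x).2 ⟨m, (hv m hm).1, e⟩
    · obtain ⟨m, hm, e⟩ := (hmemW x).1 hx
      exact (hmemA x).2 ⟨m, hw m hm, e⟩
    · obtain ⟨m, hm, e⟩ := (hmemA x).1 hx
      obtain ⟨a, ha, b, hb, hab⟩ := hprod m hm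
      have h1 : (⟨S.el a, hel a (hv a ha).1⟩ : centralizer ({S.el 26} : Set S.G1)) ∈ V :=
        (hmemV _).2 ⟨a, ha, rfl⟩
      have h2 : (⟨S.el b, hel b (hw b hb)⟩ : centralizer ({S.el 26} : Set S.G1)) ∈ W :=
        (hmemW _).2 ⟨b, hb, rfl⟩
      have := mul_mem (mem_sup_left (T := W) h1) (mem_sup_right (S := V) h2)
      convert this using 1
      refine Subtype.ext ?_
      show (x : S.G1) = S.el a * S.el b
      rw [e, S.el_mul (hlt _ (hv a ha).1) (hlt _ (hw b hb)) (hsq _ (hv a ha).1).2 (hsq _ (hw b hb)).2,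
        hab]
  have hAsq : ∀ x ∈ A, x * x = 1 := fun x hx => by
    obtain ⟨m, hm, e⟩ := (hmemA x).1 hx
    refine Subtype.ext ?_
    rw [Subgroup.coe_mul, e, S.el_sq (hlt m hm) (hsq m hm).2 (hsq m hm).1, Subgroup.coe_one]
  have hAc : ∀ x ∈ A, ∀ y ∈ A, x * y = y * x := fun x hx y hy => by
    obtain ⟨m, hm, em⟩ := (hmemA x).1 hx
    obtain ⟨n, hn, en⟩ := (hmemA y).1 hy
    refine Subtype.ext ?_
    rw [Subgroup.coe_mul, Subgroup.coe_mul, em, en, S.el_mul (hlt m hm) (hlt n hn) (hsq m hm).2 (hsq n hn).2,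
      S.el_mul (hlt n hn) (hlt m hm) (hsq n hn).2 (hsq m hm).2, hcomm m hm n hn]
  have cardSub : ∀ {l : List ℕ} (h : IsSub 0 l), (∀ m ∈ l, m ∈ aeL) →
      Nat.card (S.subC h) = l.length := by
    intro l h hla
    rw [← D.card_image (fun m hm => hlt m (hla m hm)) h.1]
    refine Nat.card_congr (Equiv.ofBijective
      (fun x => ⟨(((x : centralizer ({S.el 26} : Set S.G1)) : S.G1) : G), x.2⟩) ⟨?_, ?_⟩)
    · exact fun a b e => Subtype.ext (Subtype.ext (Subtype.ext (congrArg Subtype.val e :)))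
    · rintro ⟨g, m, hm, rfl⟩
      refine ⟨⟨⟨S.el m, hel m (hla m hm)⟩, m, hm, ?_⟩,
        Subtype.ext (S.coe_el (hlt m (hla m hm)) (hsq m (hla m hm)).2)⟩
      show D.val m = (S.el m : G)
      rw [S.coe_el (hlt m (hla m hm)) (hsq m (hla m hm)).2]
  have hVcard : Nat.card V = 4 := by
    show Nat.card (S.subC hV) = 4
    rw [cardSub hV fun m hm => (hv m hm).1]; rfl
  have hAcard : Nat.card A = 8 := by
    show Nat.card (S.subC hA) = 8
    rw [cardSub hA fun m hm => hm]; rfl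
  have hVA : V ≤ A := hVWA ▸ le_sup_left
  have hVsq : ∀ x ∈ V, x * x = 1 := fun x hx => hAsq x (hVA hx)
  haveI : IsKleinFour V := ⟨hVcard, by
    haveI : Nontrivial V := by rw [← Finite.one_lt_card_iff_nontrivial, hVcard]; norm_num
    refine Monoid.exponent_eq_prime_iff Nat.prime_two |>.2 fun x hx => ?_
    exact orderOf_eq_prime (by rw [pow_two]; exact Subtype.ext (hVsq _ x.2)) hx⟩
  set T : centralizer ({S.el 26} : Set S.G1) := ⟨S.el 26, hel 26 h26A⟩ with hT
  have hWT : ∀ x, x ∈ W ↔ x = 1 ∨ x = T := fun x => by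
    rw [hmemW]
    refine ⟨fun ⟨m, hm, e⟩ => ?_, ?_⟩
    · rcases List.mem_pair.1 hm with rfl | rfl
      · exact Or.inl (Subtype.ext (e.trans S.el_zero))
      · exact Or.inr (Subtype.ext e)
    · rintro (rfl | rfl)
      · exact ⟨0, by decide +kernel, S.el_zero.symm⟩
      · exact ⟨26, by decide +kernel, rfl⟩
  have hTW : T ∈ W := (hWT T).2 (Or.inr rfl)
  have hWcen : W ≤ center _ := fun x hx => mem_center_iff.2 fun y => by
    rcases (hWT x).1 hx with rfl | rfl
    · simp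
    · exact Subtype.ext (mem_centralizer_singleton_iff.1 y.2)
  have hVW : V ⊓ W = ⊥ := by
    rw [eq_bot_iff]
    rintro x ⟨hxV, hxW⟩
    obtain ⟨m, hm, e⟩ := (hmemV x).1 hxV
    obtain ⟨n, hn, e'⟩ := (hmemW x).1 hxW
    obtain rfl := S.el_inj (hlt _ (hv m hm).1) (hlt _ (hw n hn)) (hsq _ (hv m hm).1).2
      (hsq _ (hw n hn)).2 (e.symm.trans e')
    exact mem_bot.2 (Subtype.ext (by rw [e, (hv m hm).2.2.1 hn, S.el_zero, Subgroup.coe_one]))
  have hVz : ∀ v ∈ V, v ≠ 1 → IsConj (S.el 384) (v : S.G1) ∧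
      IsConj (S.el 26) ((v : S.G1) * S.el 26) := fun v hvV hv1 => by
    obtain ⟨m, hm, e⟩ := (hmemV v).1 hvV
    obtain ⟨hma, hz, -, hm26⟩ := hv m hm
    rw [e]
    refine ⟨S.isConj_zc hf hout (hz.resolve_left fun h0 => hv1 (Subtype.ext (by
      rw [e, h0, S.el_zero, Subgroup.coe_one]))), ?_⟩
    rw [S.el_mul (hlt m hma) h26 (hsq m hma).2 hc26]
    exact S.isConj_tc hf hout hm26
  have hA8 : ∀ v ∈ V, v ≠ 1 → centralizer {v} = V ⊔ W := by
    intro v hvV hv1
    rw [hVWA]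
    refine (eq_of_le_of_card_ge (fun y hy => mem_centralizer_singleton_iff.2
      (hAc y hy v (hVA hvV))) ?_).symm
    obtain ⟨c, hc⟩ := isConj_iff.1 (hVz v hvV hv1).1
    have hconj : ∀ y : S.G1, y * (v : S.G1) = (v : S.G1) * y →
        (c⁻¹ * y * c) * S.el 384 = S.el 384 * (c⁻¹ * y * c) := fun y hy => by
      rw [show c⁻¹ * y * c * S.el 384 = c⁻¹ * (y * (c * S.el 384 * c⁻¹)) * c by group, hc, hy, ← hc]
      group
    obtain ⟨m, hm, em⟩ := S.tc_of_conj hf hout (y := c⁻¹ * S.el 26 * c)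
      (isConj_iff.2 ⟨c⁻¹, by rw [inv_inv]⟩)
      (hconj _ (mem_centralizer_singleton_iff.1 v.2).symm)
    obtain ⟨hm', hcm, -, -⟩ := tc_prop hm
    set L := hL.filter fun n => mulN 0 n m == mulN 0 m n
    have hLlt : ∀ n ∈ L, n < 768 ∧ chiQ n = chiP n := fun n hn => by
      obtain ⟨h1, h2⟩ := List.mem_filter.1 (List.mem_filter.1 hn).1
      exact ⟨els_lt h1, by simpa using h2⟩
    have hLcard := D.card_image (l := L) (fun n hn => (hLlt n hn).1) (hL_length.2.filter _)
    rw [show L.length = 8 from tc_cent m hm] at hLcard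
    rw [hAcard, ← hLcard]
    haveI : Finite {g : G // ∃ m ∈ L, D.val m = g} := inferInstance
    have hto : ∀ y : centralizer ({v} : Set (centralizer ({S.el 26} : Set S.G1))),
        ∃ n ∈ L, D.val n = ((c⁻¹ * ((y : centralizer ({S.el 26} : Set S.G1)) : S.G1) * c : S.G1) : G) := by
      intro y
      set y' : S.G1 := ((y : centralizer ({S.el 26} : Set S.G1)) : S.G1)
      obtain ⟨n, hn, hcn, en⟩ := S.val_of_comm
        (hconj y' (congrArg Subtype.val (mem_centralizer_singleton_iff.1 y.2)))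
      refine ⟨n, List.mem_filter.2 ⟨List.mem_filter.2 ⟨mem_els hn, by simpa using hcn⟩, ?_⟩,
        by rw [en, S.coe_el hn hcn]⟩
      rw [beq_iff_eq]
      have ht : y' * S.el 26 = S.el 26 * y' :=
        mem_centralizer_singleton_iff.1 (y : centralizer ({S.el 26} : Set S.G1)).2
      have h1 : S.el n * S.el m = S.el m * S.el n := by
        rw [← en, ← em,
          show c⁻¹ * y' * c * (c⁻¹ * S.el 26 * c) = c⁻¹ * (y' * S.el 26) * c by group, ht]
        group
      refine D.mul_val_eq hn hm' ?_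
      have := congrArg Subtype.val h1
      rwa [Subgroup.coe_mul, Subgroup.coe_mul, S.coe_el hn hcn, S.coe_el hm' hcm] at this
    refine Nat.card_le_card_of_injective (fun y => ⟨_, hto y⟩) fun a b h => ?_
    have h' : c⁻¹ * ((a : centralizer ({S.el 26} : Set S.G1)) : S.G1) * c =
        c⁻¹ * ((b : centralizer ({S.el 26} : Set S.G1)) : S.G1) * c :=
      Subtype.ext (congrArg Subtype.val h :)
    exact Subtype.ext (Subtype.ext (mul_left_cancel (mul_right_cancel h')))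
  have hconjV : ∀ v ∈ V, v ≠ 1 → ∀ g, g * v * g⁻¹ ∈ V ⊔ W → g * v * g⁻¹ ∈ V := by
    intro v hvV hv1 g hg
    rw [hVWA] at hg
    obtain ⟨m, hm, e⟩ := (hmemA _).1 hg
    rcases hsplit m hm with h | h
    · exact (hmemV _).2 ⟨m, h, e⟩
    · exfalso
      refine S.not_conj hf hout ((hVz v hvV hv1).1.trans ?_)
      refine (isConj_iff.2 ⟨(g : S.G1), ?_⟩).trans (S.isConj_tc hf hout h).symm
      rw [← e]; rfl
  have hnorm : ∀ g : centralizer ({S.el 26} : Set S.G1), (∀ v ∈ V, g * v * g⁻¹ ∈ V) →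
      ∀ x ∈ W, g * x = x * g := fun g _ x hx => mem_center_iff.1 (hWcen hx) g
  have hAel : Cfsg.IsElementaryAbelian 2 (V ⊔ W) := by
    rw [hVWA]
    exact ⟨⟨⟨fun x y => Subtype.ext (hAc _ x.2 _ y.2)⟩⟩, fun x hx => by rw [pow_two]; exact hAsq x hx⟩
  obtain ⟨K, hVK, hKW, hKsup, hKc⟩ : ∃ K : Subgroup (centralizer ({S.el 26} : Set S.G1)),
      V ≤ K ∧ K ⊓ W = ⊥ ∧ K ⊔ W = ⊤ ∧
      ((Nat.card K = 4) ∨ (Nat.card K = 12 ∧ V.Normal) ∨ (Nat.card K = 60 ∧ IsSimpleGroup K)) := by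
    rcases cent_split V W hVW hAel hA8 hconjV hnorm with h | ⟨-, K, -, h1, h2, h3, h4⟩
    · exact ⟨V, le_rfl, hVW, h, Or.inl hVcard⟩
    · exact ⟨K, h1, h2, h3, Or.inr h4⟩
  haveI hWn : W.Normal := ⟨fun x hx g => by
    rw [mem_center_iff.1 (hWcen hx) g, mul_inv_cancel_right]; exact hx⟩
  have hKdec : ∀ x : centralizer ({S.el 26} : Set S.G1), ∃ k : K,
      x = k ∨ x = k * T := fun x => by
    obtain ⟨k, hk, w, hw', e⟩ := mem_sup_of_normal_right.1 (hKsup.symm ▸ mem_top x : x ∈ K ⊔ W)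
    rcases (hWT w).1 hw' with rfl | rfl
    · exact ⟨⟨k, hk⟩, Or.inl (by rw [← e, mul_one])⟩
    · exact ⟨⟨k, hk⟩, Or.inr e.symm⟩
  have hT1 : T ≠ 1 := fun h => ht0 (S.el_inj h26 (by norm_num) hc26 (by decide +kernel)
    ((congrArg Subtype.val h).trans S.el_zero.symm))
  have hTK : T ∉ K := fun h => hT1 (mem_bot.1 (hKW ▸ ⟨h, hTW⟩ : T ∈ (⊥ : Subgroup _)))
  have hTT : T * T = 1 := hAsq T ((hmemA T).2 ⟨26, h26A, rfl⟩)
  have hTc : ∀ x, x * T = T * x := mem_center_iff.1 (hWcen hTW)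
  have hC2 : Nat.card (centralizer ({S.el 26} : Set S.G1)) = 2 * Nat.card K := by
    rw [show 2 * Nat.card K = Nat.card (K × Bool) by
      rw [Nat.card_prod]; simp [mul_comm]]
    symm
    refine Nat.card_eq_of_bijective
      (fun p : K × Bool => (p.1 : centralizer ({S.el 26} : Set S.G1)) * (if p.2 then T else 1)) ⟨?_, ?_⟩
    · rintro ⟨a, i⟩ ⟨b, j⟩ h
      cases i <;> cases j <;>
        simp only [Bool.false_eq_true, if_false, if_true, mul_one] at h
      · exact Prod.ext (Subtype.ext h) rfl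
      · exfalso
        apply hTK
        have := mul_mem (inv_mem b.2) a.2
        rwa [h, inv_mul_cancel_left] at this
      · exfalso
        apply hTK
        have := mul_mem (inv_mem a.2) b.2
        rwa [← h, inv_mul_cancel_left] at this
      · exact Prod.ext (Subtype.ext (mul_right_cancel h)) rfl
    · intro x
      obtain ⟨k, hk | hk⟩ := hKdec x
      · exact ⟨(k, false), by simpa using hk.symm⟩
      · exact ⟨(k, true), by simpa using hk.symm⟩
  -- involutions of the factor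
  have hVKcard : Nat.card (V.subgroupOf K) = 4 := by
    rw [Nat.card_congr (subgroupOfEquivOfLe hVK).toEquiv, hVcard]
  have hidx : Odd (V.subgroupOf K).index := by
    have h := (V.subgroupOf K).card_mul_index
    rw [hVKcard] at h
    rcases hKc with h' | ⟨h', -⟩ | ⟨h', -⟩ <;> rw [h'] at h
    · exact ⟨0, by omega⟩
    · exact ⟨1, by omega⟩
    · exact ⟨7, by omega⟩
  have hkinv : ∀ k : K, k * k = 1 → k ≠ 1 →
      IsConj (S.el 384) ((k : centralizer ({S.el 26} : Set S.G1)) : S.G1) ∧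
      IsConj (S.el 26) (((k : centralizer ({S.el 26} : Set S.G1)) * T :
        centralizer ({S.el 26} : Set S.G1)) : S.G1) := by
    intro k hk2 hk1
    obtain ⟨g, hg⟩ := conj_into_of_odd (V.subgroupOf K) hidx hk2
    rw [mem_subgroupOf] at hg
    have hne : (g⁻¹ * k * g : K) ≠ 1 := fun e => hk1 (by
      have := congrArg (fun x => g * x * g⁻¹) e
      simpa [mul_assoc] using this)
    obtain ⟨h1, h2⟩ := hVz _ hg fun e => hne (Subtype.ext e)
    refine ⟨h1.trans (isConj_iff.2 ⟨((g : centralizer ({S.el 26} : Set S.G1)) : S.G1), ?_⟩),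
      h2.trans (isConj_iff.2 ⟨((g : centralizer ({S.el 26} : Set S.G1)) : S.G1), ?_⟩)⟩
    · simp [mul_assoc]
    · have hTg := congrArg Subtype.val (hTc ((g : centralizer ({S.el 26} : Set S.G1))⁻¹))
      simp only [Subgroup.coe_mul, Subgroup.coe_inv, hT] at hTg ⊢
      simp only [mul_assoc]
      rw [← hTg]
      simp
  have hTcomm : ∀ x : centralizer ({S.el 26} : Set S.G1),
      (x : S.G1) * S.el 26 = S.el 26 * (x : S.G1) := fun x => mem_centralizer_singleton_iff.1 x.2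
  have hTpow : ∀ n : ℕ, T ^ n = if Odd n then T else 1 := fun n => by
    rcases Nat.even_or_odd n with ⟨m, rfl⟩ | ⟨m, rfl⟩
    · rw [if_neg (by simp), ← two_mul, pow_mul, pow_two, hTT, one_pow]
    · rw [if_pos (odd_two_mul_add_one m), pow_succ, pow_mul, pow_two, hTT, one_pow, one_mul]
  have hpow : ∀ x : K, (∃ i : ℕ, ((x : centralizer ({S.el 26} : Set S.G1)) * T) ^ i = T) ↔
      Odd (orderOf x) := by
    intro x
    constructor
    · rintro ⟨i, hi⟩
      rw [(show Commute (x : centralizer ({S.el 26} : Set S.G1)) T from hTc _).mul_pow, hTpow] at hi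
      by_cases ho : Odd i
      · rw [if_pos ho, mul_eq_right] at hi
        exact ho.of_dvd_nat (orderOf_dvd_of_pow_eq_one (Subtype.ext (by
          rw [SubmonoidClass.coe_pow, hi, Subgroup.coe_one])))
      · rw [if_neg ho, mul_one] at hi
        exact absurd (hi ▸ pow_mem x.2 i) hTK
    · intro ho
      refine ⟨orderOf x, ?_⟩
      rw [(show Commute (x : centralizer ({S.el 26} : Set S.G1)) T from hTc _).mul_pow, hTpow,
        if_pos ho, ← SubmonoidClass.coe_pow, pow_orderOf_eq_one, Subgroup.coe_one, one_mul]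
  have hpair : Nat.card (OddPair K) = Nat.card (U42.Pair (S.el 384) (S.el 26) (S.el 26)) := by
    have hto : ∀ p : OddPair K,
        IsConj (S.el 384) ((p.1.1 : centralizer ({S.el 26} : Set S.G1)) : S.G1) ∧
        IsConj (S.el 26) (((p.1.2 : centralizer ({S.el 26} : Set S.G1)) * T :
          centralizer ({S.el 26} : Set S.G1)) : S.G1) := by
      rintro ⟨⟨a, b⟩, h1, h2, h3, h4⟩
      refine ⟨(hkinv a h2 h1).1, ?_⟩
      by_cases hb : b = 1
      · show IsConj (S.el 26) ((((b : K) : centralizer ({S.el 26} : Set S.G1)) * T :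
          centralizer ({S.el 26} : Set S.G1)) : S.G1)
        rw [hb, Subgroup.coe_one, one_mul]
      · exact (hkinv b h3 hb).2
    refine Nat.card_eq_of_bijective (fun p : OddPair K =>
      (⟨(((p.1.1 : centralizer ({S.el 26} : Set S.G1)) : S.G1),
        (((p.1.2 : centralizer ({S.el 26} : Set S.G1)) * T : centralizer ({S.el 26} : Set S.G1)) : S.G1)),
        (hto p).1, (hto p).2, hTcomm (p.1.1 : centralizer ({S.el 26} : Set S.G1)),
        hTcomm ((p.1.2 : centralizer ({S.el 26} : Set S.G1)) * T), ?_⟩ : U42.Pair (S.el 384) (S.el 26) (S.el 26))) ⟨?_, ?_⟩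
    · obtain ⟨i, hi⟩ := (hpow (p.1.1 * p.1.2)).2 p.2.2.2.2
      refine ⟨i, ?_⟩
      have := congrArg Subtype.val hi
      rwa [Subgroup.coe_mul, mul_assoc, SubmonoidClass.coe_pow, Subgroup.coe_mul] at this
    · intro p q h
      have h' := congrArg Subtype.val h
      simp only [Prod.mk.injEq] at h'
      exact Subtype.ext (Prod.ext (Subtype.ext (Subtype.ext h'.1))
        (Subtype.ext (mul_right_cancel (Subtype.ext h'.2 :
          (p.1.2 : centralizer ({S.el 26} : Set S.G1)) * T = (q.1.2 : centralizer ({S.el 26} : Set S.G1)) * T))))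
    · rintro ⟨⟨x, y⟩, hx, hy, hxt, hyt, i, hi⟩
      set x' : centralizer ({S.el 26} : Set S.G1) := ⟨x, mem_centralizer_singleton_iff.2 hxt⟩ with hx'
      set y' : centralizer ({S.el 26} : Set S.G1) := ⟨y, mem_centralizer_singleton_iff.2 hyt⟩ with hy'
      have hz384 : mulN 0 384 384 = 0 ∧ (384 : ℕ) ≠ 0 := by decide +kernel
      have sq_of : ∀ {a w : S.G1}, a * a = 1 → IsConj a w → w * w = 1 := fun {a w} ha h => by
        obtain ⟨c, rfl⟩ := isConj_iff.1 h
        rw [conj_mul, ha, mul_one, mul_inv_cancel]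
      have hx2 : x' * x' = 1 :=
        Subtype.ext (sq_of (S.el_sq (by norm_num) (by decide +kernel) hz384.1) hx)
      have hy2 : y' * y' = 1 := Subtype.ext (sq_of (S.el_sq h26 hc26 htt) hy)
      have hx1 : x' ≠ 1 := fun e => hz384.2 (S.el_inj (by norm_num) (by norm_num) (by decide +kernel)
        (by decide +kernel) (by
          have e' : x = 1 := congrArg Subtype.val e
          rw [e'] at hx
          rw [isConj_one_left.1 hx, S.el_zero]))
      have hsqT : ∀ k : K, ((k : centralizer ({S.el 26} : Set S.G1)) * T) *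
          ((k : centralizer ({S.el 26} : Set S.G1)) * T) = ((k * k : K) : centralizer ({S.el 26} : Set S.G1)) := fun k => by
        rw [mul_assoc, ← mul_assoc T, ← hTc (k : centralizer ({S.el 26} : Set S.G1)),
          mul_assoc (k : centralizer ({S.el 26} : Set S.G1)) T, hTT, mul_one, Subgroup.coe_mul]
      obtain ⟨a, ha⟩ : ∃ a : K, x' = a := by
        obtain ⟨a, ha | ha⟩ := hKdec x'
        · exact ⟨a, ha⟩
        · exfalso
          refine S.not_conj hf hout (hx.trans ?_)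
          have ha2 : a * a = 1 := Subtype.ext ((hsqT a).symm.trans (ha ▸ hx2))
          have e : x = (((a : centralizer ({S.el 26} : Set S.G1)) * T :
              centralizer ({S.el 26} : Set S.G1)) : S.G1) := congrArg Subtype.val ha
          rw [e]
          by_cases ha1 : a = 1
          · rw [ha1, Subgroup.coe_one, one_mul]
          · exact ((hkinv a ha2 ha1).2).symm
      obtain ⟨b, hb⟩ : ∃ b : K, y' = b * T := by
        obtain ⟨b, hb | hb⟩ := hKdec y'
        · exfalso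
          have hb2 : b * b = 1 := Subtype.ext (by rw [Subgroup.coe_mul, ← hb, hy2, Subgroup.coe_one])
          by_cases hb1 : b = 1
          · rw [hb1, Subgroup.coe_one] at hb
            have : y = 1 := congrArg Subtype.val hb
            rw [this] at hy
            exact hT1 (Subtype.ext (isConj_one_left.1 hy))
          · refine S.not_conj hf hout ((hkinv b hb2 hb1).1.trans ?_)
            rw [← hb]
            exact hy.symm
        · exact ⟨b, hb⟩
      have hb2 : b * b = 1 := Subtype.ext ((hsqT b).symm.trans (hb ▸ hy2))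
      refine ⟨⟨(a, b), fun e => hx1 (by rw [ha, show a = 1 from e, Subgroup.coe_one]),
        Subtype.ext (by rw [Subgroup.coe_mul, ← ha, hx2, Subgroup.coe_one]), hb2, ?_⟩, ?_⟩
      · refine (hpow (a * b)).1 ⟨i, ?_⟩
        rw [Subgroup.coe_mul, mul_assoc, ← hb, ← ha]
        exact Subtype.ext hi
      · refine Subtype.ext (Prod.ext ?_ ?_)
        · exact (congrArg Subtype.val ha).symm
        · exact (congrArg Subtype.val hb).symm
  refine ⟨_, _, rfl, rfl, ?_⟩
  rw [hC2, ← hpair]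
  have hfour : (∀ x : K, x * x = 1 → x ∈ V.subgroupOf K) → Nat.card (OddPair K) = 3 := fun h =>
    card_oddPair_four (V.subgroupOf K) hVKcard (fun x hx => Subtype.ext (hVsq _ hx)) h
  rcases hKc with h' | ⟨h', hVn⟩ | ⟨h', hs⟩
  · refine Or.inl ⟨by omega, hfour fun x _ => ?_⟩
    have hKV : V = K := eq_of_le_of_card_ge hVK (by omega)
    rw [mem_subgroupOf]
    exact hKV.symm ▸ x.2
  · refine Or.inr (Or.inl ⟨by omega, hfour fun x hx => ?_⟩)
    obtain ⟨g, hg⟩ := conj_into_of_odd (V.subgroupOf K) hidx hx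
    haveI : (V.subgroupOf K).Normal := hVn.subgroupOf K
    have := Subgroup.Normal.conj_mem inferInstance _ hg g
    simpa [mul_assoc] using this
  · exact Or.inr (Or.inr ⟨by omega, card_oddPair_sixty h' hs⟩)

end

end Tower

/-- The order of the group. -/
theorem card_eq {G : Type u} [Group G] [Finite G] {z : G} (D : Cen 0 z) (S : Tower D) (hf : Fused D)
    (hout : ∀ m ∈ [24, 1, 26], ¬ IsConj z (D.val m))
    (hsylow : Odd (Subgroup.centralizer ({z} : Set G)).index) (hns : ¬ Group.IsSolvable G) :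
    Nat.card G = 241920 := by
  obtain ⟨h384, hc384, hzz, hz0⟩ := Tower.zc_prop (m := 384) (by decide +kernel)
  obtain ⟨h26, hc26, htt, ht0⟩ := Tower.tc_prop Tower.t_prop
  have hform := U42.order_formula (S.el_ord h384 hc384 hzz hz0) (S.el_ord h26 hc26 htt ht0)
    (S.not_conj hf hout) (S.all_invol hf hout hsylow)
  obtain ⟨cC, a, hcC, ha, hcases⟩ := S.cent_t_data hf hout
  rw [hcC, ha, S.card_pair_z hf hout, S.card_cent_z hf hout] at hform
  have hG := S.G1.card_mul_index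
  rw [S.index1] at hG
  have h27 := S.twenty_seven_le hf hout
  have hidx := (centralizer ({S.el 384} : Set S.G1)).card_mul_index
  rw [S.card_cent_z hf hout] at hidx
  rcases hcases with ⟨h1, h2⟩ | ⟨h1, h2⟩ | ⟨h1, h2⟩
  · exfalso; rw [h1, h2] at hform; omega
  · exfalso
    rw [h1, h2] at hform
    exact hns (Cfsg.Agent.S0144.result 2 3 8 4 Nat.prime_two Nat.prime_three (by norm_num; omega))
  · rw [h1, h2] at hform; omega

end CfsgLib.L34Cent
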