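import Cfsg.Agent.Lib.L34Cent.NormalForm

/-!
# The five pairs of involutions in a normal extraspecial subgroup of order 32
-/

set_option autoImplicit false
set_option linter.unusedSectionVars false
set_option maxRecDepth 100000

namespace CfsgLib.L34Cent

/-- An involution `z` and a self-centralising normal extraspecial subgroup of order `32` of its
centraliser, without an elementary abelian subgroup of order eight. -/
structure Hyp {G : Type*} [Group G] (z : G) where
  Q : Subgroup G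
  ne : z ≠ 1
  zz : z * z = 1
  card : Nat.card Q = 32
  cz : ∀ q ∈ Q, q * z = z * q
  zQ : z ∈ Q
  norm : ∀ h, h * z = z * h → ∀ q ∈ Q, h * q * h⁻¹ ∈ Q
  self : ∀ c, c * z = z * c → (∀ q ∈ Q, c * q = q * c) → c ∈ Q
  comm : ∀ a ∈ Q, ∀ b ∈ Q, a * b = b * a ∨ a * b = b * a * z
  pair : ∀ a ∈ Q, ∀ b ∈ Q, a * a = 1 → b * b = 1 → a ≠ 1 → a ≠ z → a * b = b * a →
    b = 1 ∨ b = z ∨ b = a ∨ b = a * z
  many : ∀ T : Finset G, T.card < 12 → ∃ x ∈ Q, x * x = 1 ∧ x ∉ T
  cent : Nat.card (Subgroup.centralizer ({z} : Set G)) = 768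

/-- representatives of the five pairs -/
def g5 : Fin 5 → ℕ := ![1, 2, 4, 8, 15]

theorem g5_lt : ∀ i, g5 i < 32 := by decide

theorem invol_table : ∀ q ∈ List.range 32, qMul q q = 0 → q = 0 ∨ q = 16 ∨
    ∃ j : Fin 5, q = g5 j ∨ q = qMul (g5 j) 16 := by decide +kernel

theorem pair_unique : ∀ i j : Fin 5, (g5 i = g5 j ∨ g5 i = qMul (g5 j) 16 ∨
    qMul (g5 i) 16 = g5 j ∨ qMul (g5 i) 16 = qMul (g5 j) 16) → i = j := by
  decide +kernel

theorem g5_invol : ∀ i : Fin 5, qMul (g5 i) (g5 i) = 0 ∧ g5 i ≠ 0 ∧ g5 i ≠ 16 := by decide +kernel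

theorem g5_anti : ∀ i j : Fin 5, i ≠ j →
    qMul (g5 i) (g5 j) = qMul (g5 j) (qMul (g5 i) 16) := by decide +kernel

theorem central_table : ∀ q ∈ List.range 32, qMul q 1 = qMul 1 q → qMul q 2 = qMul 2 q →
    qMul q 4 = qMul 4 q → qMul q 8 = qMul 8 q → q = 0 ∨ q = 16 := by decide +kernel

theorem sign_table : ∀ b0 b1 b2 b3 : Bool, ∃ q ∈ List.range 32,
    qMul q 1 = qMul (if b0 then 17 else 1) q ∧ qMul q 2 = qMul (if b1 then 18 else 2) q ∧
    qMul q 4 = qMul (if b2 then 20 else 4) q ∧ qMul q 8 = qMul (if b3 then 24 else 8) q := by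
  decide +kernel

namespace Hyp

variable {G : Type*} [Group G] [Finite G] {z : G} (H : Hyp z)
include H

theorem fourRel {u : Fin 4 → G} (hu : ∀ i, u i ∈ H.Q) (hsq : ∀ i, u i * u i = 1)
    (hne : ∀ i, u i ≠ 1 ∧ u i ≠ z) (hp : ∀ i j, i < j → u j ≠ u i ∧ u j ≠ u i * z) :
    FourRel u z := by
  refine ⟨H.ne, H.zz, hsq, fun i => (H.cz _ (hu i)).symm, fun i j hij => ?_⟩
  rcases H.comm _ (hu i) _ (hu j) with h | h
  · exfalso
    rcases lt_or_gt_of_ne hij with hlt | hlt
    · rcases H.pair _ (hu i) _ (hu j) (hsq i) (hsq j) (hne i).1 (hne i).2 h with e | e | e | e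
      exacts [(hne j).1 e, (hne j).2 e, (hp i j hlt).1 e, (hp i j hlt).2 e]
    · rcases H.pair _ (hu j) _ (hu i) (hsq j) (hsq i) (hne j).1 (hne j).2 h.symm with e | e | e | e
      exacts [(hne i).1 e, (hne i).2 e, (hp j i hlt).1 e, (hp j i hlt).2 e]
  · rw [h, mul_assoc]

theorem exists_frame : ∃ u : Fin 4 → G, FourRel u z ∧ ∀ i, u i ∈ H.Q := by
  classical
  have hc : ∀ (T : Finset G) (x : G), (insert x (insert (x * z) T)).card ≤ T.card + 2 := fun T x => by
    have := Finset.card_insert_le x (insert (x * z) T)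
    have := Finset.card_insert_le (x * z) T
    omega
  set T0 : Finset G := {1, z}
  have h0 : T0.card ≤ 2 := Finset.card_le_two
  obtain ⟨a, haQ, ha2, ha⟩ := H.many T0 (by omega)
  set T1 := insert a (insert (a * z) T0)
  have h1 : T1.card ≤ 4 := (hc _ _).trans (by omega)
  obtain ⟨b, hbQ, hb2, hb⟩ := H.many T1 (by omega)
  set T2 := insert b (insert (b * z) T1)
  have h2 : T2.card ≤ 6 := (hc _ _).trans (by omega)
  obtain ⟨c, hcQ, hc2, hc'⟩ := H.many T2 (by omega)
  set T3 := insert c (insert (c * z) T2)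
  have h3 : T3.card ≤ 8 := (hc _ _).trans (by omega)
  obtain ⟨d, hdQ, hd2, hd⟩ := H.many T3 (by omega)
  simp only [T3, T2, T1, T0, Finset.mem_insert, Finset.mem_singleton, not_or] at ha hb hc' hd
  have hu : ∀ i, ![a, b, c, d] i ∈ H.Q := fun i => by fin_cases i <;> assumption
  refine ⟨![a, b, c, d], H.fourRel hu (fun i => by fin_cases i <;> assumption) (fun i => ?_)
    (fun i j h => ?_), hu⟩
  · fin_cases i <;> simp <;> tauto
  · fin_cases i <;> fin_cases j <;> simp at h ⊢ <;> tauto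

section

variable {u : Fin 4 → G} (F : FourRel u z) (hu : ∀ i, u i ∈ H.Q)
include F hu

theorem qv_surj {x : G} (hx : x ∈ H.Q) : ∃ q < 32, qv u z q = x := by
  let f : Fin 32 → H.Q := fun q => ⟨qv u z q, qv_mem H.Q hu H.zQ q⟩
  have hf : Function.Bijective f := (Nat.bijective_iff_injective_and_card f).2
    ⟨fun a b h => Fin.ext (qv_inj F a.2 b.2 (congrArg Subtype.val h)), by
      rw [H.card, Nat.card_eq_fintype_card, Fintype.card_fin]⟩
  obtain ⟨q, hq⟩ := hf.2 ⟨x, hx⟩
  exact ⟨q, q.2, congrArg Subtype.val hq⟩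

/-- An element of the centraliser which centralises the generators is central. -/
theorem cen_eq {c : G} (hc : c * z = z * c) (h : ∀ i, c * u i = u i * c) : c = 1 ∨ c = z := by
  have hall : ∀ q ∈ H.Q, c * q = q * c := fun x hx => by
    obtain ⟨q, -, rfl⟩ := H.qv_surj F hu hx
    have h' := qv_semiconj F (t := c) (m := fun i => 2 ^ i.val) (fun i => by fin_cases i <;> norm_num)
      hc (fun i => by rw [qv_gen]; exact h i) q
    have himg : qv u z (img (fun i => 2 ^ i.val) q) = qv u z q := by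
      have := qv_semiconj F (t := 1) (m := fun i => 2 ^ i.val)
        (fun i => by fin_cases i <;> norm_num) (by simp) (fun i => by rw [qv_gen]; simp) q
      simpa using this.symm
    rwa [himg] at h'
  have hcQ := H.self c hc hall
  obtain ⟨q, hq, hqc⟩ := H.qv_surj F hu hcQ
  have key : ∀ i : Fin 4, qMul q (2 ^ i.val) = qMul (2 ^ i.val) q := fun i => by
    have hi : 2 ^ i.val < 32 := by fin_cases i <;> norm_num
    refine qv_inj F (qMul_lt _ _) (qMul_lt _ _) ?_
    rw [qv_mul F hq hi, qv_mul F hi hq, qv_gen, hqc]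
    exact h i
  rcases central_table q (List.mem_range.2 hq) (key 0) (key 1) (key 2) (key 3) with rfl | rfl
  · exact Or.inl (by rw [← hqc, qv_zero])
  · exact Or.inr (by rw [← hqc, qv_z])

theorem conj_pair {h : G} (hh : h * z = z * h) (i : Fin 5) : ∃! j : Fin 5,
    h * qv u z (g5 i) * h⁻¹ = qv u z (g5 j) ∨ h * qv u z (g5 i) * h⁻¹ = qv u z (g5 j) * z := by
  obtain ⟨q, hq, hqx⟩ := H.qv_surj F hu (H.norm h hh _ (qv_mem H.Q hu H.zQ (g5 i)))
  obtain ⟨h1, h2, h3⟩ := g5_invol i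
  have hqq : qMul q q = 0 := qv_inj F (qMul_lt _ _) (by norm_num) (by
    rw [qv_mul F hq hq, qv_zero, hqx, conj_mul, ← qv_mul F (g5_lt i) (g5_lt i), h1, qv_zero,
      mul_one, mul_inv_cancel])
  have hz16 : ∀ j : Fin 5, qv u z (g5 j) * z = qv u z (qMul (g5 j) 16) := fun j => by
    rw [qv_mul F (g5_lt j) (by norm_num), qv_z]
  rcases invol_table q (List.mem_range.2 hq) hqq with rfl | rfl | ⟨j, hj⟩
  · exfalso
    rw [qv_zero, eq_comm, conj_eq_one_iff, ← qv_zero u z] at hqx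
    exact h2 (qv_inj F (g5_lt i) (by norm_num) hqx)
  · exfalso
    rw [qv_z, eq_comm, mul_inv_eq_iff_eq_mul, ← hh, mul_left_cancel_iff] at hqx
    exact h3 (qv_inj F (g5_lt i) (by norm_num) (hqx.trans (qv_z u z).symm))
  · refine ⟨j, ?_, fun j' hj' => ?_⟩
    · simp only [← hqx, hz16]
      rcases hj with rfl | rfl
      · exact Or.inl rfl
      · exact Or.inr rfl
    · simp only [← hqx, hz16] at hj'
      have e : q = g5 j' ∨ q = qMul (g5 j') 16 := hj'.imp (qv_inj F hq (g5_lt _))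
        (qv_inj F hq (qMul_lt _ _))
      refine (pair_unique j j' ?_).symm
      rcases hj with rfl | rfl
      · exact e.elim Or.inl fun e => Or.inr (Or.inl e)
      · exact Or.inr (Or.inr e)

/-- the image of a pair -/
noncomputable def pimg {h : G} (hh : h * z = z * h) (i : Fin 5) : Fin 5 :=
  (H.conj_pair F hu hh i).choose

theorem pimg_spec {h : G} (hh : h * z = z * h) (i : Fin 5) :
    h * qv u z (g5 i) * h⁻¹ = qv u z (g5 (H.pimg F hu hh i)) ∨
      h * qv u z (g5 i) * h⁻¹ = qv u z (g5 (H.pimg F hu hh i)) * z :=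
  (H.conj_pair F hu hh i).choose_spec.1

theorem pimg_eq {h : G} (hh : h * z = z * h) {i j : Fin 5}
    (e : h * qv u z (g5 i) * h⁻¹ = qv u z (g5 j) ∨ h * qv u z (g5 i) * h⁻¹ = qv u z (g5 j) * z) :
    H.pimg F hu hh i = j :=
  ((H.conj_pair F hu hh i).choose_spec.2 j e).symm

end

end Hyp

end CfsgLib.L34Cent
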