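import Cfsg.Agent.Lib.L34Cent.Interface
import Cfsg.Agent.Lib.L34Cent.Four
import Cfsg.Agent.Lib.Chars.Burnside
import Mathlib

/-!
# The class of `7` consists of conjugates of the central involution

Otherwise the conjugates of `z` fall into four-groups, and counting the pairs (conjugate of `z`,
conjugate of `val 7`) by the involution in the dihedral group they generate bounds the class of `z`.
-/

set_option autoImplicit false
set_option linter.unusedSectionVars false
set_option linter.style.haveILetI false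
set_option maxRecDepth 100000
set_option maxHeartbeats 2000000

namespace CfsgLib.L34Cent

universe u

open Subgroup
open scoped Pointwise

/-- the four-group -/
def vL : List Nat := [0, 360, 384, 744]

/-- the centraliser of `7` in the second subgroup of the tower -/
def eL : List Nat :=
  [0, 7, 16, 23, 360, 367, 376, 383, 384, 391, 400, 407, 744, 751, 760, 767]

/-- the class of `7` -/
def sL : List Nat := [7, 16, 23, 79, 136, 167, 239, 256, 295, 367, 376, 383, 391, 400, 407, 463,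
  520, 551, 623, 640, 679, 751, 760, 767]

theorem vL_sub : IsSub 0 vL := by decide +kernel
theorem eL_sub : IsSub 0 eL := by decide +kernel
theorem tL_sub : IsSub 0 tL := by decide +kernel

theorem eL_facts : vL ⊆ eL ∧ 7 ∈ eL ∧ (∀ a ∈ eL, chiQ a = 0 ∧ chiP a = 0 ∧ mulN 0 a a = 0 ∧
    ∀ b ∈ eL, mulN 0 a b = mulN 0 b a) ∧
    (∀ m ∈ els, chiQ m = 0 → chiP m = 0 → mulN 0 m 7 = mulN 0 7 m → m ∈ eL) := by decide +kernel

theorem g2_facts : ∀ m ∈ els, chiQ m = 0 → chiP m = 0 →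
    (∀ v ∈ vL, mulN 0 m v = mulN 0 v m) ∧
    (mulN 0 m m = 0 → m ≠ 0 → m ∈ [360, 384, 744] ∨ m ∈ sL) := by decide +kernel

theorem sL_facts : ∀ m ∈ sL, m < 768 ∧ chiQ m = 0 ∧ chiP m = 0 ∧ m ∈ tL ∧ mulN 0 m m = 0 ∧ m ≠ 0 ∧
    (∀ v ∈ vL, mulN 0 v m ∈ sL) ∧ (tL.filter fun t => mulN 0 m t == mulN 0 t m).length = 16 := by
  decide +kernel

theorem class_cases : ∀ p ∈ clsL 0, ∀ m ∈ p.2,
    m ∈ [360, 384, 744] ∨ (p.1 = 7 ∧ m ∈ sL) ∨ p.1 ∈ [24, 1, 26] := by decide +kernel

theorem sL_class : (360, [360, 744]) ∈ clsL 0 ∧ (7, sL) ∈ clsL 0 ∧ sL.Nodup ∧ sL.length = 24 := by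
  decide +kernel

theorem q_cent : ∀ m ∈ els, mulN 0 m 24 = mulN 0 24 m → mulN 0 m 48 = mulN 0 48 m →
    mulN 0 m 96 = mulN 0 96 m → mulN 0 m 192 = mulN 0 192 m → m = 0 ∨ m = 384 := by decide +kernel

theorem tL_facts : ∀ t ∈ tL, chiQ t = 0 ∧ chiP t = 0 ∧ mulN 0 t t ∈ vL ∧
    (mulN 0 t t = 0 → t ∈ vL ∨ t ∈ sL) := by decide +kernel

theorem tL_two : tL.length = 64 := by decide +kernel

/-- the orbit of `7` under the second subgroup of the tower -/
def oL : List Nat := [7, 16, 23, 367, 376, 383, 391, 400, 407, 751, 760, 767]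

theorem oL_facts : (∀ m ∈ oL, m ∈ sL ∧ ∃ n ∈ els, chiQ n = 0 ∧ chiP n = 0 ∧ cjN 0 n m = 7) ∧
    (∀ a ∈ sL, a ∉ oL → ∀ b ∈ sL, b ∉ oL → ∃ n ∈ els, chiQ n = 0 ∧ chiP n = 0 ∧ cjN 0 n a = b) ∧
    7 ∈ oL := by decide +kernel

theorem els_pairs : ∀ m ∈ els, (chiQ m, chiP m) ∈ [(0, 0), (1, 0), (0, 1), (1, 1)] := by
  decide +kernel

theorem chi_reps : (chiQ 0, chiP 0) = (0, 0) ∧ (chiQ 24, chiP 24) = (1, 0) ∧
    (chiQ 1, chiP 1) = (0, 1) ∧ (chiQ 25, chiP 25) = (1, 1) := by decide +kernel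

/-- An element is conjugate to another one if their quotient has odd order and both are involutions. -/
theorem isConj_of_odd {G : Type u} [Group G] {p r : G} (hp : p * p = 1) (hr : r * r = 1)
    (h : Odd (orderOf (p * r))) : IsConj p r := by
  set x := p * r with hx
  obtain ⟨j, hj⟩ := h
  have hxy : p * x * p = x⁻¹ := by
    rw [hx, mul_inv_rev, inv_eq_of_mul_eq_one_right hp, inv_eq_of_mul_eq_one_right hr,
      ← mul_assoc, hp, one_mul]
  have hpow : ∀ i : ℕ, p * x ^ i * p = (x ^ i)⁻¹ := by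
    intro i
    induction i with
    | zero => simp [hp]
    | succ i ih =>
      calc p * x ^ (i + 1) * p = (p * x ^ i * p) * (p * x * p) := by
            rw [pow_succ]
            calc p * (x ^ i * x) * p = p * x ^ i * (p * p) * x * p := by rw [hp]; group
              _ = (p * x ^ i * p) * (p * x * p) := by group
        _ = (x ^ (i + 1))⁻¹ := by rw [ih, hxy, ← mul_inv_rev, ← pow_succ']
  refine isConj_iff.2 ⟨(x ^ (j + 1))⁻¹, ?_⟩
  have h1 : (x ^ (j + 1))⁻¹ * p = p * x ^ (j + 1) := by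
    rw [← hpow, mul_assoc, hp, mul_one]
  rw [inv_inv, h1, mul_assoc, ← pow_add]
  have h2 : x ^ (j + 1 + (j + 1)) = x := by
    rw [show j + 1 + (j + 1) = orderOf x + 1 by omega, pow_succ, pow_orderOf_eq_one, one_mul]
  rw [h2, hx, ← mul_assoc, hp, one_mul]

/-- A cyclic group has at most one involution. -/
theorem pow_half_eq {G : Type u} [Group G] {x i : G} {j : ℕ} (h : x ^ j = i) (hi : i * i = 1)
    (hi1 : i ≠ 1) : 2 ∣ orderOf x ∧ x ^ (orderOf x / 2) = i := by
  have h2 : orderOf x ∣ 2 * j := orderOf_dvd_of_pow_eq_one (by rw [two_mul, pow_add, h, hi])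
  have hn : ¬ orderOf x ∣ j := fun hd => hi1 (h ▸ orderOf_dvd_iff_pow_eq_one.1 hd)
  have heven : 2 ∣ orderOf x := by
    by_contra hodd
    exact hn ((Nat.Coprime.symm ((Nat.prime_two.coprime_iff_not_dvd).2 hodd)).dvd_of_dvd_mul_left h2)
  obtain ⟨c, hc⟩ := heven
  refine ⟨⟨c, hc⟩, ?_⟩
  rw [hc, Nat.mul_div_cancel_left _ (by norm_num)]
  rw [hc] at h2 hn
  obtain ⟨d, rfl⟩ := Nat.dvd_of_mul_dvd_mul_left (by norm_num) h2
  obtain ⟨e, rfl⟩ : Odd d := Nat.not_even_iff_odd.1 fun ⟨e, he⟩ => hn ⟨e, by rw [he]; ring⟩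
  rw [← h, show c * (2 * e + 1) = 2 * c * e + c by ring, pow_add, pow_mul, ← hc,
    pow_orderOf_eq_one, one_pow, one_mul]

/-- The number of conjugates is the index of the centraliser. -/
theorem card_conj_eq_index {G : Type u} [Group G] [Finite G] (a : G) :
    Nat.card {g : G // IsConj a g} = (centralizer ({a} : Set G)).index := by
  rw [Subgroup.index]
  refine (Nat.card_congr ?_).symm
  refine Equiv.ofBijective (Quotient.lift (fun g => ⟨g * a * g⁻¹, isConj_iff.2 ⟨g, rfl⟩⟩) ?_) ⟨?_, ?_⟩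
  · intro g h hgh
    have hgh' := mem_centralizer_singleton_iff.1 (QuotientGroup.leftRel_apply.1 hgh)
    refine Subtype.ext ?_
    show g * a * g⁻¹ = h * a * h⁻¹
    have e : h * a * h⁻¹ = g * (g⁻¹ * h * a) * h⁻¹ := by group
    rw [e, hgh']; group
  · rintro ⟨g⟩ ⟨h⟩ e
    refine Quotient.sound ?_
    show QuotientGroup.leftRel _ g h
    rw [QuotientGroup.leftRel_apply, mem_centralizer_singleton_iff]
    have e' : g * a * g⁻¹ = h * a * h⁻¹ := congrArg Subtype.val e
    calc g⁻¹ * h * a = g⁻¹ * (h * a * h⁻¹) * h := by group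
      _ = a * (g⁻¹ * h) := by rw [← e']; group
  · rintro ⟨x, hx⟩
    obtain ⟨g, rfl⟩ := isConj_iff.1 hx
    exact ⟨Quotient.mk _ g, rfl⟩

/-- A set on which all orbits have the same size has that size dividing its order. -/
theorem dvd_card_of_stabilizer {T α : Type u} [Group T] [Finite T] [MulAction T α] [Finite α]
    {k m : ℕ} (hkm : m * k = Nat.card T) (hk : 0 < k)
    (h : ∀ p : α, Nat.card (MulAction.stabilizer T p) = k) : m ∣ Nat.card α := by
  classical
  haveI := Fintype.ofFinite (MulAction.orbitRel.Quotient T α)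
  haveI := Fintype.ofFinite T
  haveI := Fintype.ofFinite α
  rw [Nat.card_congr (MulAction.selfEquivSigmaOrbits T α), Nat.card_sigma]
  refine Finset.dvd_sum fun q _ => ?_
  have h1 := (MulAction.stabilizer T q.out).card_mul_index
  rw [h, MulAction.index_stabilizer, ← hkm, mul_comm m, Set.ncard_def] at h1
  rw [Nat.eq_of_mul_eq_mul_left hk h1.symm]
  exact dvd_of_eq rfl

section Ctx

variable {G : Type u} [Group G] [Finite G] {z : G} (D : Cen 0 z) (S : Tower D)

/-- The hypotheses, and the negation of the conclusion. -/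
structure Bad : Prop where
  hu : IsConj z (D.val uN)
  hout : ∀ m ∈ [24, 1, 26], ¬ IsConj z (D.val m)
  h7 : ¬ IsConj z (D.val 7)

namespace Bad

variable {D} (B : Bad D)
include B

theorem isConj_V {m : ℕ} (hm : m ∈ [360, 384, 744]) : IsConj z (D.val m) := by
  simp only [List.mem_cons, List.not_mem_nil, or_false] at hm
  rcases hm with rfl | rfl | rfl
  · exact B.hu
  · exact D.val_z.symm ▸ IsConj.refl z
  · exact B.hu.trans (D.cls_conj sL_class.1 (by simp))

/-- The conjugates of `z` commuting with `z`. -/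
theorem conj_cent {g : G} (hg : IsConj z g) (hc : g * z = z * g) :
    ∃ m ∈ [360, 384, 744], D.val m = g := by
  have h2 : orderOf g = 2 := by
    obtain ⟨c, rfl⟩ := isConj_iff.1 hg
    rw [← MulAut.conj_apply c, MulEquiv.orderOf_eq]
    exact D.ord
  obtain ⟨m, -, rfl, p, hp, hmp⟩ := D.invol_val h2 hc
  rcases class_cases p hp m hmp with h | ⟨h, -⟩ | h
  · exact ⟨m, h, rfl⟩
  · exact absurd (hg.trans (h ▸ (D.cls_conj hp hmp).symm)) B.h7
  · exact absurd (hg.trans (D.cls_conj hp hmp).symm) (B.hout _ h)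

theorem invol_sq {g : G} (hg : IsConj z g) : g * g = 1 ∧ g ≠ 1 := by
  obtain ⟨c, rfl⟩ := isConj_iff.1 hg
  refine ⟨?_, fun e => ?_⟩
  · calc c * z * c⁻¹ * (c * z * c⁻¹) = c * (z * z) * c⁻¹ := by group
      _ = 1 := by rw [D.zz]; group
  · rw [conj_eq_one_iff] at e
    have := D.ord
    rw [e, orderOf_one] at this
    norm_num at this

theorem w_sq {g : G} (hg : IsConj (D.val 7) g) : g * g = 1 ∧ g ≠ 1 ∧ ¬ IsConj z g := by
  refine ⟨?_, fun e => ?_, fun h => B.h7 (h.trans hg.symm)⟩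
  · obtain ⟨c, rfl⟩ := isConj_iff.1 hg
    have : D.val 7 * D.val 7 = 1 := by
      rw [← D.val_mul 7 7 (by norm_num) (by norm_num), (sL_facts 7 (by decide)).2.2.2.2.1, D.val_zero]
    calc c * D.val 7 * c⁻¹ * (c * D.val 7 * c⁻¹) = c * (D.val 7 * D.val 7) * c⁻¹ := by group
      _ = 1 := by rw [this]; group
  · obtain ⟨c, rfl⟩ := isConj_iff.1 hg
    rw [conj_eq_one_iff] at e
    exact absurd (D.val_eq_one (by norm_num) e) (by norm_num)

include S

theorem mem2_z {g : G} (hg : IsConj z g) : g ∈ S.G2 := by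
  obtain ⟨c, rfl⟩ := isConj_iff.1 hg
  have h := (S.mem2 zN (by norm_num [zN])).2 (by decide)
  rw [D.val_z] at h
  exact S.normal2.conj_mem z h c

theorem mem2_w {g : G} (hg : IsConj (D.val 7) g) : g ∈ S.G2 := by
  obtain ⟨c, rfl⟩ := isConj_iff.1 hg
  exact S.normal2.conj_mem _ ((S.mem2 7 (by norm_num)).2 (by decide)) c

/-- An element of `G2` commuting with `z` centralises the four-group. -/
theorem cent_four {r : G} (hr : r ∈ S.G2) (hc : r * z = z * r) {q : G} (hq : IsConj z q)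
    (hqz : q * z = z * q) : r * q = q * r := by
  obtain ⟨m, hm, rfl⟩ := B.conj_cent hq hqz
  obtain ⟨n, hn, rfl⟩ := D.val_surj r hc
  obtain ⟨h1, h2⟩ := (S.mem2 n hn).1 hr
  have hmv : m ∈ vL := (show ∀ m ∈ [360, 384, 744], m ∈ vL by decide) m hm
  exact D.val_commute hn (vL_sub.2.2.1 m hmv).1 ((g2_facts n (mem_els hn) h1 h2).1 m hmv)

theorem cent_cent {p q r : G} (hp : IsConj z p) (hq : IsConj z q) (hpq : q * p = p * q)
    (hr : r ∈ S.G2) (hrp : r * p = p * r) : r * q = q * r := by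
  obtain ⟨c, rfl⟩ := isConj_iff.1 hp
  have key : ∀ a : G, a * (c * z * c⁻¹) = c * z * c⁻¹ * a → (c⁻¹ * a * c) * z = z * (c⁻¹ * a * c) :=
    fun a h => by
      calc (c⁻¹ * a * c) * z = c⁻¹ * (a * (c * z * c⁻¹)) * c := by group
        _ = z * (c⁻¹ * a * c) := by rw [h]; group
  have hr' : c⁻¹ * r * c ∈ S.G2 := by
    have := S.normal2.conj_mem r hr c⁻¹
    rwa [inv_inv] at this
  have hq' : IsConj z (c⁻¹ * q * c) := hq.trans (isConj_iff.2 ⟨c⁻¹, by rw [inv_inv]⟩)
  have h := B.cent_four S hr' (key r hrp) hq' (key q hpq)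
  calc r * q = c * ((c⁻¹ * r * c) * (c⁻¹ * q * c)) * c⁻¹ := by group
    _ = c * ((c⁻¹ * q * c) * (c⁻¹ * r * c)) * c⁻¹ := by rw [h]
    _ = q * r := by group

omit S in
theorem val_comm384 {m : ℕ} (hm : m < 768) : D.val m * z = z * D.val m := D.val_comm m hm

/-- The Sylow subgroups have their central involutions conjugate to `z`. -/
theorem exists_conj_commute {i : G} (hi : i * i = 1) : ∃ c : G, (c * i * c⁻¹) * z = z * (c * i * c⁻¹) := by
  classical
  haveI := Fact.mk Nat.prime_two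
  let Q : Subgroup G := closure {D.val 24, D.val 48, D.val 96, D.val 192}
  have hqs : IsSub 0 ((List.range 32).map (24 * ·)) := by decide +kernel
  have hQ : IsPGroup 2 (D.grp hqs) := IsPGroup.of_card (n := 5) (by rw [D.card_grp]; rfl)
  obtain ⟨P, hP⟩ := hQ.exists_le_sylow
  have hgen : ∀ m ∈ [24, 48, 96, 192, 384], D.val m ∈ P := fun m hm => hP ⟨m, by
    revert hm; revert m; decide +kernel, rfl⟩
  have hz : z ∈ P := by rw [← D.val_z]; exact hgen 384 (by simp)
  haveI : Nontrivial (P : Subgroup G) := ⟨⟨⟨z, hz⟩, 1, fun e => by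
    have := D.ord
    rw [show z = 1 from congrArg Subtype.val e, orderOf_one] at this
    norm_num at this⟩⟩
  haveI := P.2.center_nontrivial
  obtain ⟨⟨c, hc⟩, hc1⟩ := exists_ne (1 : center (P : Subgroup G))
  have hcom : ∀ x : G, ∀ hx : x ∈ P, x * c.1 = c.1 * x := fun x hx =>
    congrArg Subtype.val (mem_center_iff.1 hc ⟨x, hx⟩)
  obtain ⟨m, hm, hmc⟩ := D.val_surj c.1 (hcom z hz).symm
  have hq : ∀ g ∈ [24, 48, 96, 192, 384], mulN 0 m g = mulN 0 g m := fun g hg =>
    D.mul_val_eq hm (by revert hg; revert g; decide) (by rw [hmc]; exact (hcom _ (hgen g hg)).symm)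
  have hm384 : m = 384 := by
    rcases q_cent m (mem_els hm) (hq 24 (by simp)) (hq 48 (by simp)) (hq 96 (by simp))
      (hq 192 (by simp)) with rfl | h
    · rw [D.val_zero] at hmc
      exact absurd (Subtype.ext (Subtype.ext hmc.symm)) hc1
    · exact h
  subst hm384
  have hcz : c.1 = z := hmc.symm.trans D.val_z
  have hp : IsPGroup 2 (zpowers i) := by
    obtain ⟨j, -, hj⟩ := (Nat.dvd_prime_pow Nat.prime_two).1
      (show orderOf i ∣ 2 ^ 1 from orderOf_dvd_of_pow_eq_one (by rw [pow_one, pow_two, hi]))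
    exact IsPGroup.of_card (n := j) (by rw [Nat.card_zpowers, hj])
  obtain ⟨R, hR⟩ := hp.exists_le_sylow
  obtain ⟨g, hg⟩ := MulAction.exists_smul_eq G R P
  have hm' : g * i * g⁻¹ ∈ ((g • R : Sylow 2 G) : Subgroup G) :=
    smul_mem_pointwise_smul i (MulAut.conj g) _ (hR (mem_zpowers i))
  rw [hg] at hm'
  exact ⟨g, hcz ▸ hcom _ hm'⟩

/-- The two classes of involutions of `G2`. -/
theorem invol_G2 {i : G} (hi : i ∈ S.G2) (h2 : i * i = 1) (h1 : i ≠ 1) :
    IsConj z i ∨ IsConj (D.val 7) i := by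
  obtain ⟨c, hc⟩ := B.exists_conj_commute S h2
  obtain ⟨m, hm, hmi⟩ := D.val_surj _ hc
  have hG : D.val m ∈ S.G2 := hmi ▸ S.normal2.conj_mem i hi c
  obtain ⟨h3, h4⟩ := (S.mem2 m hm).1 hG
  have hsq : D.val m * D.val m = 1 := by
    rw [hmi]
    calc c * i * c⁻¹ * (c * i * c⁻¹) = c * (i * i) * c⁻¹ := by group
      _ = 1 := by rw [h2]; group
  have hm0 : m ≠ 0 := fun e => by
    rw [e, D.val_zero] at hmi
    exact h1 (conj_eq_one_iff.1 hmi.symm)
  have hc' : IsConj (D.val m) i := (isConj_iff.2 ⟨c, hmi.symm⟩ : IsConj i (D.val m)).symm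
  rcases (g2_facts m (mem_els hm) h3 h4).2 (D.val_sq hm hsq) hm0 with h | h
  · exact Or.inl ((B.isConj_V h).trans hc')
  · exact Or.inr ((D.cls_conj sL_class.2.1 h).trans hc')

/-- A product of two commuting members of the two classes is in the second class. -/
theorem mixed {p r : G} (hp : IsConj z p) (hr : IsConj (D.val 7) r) (h : p * r = r * p) :
    IsConj (D.val 7) (p * r) := by
  have hG := mul_mem (B.mem2_z S hp) (B.mem2_w S hr)
  obtain ⟨hp1, -⟩ := B.invol_sq hp
  obtain ⟨hr1, -, hrz⟩ := B.w_sq hr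
  rcases B.invol_G2 S hG (by
    calc p * r * (p * r) = p * (r * p) * r := by group
      _ = (p * p) * (r * r) := by rw [← h]; group
      _ = 1 := by rw [hp1, hr1, mul_one]) (fun e => hrz (by
    rwa [← inv_eq_of_mul_eq_one_right e, inv_eq_of_mul_eq_one_right hp1])) with hc | hc
  · exfalso
    obtain ⟨c, rfl⟩ := isConj_iff.1 hp
    set r' := c⁻¹ * r * c with hr'
    have hq : IsConj z (z * r') := hc.trans (isConj_iff.2 ⟨c⁻¹, by rw [hr']; group⟩)
    have hzr : z * r' = r' * z := by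
      calc z * r' = c⁻¹ * (c * z * c⁻¹ * r) * c := by rw [hr']; group
        _ = r' * z := by rw [h, hr']; group
    obtain ⟨m, hm, hmv⟩ := B.conj_cent hq (by rw [mul_assoc, ← hzr])
    have hm' : mulN 0 384 m ∈ [0, 360, 384, 744] ∧ m < 768 :=
      (show ∀ m ∈ [360, 384, 744], mulN 0 384 m ∈ [0, 360, 384, 744] ∧ m < 768 by decide +kernel) m hm
    have he : D.val (mulN 0 384 m) = r' := by
      rw [D.val_mul 384 m (by norm_num) hm'.2, hmv, show D.val 384 = z from D.val_z, ← mul_assoc,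
        D.zz, one_mul]
    have hrr : IsConj (D.val (mulN 0 384 m)) r := by
      rw [he]; exact isConj_iff.2 ⟨c, by rw [hr']; group⟩
    rcases List.mem_cons.1 hm'.1 with e | e
    · rw [e, D.val_zero] at hrr
      exact (B.w_sq hr).2.1 (isConj_one_right.1 hrr)
    · exact hrz ((B.isConj_V e).trans hrr)
  · exact hc

/-- The involution attached to a pair. -/
theorem pair_class {p r : G} (hp : IsConj z p) (hr : IsConj (D.val 7) r) :
    IsConj (D.val 7) ((p * r) ^ (orderOf (p * r) / 2)) := by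
  set x := p * r with hx
  have heven : 2 ∣ orderOf x := by
    by_contra h
    exact (B.w_sq hr).2.2 (hp.trans (isConj_of_odd (B.invol_sq hp).1 (B.w_sq hr).1
      (Nat.odd_iff.2 (Nat.two_dvd_ne_zero.1 h))))
  obtain ⟨k, hk⟩ := heven
  have hk0 : 0 < k := by
    have := orderOf_pos x
    omega
  rw [hk, Nat.mul_div_cancel_left _ (by norm_num)]
  set i := x ^ k with hi
  have hii : i * i = 1 := by rw [hi, ← pow_add, ← two_mul, ← hk, pow_orderOf_eq_one]
  have hi1 : i ≠ 1 := fun e => by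
    have := Nat.le_of_dvd hk0 (orderOf_dvd_of_pow_eq_one e)
    omega
  have hiG : i ∈ S.G2 := pow_mem (mul_mem (B.mem2_z S hp) (B.mem2_w S hr)) k
  rcases B.invol_G2 S hiG hii hi1 with h | h
  · exfalso
    have hp1 := (B.invol_sq hp).1
    have hr1 := (B.w_sq hr).1
    have hpx : p * x * p⁻¹ = x⁻¹ := by
      rw [hx, mul_inv_rev, inv_eq_of_mul_eq_one_right hp1, inv_eq_of_mul_eq_one_right hr1,
        ← mul_assoc, hp1, one_mul]
    have hpi : p * i = i * p := by
      have h1 : p * i * p⁻¹ = i := by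
        rw [hi, ← conj_pow, hpx, inv_pow, ← hi, inv_eq_of_mul_eq_one_right hii]
      exact mul_inv_eq_iff_eq_mul.1 h1
    have hri : r * i = i * r := by
      have e : r = p * x := by rw [hx, ← mul_assoc, hp1, one_mul]
      have : x * i = i * x := by rw [hi, ← pow_succ', ← pow_succ]
      rw [e, mul_assoc, this, ← mul_assoc, hpi, mul_assoc]
    have hrp : r * p = p * r := B.cent_cent S h hp hpi (B.mem2_w S hr) hri
    have hx2 : x ^ 2 = 1 := by
      rw [pow_two, hx, mul_assoc, ← mul_assoc r, hrp, mul_assoc p r r, hr1, mul_one, hp1]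
    have hk1 : k = 1 := by
      have := Nat.le_of_dvd (by norm_num) (orderOf_dvd_of_pow_eq_one hx2)
      omega
    rw [hi, hk1, pow_one] at h
    exact (B.w_sq (B.mixed S hp hr hrp.symm)).2.2 h
  · exact h

end Bad

end Ctx

theorem conj_pow_inv {G : Type u} [Group G] {p r : G} (hp : p * p = 1) (hr : r * r = 1) (j : ℕ) :
    p * (p * r) ^ j * p⁻¹ = ((p * r) ^ j)⁻¹ := by
  have h : p * (p * r) * p⁻¹ = (p * r)⁻¹ := by
    rw [mul_inv_rev, inv_eq_of_mul_eq_one_right hp, inv_eq_of_mul_eq_one_right hr, ← mul_assoc, hp,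
      one_mul]
  rw [← conj_pow, h, inv_pow]

/-- the four-group together with the coset of `7` -/
def mL : List Nat := [0, 360, 384, 744, 7, 367, 391, 751]

theorem mL_sub : IsSub 0 mL := by decide +kernel

theorem mL_facts : mL ⊆ eL ∧ (∀ m ∈ mL, m ∈ vL ∨ mulN 0 7 m ∈ vL) ∧
    (∀ a ∈ eL, ∀ b ∈ eL, a ∉ mL → b ∉ mL → mulN 0 a b ∈ mL) := by decide +kernel

theorem vL_facts : (∀ m ∈ vL, m = 0 ∨ m ∈ [360, 384, 744]) ∧ (∀ m ∈ [360, 384, 744], m ∈ vL) ∧
    mulN 0 384 360 = 744 ∧ mulN 0 360 384 = 744 ∧ vL ⊆ tL ∧ sL ⊆ tL := by decide +kernel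

theorem reps_facts : ∀ a ∈ [0, 24, 1, 25], ∀ b ∈ [0, 24, 1, 25],
    chiQ (mulN 0 (invN 0 a) b) = 0 → chiP (mulN 0 (invN 0 a) b) = 0 → a = b := by decide +kernel

variable {G : Type u} [Group G] [Finite G] {z : G} (D : Cen 0 z) (S : Tower D)

/-- the centraliser of `7` in `G2` -/
def cwS : Subgroup G := centralizer ({D.val 7} : Set G) ⊓ S.G2

/-- the elementary abelian subgroup of order sixteen -/
def eS : Subgroup G := D.grp eL_sub

/-- the four-group of the conjugates of `z` -/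
def vS : Subgroup G := D.grp vL_sub

theorem three_inj {α : Type u} {a b c : α} (ab : a ≠ b) (bc : b ≠ c) (ca : c ≠ a) :
    Function.Injective ![a, b, c] := by
  intro i j h
  fin_cases i <;> fin_cases j <;> simp_all [eq_comm]

theorem klein_of {H : Type u} [Group H] [Finite H] (A : Subgroup H) (h : Nat.card A = 4)
    (h2 : ∀ a ∈ A, a * a = 1) : IsKleinFour A := by
  haveI : Nontrivial A := Finite.one_lt_card_iff_nontrivial.1 (by rw [h]; norm_num)
  refine ⟨h, (Monoid.exponent_eq_prime_iff Nat.prime_two).2 fun a ha => ?_⟩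
  exact orderOf_eq_prime (Subtype.ext (by rw [SubgroupClass.coe_pow, pow_two]; exact h2 a a.2)) ha

namespace Bad

variable {D} (B : Bad D)
include B S

theorem mem_vS {g : G} : g ∈ vS D ↔ g = 1 ∨ (IsConj z g ∧ g * z = z * g) := by
  constructor
  · rintro ⟨m, hm, rfl⟩
    rcases vL_facts.1 m hm with rfl | h
    · exact Or.inl D.val_zero
    · exact Or.inr ⟨B.isConj_V h, D.val_comm m (vL_sub.2.2.1 m hm).1⟩
  · rintro (rfl | ⟨hg, hc⟩)
    · exact one_mem _
    · obtain ⟨m, hm, rfl⟩ := B.conj_cent hg hc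
      exact ⟨m, vL_facts.2.1 m hm, rfl⟩

theorem mem_eS {g : G} : g ∈ eS D ↔ g ∈ S.G2 ∧ g * z = z * g ∧ g * D.val 7 = D.val 7 * g := by
  constructor
  · rintro ⟨m, hm, rfl⟩
    have hm' := (eL_sub.2.2.1 m hm).1
    obtain ⟨h1, h2, -, h4⟩ := eL_facts.2.2.1 m hm
    exact ⟨(S.mem2 m hm').2 ⟨h1, h2⟩, D.val_comm m hm',
      D.val_commute hm' (by norm_num) (h4 7 eL_facts.2.1)⟩
  · rintro ⟨hG, hz, hw⟩
    obtain ⟨m, hm, rfl⟩ := D.val_surj g hz
    obtain ⟨h1, h2⟩ := (S.mem2 m hm).1 hG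
    exact ⟨m, eL_facts.2.2.2 m (mem_els hm) h1 h2 (D.mul_val_eq hm (by norm_num) hw), rfl⟩

theorem eS_comm {a b : G} (ha : a ∈ eS D) (hb : b ∈ eS D) : a * b = b * a := by
  obtain ⟨m, hm, rfl⟩ := ha
  obtain ⟨n, hn, rfl⟩ := hb
  exact D.val_commute (eL_sub.2.2.1 m hm).1 (eL_sub.2.2.1 n hn).1 ((eL_facts.2.2.1 m hm).2.2.2 n hn)

theorem eS_sq {a : G} (ha : a ∈ eS D) : a * a = 1 := by
  obtain ⟨m, hm, rfl⟩ := ha
  have hm' := (eL_sub.2.2.1 m hm).1
  rw [← D.val_mul m m hm' hm', (eL_facts.2.2.1 m hm).2.2.1, D.val_zero]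

theorem vS_le : vS D ≤ eS D := fun _g ⟨m, hm, e⟩ => ⟨m, eL_facts.1 hm, e⟩

theorem w_mem : D.val 7 ∈ eS D := ⟨7, eL_facts.2.1, rfl⟩

theorem vS_klein : IsKleinFour (vS D) :=
  klein_of (vS D) (by rw [vS, D.card_grp]; rfl) fun _ ha => B.eS_sq S (B.vS_le S ha)

omit S in
theorem conj_conj {g v : G} (hv : IsConj z v) : IsConj z (g * v * g⁻¹) :=
  hv.trans (isConj_iff.2 ⟨g, rfl⟩)

/-- An element taking `z` into the four-group normalises it. -/
theorem norm_four {g : G} (hg : (g * z * g⁻¹) * z = z * (g * z * g⁻¹)) {v : G} (hv : v ∈ vS D) :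
    g * v * g⁻¹ ∈ vS D := by
  rcases (B.mem_vS S).1 hv with rfl | ⟨hv1, hv2⟩
  · simp
  refine (B.mem_vS S).2 (Or.inr ⟨B.conj_conj hv1, ?_⟩)
  have hc : g * v * g⁻¹ * (g * z * g⁻¹) = g * z * g⁻¹ * (g * v * g⁻¹) := by
    calc g * v * g⁻¹ * (g * z * g⁻¹) = g * (v * z) * g⁻¹ := by group
      _ = g * z * g⁻¹ * (g * v * g⁻¹) := by rw [hv2]; group
  exact (B.cent_cent S (B.conj_conj (IsConj.refl z)) (B.conj_conj hv1) hc (B.mem2_z S (IsConj.refl z))
    hg.symm).symm

theorem exists_rep (c : G) : ∃ n < 768, ∃ g ∈ S.G2, c = g * D.val n := by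
  let r : Fin 4 → ℕ := ![0, 24, 1, 25]
  have hr : ∀ i, r i ∈ [0, 24, 1, 25] ∧ r i < 768 := by decide
  have hrinj : Function.Injective r := by decide
  let f : Fin 4 → G ⧸ S.G2 := fun i => QuotientGroup.mk (D.val (r i))
  have hf : Function.Injective f := fun i j h => by
    refine hrinj (reps_facts _ (hr i).1 _ (hr j).1 ?_ ?_) <;>
    · have h' := QuotientGroup.eq.1 h
      rw [← D.val_inv (hr i).2, ← D.val_mul _ _ (invN_lt (by norm_num) (hr i).2) (hr j).2] at h'
      obtain ⟨h1, h2⟩ := (S.mem2 _ (mulN_lt ..)).1 h'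
      assumption
  have hb : Function.Bijective f := (Nat.bijective_iff_injective_and_card f).2 ⟨hf, by
    rw [Nat.card_eq_fintype_card, Fintype.card_fin, ← Subgroup.index, S.index2]⟩
  obtain ⟨i, hi⟩ := hb.2 (QuotientGroup.mk c)
  refine ⟨r i, (hr i).2, D.val (r i) * ((D.val (r i))⁻¹ * c) * (D.val (r i))⁻¹,
    S.normal2.conj_mem _ (QuotientGroup.eq.1 hi) _, ?_⟩
  group

theorem cls_seven {g : G} (hg : IsConj (D.val 7) g) (hc : g * z = z * g) :
    ∃ m ∈ sL, D.val m = g := by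
  obtain ⟨m, hm, rfl⟩ := D.val_surj g hc
  obtain ⟨h1, h2⟩ := (S.mem2 m hm).1 (B.mem2_w S hg)
  obtain ⟨hs, h0, hz⟩ := B.w_sq hg
  rcases (g2_facts m (mem_els hm) h1 h2).2 (D.val_sq hm hs)
    (fun e => h0 (by rw [e, D.val_zero])) with h | h
  · exact absurd (B.isConj_V h) hz
  · exact ⟨m, h, rfl⟩

/-- An element of order three centralising `7` and moving `z`. -/
theorem exists_y : ∃ y ∈ cwS D S, y ^ 3 = 1 ∧ y * z ≠ z * y ∧ ∀ v ∈ vS D, y * v * y⁻¹ ∈ vS D := by
  obtain ⟨c, hc⟩ := isConj_iff.1 B.hu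
  obtain ⟨n, hn, g, hg, rfl⟩ := B.exists_rep S c
  have hgu : g * z * g⁻¹ = D.val 360 := by
    calc g * z * g⁻¹ = g * (D.val n * z * (D.val n)⁻¹) * g⁻¹ := by
          rw [D.val_comm n hn, mul_inv_cancel_right]
      _ = g * D.val n * z * (g * D.val n)⁻¹ := by group
      _ = D.val 360 := hc
  have hzu : D.val 384 = z := D.val_z
  have h744 : z * D.val 360 = D.val 744 := by
    have h := D.val_mul 384 360 (by norm_num) (by norm_num)
    rw [vL_facts.2.2.1, hzu] at h
    exact h.symm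
  have hz360 : D.val 360 ≠ z := fun e =>
    absurd (D.val_inj 360 384 (by norm_num) (by norm_num) (e.trans hzu.symm)) (by norm_num)
  have hzz : IsConj z z := IsConj.refl z
  have hn3 : ∀ v ∈ vS D, g * v * g⁻¹ ∈ vS D := fun v hv =>
    B.norm_four S (by rw [hgu]; exact D.val_comm 360 (by norm_num)) hv
  have hgu2 : g * D.val 360 * g⁻¹ = D.val 744 := by
    obtain ⟨m, hm, e⟩ := hn3 _ (show D.val 360 ∈ vS D from ⟨360, by decide, rfl⟩)
    rcases vL_facts.1 m hm with rfl | hm'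
    · rw [D.val_zero] at e
      exact absurd (conj_eq_one_iff.1 e.symm) (B.invol_sq B.hu).2
    simp only [List.mem_cons, List.not_mem_nil, or_false] at hm'
    rcases hm' with rfl | rfl | rfl
    · exfalso
      have h1 : g * z * g⁻¹ = g * D.val 360 * g⁻¹ := hgu.trans e
      exact hz360 (mul_left_cancel (mul_right_cancel h1)).symm
    · exfalso
      rw [hzu] at e
      have hfix : g * D.val 744 * g⁻¹ = D.val 744 := by
        rw [← h744]
        calc g * (z * D.val 360) * g⁻¹ = g * z * g⁻¹ * (g * D.val 360 * g⁻¹) := by group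
          _ = z * D.val 360 := by rw [hgu, ← e]; exact D.val_comm 360 (by norm_num)
      have := B.cent_cent S (B.isConj_V (m := 744) (by simp)) hzz
        (D.val_comm 744 (by norm_num)).symm hg (mul_inv_eq_iff_eq_mul.1 hfix)
      rw [this, mul_inv_cancel_right] at hgu
      exact hz360 hgu.symm
    · exact e.symm
  have hgg : g * g * z * (g * g)⁻¹ = D.val 744 := by
    calc g * g * z * (g * g)⁻¹ = g * (g * z * g⁻¹) * g⁻¹ := by group
      _ = D.val 744 := by rw [hgu, hgu2]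
  have hfour : ∀ r ∈ S.G2, r * z = z * r → ∀ v ∈ [360, 384, 744],
      r * D.val v * r⁻¹ = D.val v := fun r hr hrz v hv => by
    have hv' := (vL_sub.2.2.1 v (vL_facts.2.1 v hv)).1
    rw [B.cent_four S hr hrz (B.isConj_V hv) (D.val_comm v hv'), mul_inv_cancel_right]
  obtain ⟨y0, hy0G, hy0w, hy0z⟩ : ∃ y0 ∈ S.G2, y0 * D.val 7 = D.val 7 * y0 ∧
      y0 * z * y0⁻¹ ∈ [D.val 360, D.val 744] := by
    have hcls : ∀ a : G, a ∈ S.G2 → (∀ v ∈ vS D, a⁻¹ * v * a ∈ vS D) →
        ∃ m ∈ sL, D.val m = a * D.val 7 * a⁻¹ := fun a ha hav => by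
      refine B.cls_seven S (isConj_iff.2 ⟨a, rfl⟩) ?_
      have hz' : z ∈ vS D := ⟨384, by decide, hzu⟩
      have h := B.eS_comm S (B.w_mem S) (B.vS_le S (hav z hz'))
      calc a * D.val 7 * a⁻¹ * z = a * (D.val 7 * (a⁻¹ * z * a)) * a⁻¹ := by group
        _ = z * (a * D.val 7 * a⁻¹) := by rw [h]; group
    have hinv : ∀ a : G, (∀ v ∈ vS D, a * v * a⁻¹ ∈ vS D) → ∀ v ∈ vS D, a⁻¹ * v * a ∈ vS D := by
      intro a ha v hv
      let f : vS D → vS D := fun t => ⟨a * t * a⁻¹, ha t t.2⟩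
      have hinj : Function.Injective f := fun x y e => Subtype.ext
        (mul_left_cancel (mul_right_cancel (show a * (x : G) * a⁻¹ = a * y * a⁻¹ from congrArg Subtype.val e)))
      obtain ⟨⟨t, ht⟩, e⟩ := Finite.surjective_of_injective hinj ⟨v, hv⟩
      rw [← show a * t * a⁻¹ = v from congrArg Subtype.val e]
      simpa [mul_assoc] using ht
    have hg2v : ∀ v ∈ vS D, g * g * v * (g * g)⁻¹ ∈ vS D := fun v hv => by
      rw [show g * g * v * (g * g)⁻¹ = g * (g * v * g⁻¹) * g⁻¹ by group]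
      exact hn3 _ (hn3 _ hv)
    obtain ⟨m1, hm1, e1⟩ := hcls g hg (hinv g hn3)
    obtain ⟨m2, hm2, e2⟩ := hcls (g * g) (mul_mem hg hg) (hinv _ hg2v)
    by_cases ho1 : m1 ∈ oL
    · obtain ⟨k, hk, h1, h2, hk7⟩ := (oL_facts.1 m1 ho1).2
      have hk' := els_lt hk
      have hkG : D.val k ∈ S.G2 := (S.mem2 k hk').2 ⟨h1, h2⟩
      refine ⟨D.val k * g, mul_mem hkG hg, ?_, ?_⟩
      · have := D.val_cj hk' (sL_facts m1 hm1).1
        rw [hk7, e1] at this
        refine (mul_inv_eq_iff_eq_mul.1 ?_)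
        refine Eq.trans ?_ this.symm
        group
      · rw [show D.val k * g * z * (D.val k * g)⁻¹ = D.val k * (g * z * g⁻¹) * (D.val k)⁻¹ by group,
          hgu, hfour _ hkG (D.val_comm k hk') 360 (by simp)]
        simp
    by_cases ho2 : m2 ∈ oL
    · obtain ⟨k, hk, h1, h2, hk7⟩ := (oL_facts.1 m2 ho2).2
      have hk' := els_lt hk
      have hkG : D.val k ∈ S.G2 := (S.mem2 k hk').2 ⟨h1, h2⟩
      refine ⟨D.val k * (g * g), mul_mem hkG (mul_mem hg hg), ?_, ?_⟩
      · have := D.val_cj hk' (sL_facts m2 hm2).1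
        rw [hk7, e2] at this
        refine (mul_inv_eq_iff_eq_mul.1 ?_)
        refine Eq.trans ?_ this.symm
        group
      · rw [show D.val k * (g * g) * z * (D.val k * (g * g))⁻¹ =
            D.val k * (g * g * z * (g * g)⁻¹) * (D.val k)⁻¹ by group,
          hgg, hfour _ hkG (D.val_comm k hk') 744 (by simp)]
        simp
    · obtain ⟨k, hk, h1, h2, hk7⟩ := oL_facts.2.1 m2 hm2 ho2 m1 hm1 ho1
      have hk' := els_lt hk
      have hkG : D.val k ∈ S.G2 := (S.mem2 k hk').2 ⟨h1, h2⟩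
      refine ⟨g⁻¹ * D.val k * (g * g), mul_mem (mul_mem (inv_mem hg) hkG) (mul_mem hg hg), ?_, ?_⟩
      · have := D.val_cj hk' (sL_facts m2 hm2).1
        rw [hk7, e1, e2] at this
        refine (mul_inv_eq_iff_eq_mul.1 ?_)
        calc g⁻¹ * D.val k * (g * g) * D.val 7 * (g⁻¹ * D.val k * (g * g))⁻¹
            = g⁻¹ * (D.val k * (g * g * D.val 7 * (g * g)⁻¹) * (D.val k)⁻¹) * g := by group
          _ = D.val 7 := by rw [← this]; group
      · rw [show g⁻¹ * D.val k * (g * g) * z * (g⁻¹ * D.val k * (g * g))⁻¹ =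
            g⁻¹ * (D.val k * (g * g * z * (g * g)⁻¹) * (D.val k)⁻¹) * g by group,
          hgg, hfour _ hkG (D.val_comm k hk') 744 (by simp), ← hgu2]
        simp [mul_assoc]
  have hz1V : y0 * z * y0⁻¹ ∈ vS D := by
    simp only [List.mem_cons, List.not_mem_nil, or_false] at hy0z
    rcases hy0z with e | e <;> rw [e]
    exacts [⟨360, by decide, rfl⟩, ⟨744, by decide, rfl⟩]
  have hy0ne : y0 * z * y0⁻¹ ≠ z := by
    simp only [List.mem_cons, List.not_mem_nil, or_false] at hy0z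
    intro h
    rcases hy0z with e | e <;> rw [h] at e
    · exact hz360 e.symm
    · exact absurd (D.val_inj 384 744 (by norm_num) (by norm_num) (hzu.trans e)) (by norm_num)
  set z1 := y0 * z * y0⁻¹ with hz1
  have hz1Z : IsConj z z1 := isConj_iff.2 ⟨y0, rfl⟩
  have hzz1 : z1 * z = z * z1 := by
    rcases (B.mem_vS S).1 hz1V with e | h
    · exact absurd e (B.invol_sq hz1Z).2
    · exact h.2
  have hzV : z ∈ vS D := ⟨384, by decide, hzu⟩
  have hy0V : ∀ v ∈ vS D, y0 * v * y0⁻¹ ∈ vS D := fun v hv => B.norm_four S hzz1 hv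
  have hprod : z * z1 ∈ vS D := mul_mem hzV hz1V
  have hprodne : z * z1 ≠ 1 := fun e => hy0ne (by
    rw [← inv_eq_of_mul_eq_one_right e, inv_eq_of_mul_eq_one_right D.zz])
  have hprodZ : IsConj z (z * z1) := ((B.mem_vS S).1 hprod).resolve_left hprodne |>.1
  -- the image of `z1` is the third involution
  have hnext : y0 * z1 * y0⁻¹ = z * z1 := by
    have hv := hy0V _ hz1V
    obtain ⟨m, hm, e⟩ := hz1V
    have h3 : ∀ x ∈ vS D, x = 1 ∨ x = z ∨ x = z1 ∨ x = z * z1 := by
      intro x hx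
      haveI := B.vS_klein S
      by_cases h1 : x = 1
      · exact Or.inl h1
      let f : Fin 3 → G := ![z, z1, z * z1]
      have hf : Function.Injective f := by
        have a1 : z ≠ z * z1 := fun e => (B.invol_sq hz1Z).2 (left_eq_mul.1 e)
        have a2 : z1 ≠ z * z1 := fun e => (B.invol_sq (IsConj.refl z)).2 (right_eq_mul.1 e)
        exact three_inj (Ne.symm hy0ne) a2 a1.symm
      obtain ⟨i, hi⟩ := klein_three (vS D) (v := z) (w := x) f hf (fun i => by
        fin_cases i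
        · exact ⟨hzV, (B.invol_sq (IsConj.refl z)).2⟩
        · exact ⟨⟨m, hm, e⟩, (B.invol_sq hz1Z).2⟩
        · exact ⟨hprod, hprodne⟩) hx h1 rfl
      fin_cases i <;> simp [f] at hi <;> simp [hi]
    rcases h3 _ hv with h | h | h | h
    · exact absurd (conj_eq_one_iff.1 h) (B.invol_sq hz1Z).2
    · exfalso
      have hfix : y0 * (z * z1) * y0⁻¹ = z * z1 := by
        calc y0 * (z * z1) * y0⁻¹ = y0 * z * y0⁻¹ * (y0 * z1 * y0⁻¹) := by group
          _ = z * z1 := by rw [h, ← hz1]; exact hzz1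
      have hcom : z * (z * z1) = z * z1 * z := by rw [mul_assoc z z1 z, hzz1]
      have := B.cent_cent S hprodZ (IsConj.refl z) hcom hy0G (mul_inv_eq_iff_eq_mul.1 hfix)
      exact hy0ne (by rw [hz1, this, mul_inv_cancel_right])
    · refine absurd (mul_left_cancel (mul_right_cancel (h.trans hz1))) hy0ne
    · exact h
  have hcube : y0 ^ 3 * z * (y0 ^ 3)⁻¹ = z := by
    calc y0 ^ 3 * z * (y0 ^ 3)⁻¹ = y0 * (y0 * z1 * y0⁻¹) * y0⁻¹ := by
          rw [hz1]; simp only [pow_succ, pow_zero, one_mul, mul_inv_rev]; group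
      _ = y0 * z * y0⁻¹ * (y0 * z1 * y0⁻¹) := by
          rw [hnext, show y0 * (z * z1) * y0⁻¹ = y0 * z * y0⁻¹ * (y0 * z1 * y0⁻¹) by group, hnext]
      _ = z := by rw [hnext, ← hz1, ← mul_assoc, hzz1, mul_assoc, (B.invol_sq hz1Z).1, mul_one]
  have hE : y0 ^ 3 ∈ eS D := (B.mem_eS S).2 ⟨pow_mem hy0G 3, mul_inv_eq_iff_eq_mul.1 hcube,
    (Commute.pow_left (hy0w : Commute y0 (D.val 7)) 3).eq⟩
  have h6 : y0 ^ 6 = 1 := by rw [show 6 = 3 + 3 from rfl, pow_add, B.eS_sq S hE]
  refine ⟨y0 ^ 4, ⟨mem_centralizer_singleton_iff.2 ((Commute.pow_left hy0w 4).eq), pow_mem hy0G 4⟩,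
    by rw [← pow_mul, show 4 * 3 = 6 * 2 from rfl, pow_mul, h6, one_pow], fun h => ?_, fun v hv => ?_⟩
  · refine hy0ne ?_
    have h3 : Commute (y0 ^ 3)⁻¹ z := (show Commute (y0 ^ 3) z from mul_inv_eq_iff_eq_mul.1 hcube).inv_left
    have : Commute ((y0 ^ 3)⁻¹ * y0 ^ 4) z := h3.mul_left h
    rw [show (y0 ^ 3)⁻¹ * y0 ^ 4 = y0 by group] at this
    rw [hz1, this.eq, mul_inv_cancel_right]
  · rw [show y0 ^ 4 * v * (y0 ^ 4)⁻¹ = y0 * (y0 * (y0 * (y0 * v * y0⁻¹) * y0⁻¹) * y0⁻¹) * y0⁻¹ by simp only [pow_succ, pow_zero, one_mul, mul_inv_rev]; group]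
    exact hy0V _ (hy0V _ (hy0V _ (hy0V _ hv)))

/-- The structure of the centraliser of `7` in `G2`. -/
theorem exists_factor : ∃ W J : Subgroup G, J ≤ cwS D S ∧ vS D ≤ J ∧ W ≤ eS D ∧ D.val 7 ∈ W ∧
    (∀ a ∈ W, a ∈ vS D → a = 1) ∧ (∀ a ∈ W, a ∈ J → a = 1) ∧
    (∀ a ∈ W, ∀ g ∈ cwS D S, g * a = a * g) ∧
    (∀ g ∈ cwS D S, ∃ k ∈ J, ∃ a ∈ W, g = k * a) ∧
    (∀ k ∈ J, k * k = 1 → k ≠ 1 → ∃ c ∈ J, c * z * c⁻¹ = k) ∧
    (∀ k ∈ J, k * z = z * k → k ∈ vS D) ∧ (Nat.card J = 12 ∨ Nat.card J = 60) := by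
  obtain ⟨y, hy, hy3, hyz, hyV⟩ := B.exists_y S
  have hyw : y * D.val 7 = D.val 7 * y := mem_centralizer_singleton_iff.1 hy.1
  have hyG : y ∈ S.G2 := hy.2
  set W := eS D ⊓ centralizer ({y} : Set G) with hW
  have hVW : ∀ a ∈ W, a ∈ vS D → a = 1 := by
    rintro a ⟨-, hay⟩ hv
    rcases (B.mem_vS S).1 hv with h | ⟨h1, h2⟩
    · exact h
    · exact absurd (B.cent_cent S h1 (IsConj.refl z) h2.symm hyG
        (mem_centralizer_singleton_iff.1 hay).symm) hyz
  have hzV : z ∈ vS D := ⟨384, by decide, D.val_z⟩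
  have hyE : ∀ e ∈ eS D, y * e * y⁻¹ ∈ eS D := by
    intro e he
    obtain ⟨h1, h2, h3⟩ := (B.mem_eS S).1 he
    refine (B.mem_eS S).2 ⟨S.normal2.conj_mem e h1 y, ?_, ?_⟩
    · rcases (B.mem_vS S).1 (hyV z hzV) with h | ⟨h4, h5⟩
      · exact absurd (conj_eq_one_iff.1 h) (B.invol_sq (IsConj.refl z)).2
      refine B.cent_cent S h4 (IsConj.refl z) h5.symm (S.normal2.conj_mem e h1 y) ?_
      calc y * e * y⁻¹ * (y * z * y⁻¹) = y * (e * z) * y⁻¹ := by group
        _ = y * z * y⁻¹ * (y * e * y⁻¹) := by rw [h2]; group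
    · calc y * e * y⁻¹ * D.val 7 = y * (e * D.val 7) * y⁻¹ := by
            have : y⁻¹ * D.val 7 = D.val 7 * y⁻¹ := (Commute.inv_left hyw).eq
            rw [mul_assoc, this]; group
        _ = D.val 7 * (y * e * y⁻¹) := by rw [h3, ← mul_assoc y, hyw]; group
  have hy3' : ∀ e : G, y * (y * (y * e * y⁻¹) * y⁻¹) * y⁻¹ = e := fun e => by
    rw [show y * (y * (y * e * y⁻¹) * y⁻¹) * y⁻¹ = y ^ 3 * e * (y ^ 3)⁻¹ by
      simp only [pow_succ, pow_zero, one_mul, mul_inv_rev]; group, hy3]; group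
  let M := D.grp mL_sub
  have hM : ∀ g ∈ M, g ∈ vS D ∨ D.val 7 * g ∈ vS D := by
    rintro _ ⟨m, hm, rfl⟩
    rcases mL_facts.2.1 m hm with h | h
    · exact Or.inl ⟨m, h, rfl⟩
    · exact Or.inr ⟨_, h, D.val_mul 7 m (by norm_num) (mL_sub.2.2.1 m hm).1⟩
  have hVM : ∀ g ∈ vS D, g ∈ M := by
    rintro _ ⟨m, hm, rfl⟩
    exact ⟨m, (show ∀ m ∈ vL, m ∈ mL by decide) m hm, rfl⟩
  have h7M : D.val 7 ∈ M := ⟨7, by decide, rfl⟩
  have hw2 : D.val 7 * D.val 7 = 1 := (B.w_sq (IsConj.refl _)).1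
  have hw' : y * D.val 7 * y⁻¹ = D.val 7 := by rw [hyw, mul_inv_cancel_right]
  have hMy : ∀ g ∈ M, y * g * y⁻¹ ∈ M := by
    intro g hg
    rcases hM g hg with h | h
    · exact hVM _ (hyV g h)
    · have := mul_mem (inv_mem h7M) (hVM _ (hyV _ h))
      rwa [show (D.val 7)⁻¹ * (y * (D.val 7 * g) * y⁻¹) = (D.val 7)⁻¹ * (y * D.val 7 * y⁻¹) * (y * g * y⁻¹)
        by group, hw', inv_mul_cancel, one_mul] at this
  have hMc : ∀ e ∈ eS D, e⁻¹ * (y * e * y⁻¹) ∈ M := by
    intro e he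
    rw [inv_eq_of_mul_eq_one_right (B.eS_sq S he)]
    by_cases heM : e ∈ M
    · exact mul_mem heM (hMy e heM)
    · have hyM : y * e * y⁻¹ ∉ M := fun h => heM (hy3' e ▸ hMy _ (hMy _ h))
      obtain ⟨a, ha, rfl⟩ := he
      obtain ⟨b, hb, hbe⟩ := hyE _ ⟨a, ha, rfl⟩
      rw [← hbe, ← D.val_mul a b (eL_sub.2.2.1 a ha).1 (eL_sub.2.2.1 b hb).1]
      exact ⟨_, mL_facts.2.2 a ha b hb (fun h => heM ⟨a, h, rfl⟩) (fun h => hyM ⟨b, h, hbe⟩), rfl⟩
  have hc : ∀ e ∈ eS D, e⁻¹ * (y * e * y⁻¹) ∈ vS D := by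
    intro e he
    have hcM := hMc e he
    rcases hM _ hcM with h | h
    · exact h
    exfalso
    set c := e⁻¹ * (y * e * y⁻¹) with hcdef
    set v := D.val 7 * c with hv
    have hcv : c = D.val 7 * v := by rw [hv, ← mul_assoc, hw2, one_mul]
    have hprod : c * (y * c * y⁻¹) * (y * (y * c * y⁻¹) * y⁻¹) = 1 := by
      calc c * (y * c * y⁻¹) * (y * (y * c * y⁻¹) * y⁻¹)
          = e⁻¹ * (y * (y * (y * e * y⁻¹) * y⁻¹) * y⁻¹) := by rw [hcdef]; group
        _ = 1 := by rw [hy3']; group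
    have e1 : y * c * y⁻¹ = D.val 7 * (y * v * y⁻¹) := by
      calc y * c * y⁻¹ = y * D.val 7 * y⁻¹ * (y * v * y⁻¹) := by rw [hcv]; group
        _ = _ := by rw [hw']
    have e2 : y * (y * c * y⁻¹) * y⁻¹ = D.val 7 * (y * (y * v * y⁻¹) * y⁻¹) := by
      calc y * (y * c * y⁻¹) * y⁻¹ = y * D.val 7 * y⁻¹ * (y * (y * v * y⁻¹) * y⁻¹) := by rw [e1]; group
        _ = _ := by rw [hw']
    rw [e2, e1, hcv] at hprod
    set v1 := y * v * y⁻¹
    set v2 := y * v1 * y⁻¹
    have hv1 : v1 ∈ vS D := hyV v h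
    have hv2 : v2 ∈ vS D := hyV v1 hv1
    have hcomm : v * D.val 7 = D.val 7 * v := B.eS_comm S (B.vS_le S h) (B.w_mem S)
    have h7V : D.val 7 * (v * v1 * v2) = 1 := by
      have e3 : D.val 7 * v * (D.val 7 * v1) = v * v1 := by
        rw [← hcomm]
        calc v * D.val 7 * (D.val 7 * v1) = v * (D.val 7 * D.val 7) * v1 := by group
          _ = v * v1 := by rw [hw2, mul_one]
      rw [e3] at hprod
      calc D.val 7 * (v * v1 * v2) = v * v1 * (D.val 7 * v2) := by
            rw [← mul_assoc, B.eS_comm S (B.w_mem S) (mul_mem (B.vS_le S h) (B.vS_le S hv1))]; group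
        _ = 1 := hprod
    have h7 : D.val 7 ∈ vS D := by
      rw [eq_inv_of_mul_eq_one_left h7V]
      exact inv_mem (mul_mem (mul_mem h hv1) hv2)
    rcases (B.mem_vS S).1 h7 with h8 | h8
    · exact (B.w_sq (IsConj.refl _)).2.1 h8
    · exact B.h7 h8.1
  have hdec : ∀ e ∈ eS D, ∃ v ∈ vS D, ∃ a ∈ W, e = v * a := by
    intro e he
    set P := e * (y * e * y⁻¹) * (y * (y * e * y⁻¹) * y⁻¹) with hP
    have hPE : P ∈ eS D := mul_mem (mul_mem he (hyE e he)) (hyE _ (hyE e he))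
    have hPy : y * P * y⁻¹ = P := by
      calc y * P * y⁻¹ = (y * e * y⁻¹) * (y * (y * e * y⁻¹) * y⁻¹) *
            (y * (y * (y * e * y⁻¹) * y⁻¹) * y⁻¹) := by rw [hP]; group
        _ = P := by
          rw [hy3', hP, B.eS_comm S (mul_mem (hyE e he) (hyE _ (hyE e he))) he]; simp [mul_assoc]
    have hPW : P ∈ W := ⟨hPE, mem_centralizer_singleton_iff.2 (mul_inv_eq_iff_eq_mul.1 hPy).symm⟩
    refine ⟨e * P, ?_, P, hPW, by rw [mul_assoc, B.eS_sq S hPE, mul_one]⟩
    have hrw : e * P = (y * e * y⁻¹)⁻¹ * (y * (y * e * y⁻¹) * y⁻¹) := by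
      rw [hP, inv_eq_of_mul_eq_one_right (B.eS_sq S (hyE e he)), mul_assoc e, ← mul_assoc e e,
        B.eS_sq S he, one_mul]
    rw [hrw]
    exact hc _ (hyE e he)
  have hEC : eS D ≤ cwS D S := fun e he =>
    ⟨mem_centralizer_singleton_iff.2 ((B.mem_eS S).1 he).2.2, ((B.mem_eS S).1 he).1⟩
  set C := cwS D S
  have hVC : vS D ≤ C := (B.vS_le S).trans hEC
  have hWC : W ≤ C := inf_le_left.trans hEC
  haveI : IsKleinFour ((vS D).subgroupOf C) := klein_of _
    (by rw [Nat.card_congr (subgroupOfEquivOfLe hVC).toEquiv, vS, D.card_grp]; rfl)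
    fun v hv => Subtype.ext (B.eS_sq S (B.vS_le S hv))
  have hsup : ∀ x : C, x ∈ (vS D).subgroupOf C ⊔ W.subgroupOf C ↔ (x : G) ∈ eS D := by
    intro x
    refine ⟨fun hx => ?_, fun hx => ?_⟩
    · exact (sup_le (fun a ha => B.vS_le S ha) (fun a ha => ha.1) :
        (vS D).subgroupOf C ⊔ W.subgroupOf C ≤ (eS D).subgroupOf C) hx
    · obtain ⟨v, hv, a, ha, e⟩ := hdec _ hx
      rw [show x = ⟨v, hVC hv⟩ * ⟨a, hWC ha⟩ from Subtype.ext e]
      exact mul_mem (mem_sup_left hv) (mem_sup_right ha)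
  have hcent : ∀ v ∈ (vS D).subgroupOf C, v ≠ 1 →
      centralizer ({v} : Set C) = (vS D).subgroupOf C ⊔ W.subgroupOf C := by
    intro v hv hv1
    ext x
    rw [mem_centralizer_singleton_iff, hsup]
    constructor
    · intro h
      rcases (B.mem_vS S).1 hv with h' | ⟨h1, h2⟩
      · exact absurd (Subtype.ext h') hv1
      exact (B.mem_eS S).2 ⟨x.2.2, B.cent_cent S h1 (IsConj.refl z) h2.symm x.2.2
        (congrArg Subtype.val h), mem_centralizer_singleton_iff.1 x.2.1⟩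
    · intro h
      exact Subtype.ext (B.eS_comm S h (B.vS_le S hv))
  have hA : Cfsg.IsElementaryAbelian 2 ((vS D).subgroupOf C ⊔ W.subgroupOf C) := by
    refine ⟨⟨⟨fun a b => Subtype.ext (Subtype.ext ?_)⟩⟩, fun a ha => Subtype.ext ?_⟩
    · exact B.eS_comm S ((hsup a).1 a.2) ((hsup b).1 b.2)
    · rw [SubgroupClass.coe_pow, pow_two]; exact B.eS_sq S ((hsup a).1 ha)
  have hconj : ∀ v ∈ (vS D).subgroupOf C, v ≠ 1 → ∀ g : C,
      g * v * g⁻¹ ∈ (vS D).subgroupOf C ⊔ W.subgroupOf C → g * v * g⁻¹ ∈ (vS D).subgroupOf C := by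
    intro v hv hv1 g hg
    rcases (B.mem_vS S).1 hv with h' | ⟨h1, -⟩
    · exact absurd (Subtype.ext h') hv1
    exact (B.mem_vS S).2 (Or.inr ⟨B.conj_conj h1, ((B.mem_eS S).1 ((hsup _).1 hg)).2.1⟩)
  have hnorm : ∀ g : C, (∀ v ∈ (vS D).subgroupOf C, g * v * g⁻¹ ∈ (vS D).subgroupOf C) →
      ∀ x ∈ W.subgroupOf C, g * x = x * g := by
    intro g hg x hx
    refine Subtype.ext ?_
    show (g : G) * x = x * g
    have hzC : (g : G) * z * (g : G)⁻¹ ∈ vS D := hg ⟨z, hVC hzV⟩ hzV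
    have key : ∀ a ∈ C, a * z * a⁻¹ = z → a * (x : G) = x * a := fun a ha e =>
      B.eS_comm S ((B.mem_eS S).2 ⟨ha.2, mul_inv_eq_iff_eq_mul.1 e,
        mem_centralizer_singleton_iff.1 ha.1⟩) hx.1
    have hxy : Commute y (x : G) := (mem_centralizer_singleton_iff.1 hx.2).symm
    set z1 := y * z * y⁻¹ with hz1
    set z2 := y * z1 * y⁻¹ with hz2
    have hfix : ∀ v : G, y * v = v * y → v ∈ vS D → v = 1 := fun v h1 h2 =>
      hVW v ⟨B.vS_le S h2, mem_centralizer_singleton_iff.2 h1.symm⟩ h2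
    obtain h | h | h : (g : G) * z * (g : G)⁻¹ = z ∨ (g : G) * z * (g : G)⁻¹ = z1 ∨
        (g : G) * z * (g : G)⁻¹ = z2 := by
      haveI := B.vS_klein S
      have n01 : z ≠ z1 := fun e => hyz (mul_inv_eq_iff_eq_mul.1 e.symm)
      have n12 : z1 ≠ z2 := fun e => n01 (mul_left_cancel (mul_right_cancel
        (show y * z * y⁻¹ = y * z1 * y⁻¹ from e)))
      have n20 : z2 ≠ z := fun e => n01 (by
        have := congrArg (fun t => y * t * y⁻¹) e
        simp only [hz2, hz1, hy3'] at this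
        exact this)
      let f : Fin 3 → G := ![z, z1, z2]
      have hf : Function.Injective f := three_inj n01 n12 n20
      have hz1ne : z1 ≠ 1 := fun e => (B.invol_sq (IsConj.refl z)).2 (conj_eq_one_iff.1 e)
      obtain ⟨i, hi⟩ := klein_three (vS D) (v := z) (w := (g : G) * z * (g : G)⁻¹) f hf (fun i => by
        fin_cases i
        · exact ⟨hzV, (B.invol_sq (IsConj.refl z)).2⟩
        · exact ⟨hyV z hzV, hz1ne⟩
        · exact ⟨hyV _ (hyV z hzV), fun e => hz1ne (conj_eq_one_iff.1 e)⟩) hzC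
        (fun e => (B.invol_sq (IsConj.refl z)).2 (conj_eq_one_iff.1 e)) rfl
      fin_cases i
      exacts [Or.inl hi.symm, Or.inr (Or.inl hi.symm), Or.inr (Or.inr hi.symm)]
    · exact key _ g.2 h
    · have h2 := key (y⁻¹ * g) (mul_mem (inv_mem hy) g.2) (by
        rw [show y⁻¹ * (g : G) * z * (y⁻¹ * (g : G))⁻¹ = y⁻¹ * ((g : G) * z * (g : G)⁻¹) * y by group, h, hz1]
        group)
      have := hxy.mul_left (show Commute (y⁻¹ * (g : G)) (x : G) from h2)
      rw [mul_inv_cancel_left] at this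
      exact this.eq
    · have h2 := key (y⁻¹ * y⁻¹ * g) (mul_mem (mul_mem (inv_mem hy) (inv_mem hy)) g.2) (by
        rw [show y⁻¹ * y⁻¹ * (g : G) * z * (y⁻¹ * y⁻¹ * (g : G))⁻¹ =
          y⁻¹ * (y⁻¹ * ((g : G) * z * (g : G)⁻¹) * y) * y by simp [mul_assoc], h, hz2, hz1]
        simp [mul_assoc])
      have := (hxy.mul_left hxy).mul_left (show Commute (y⁻¹ * y⁻¹ * (g : G)) (x : G) from h2)
      rw [show y * y * (y⁻¹ * y⁻¹ * (g : G)) = g by simp [mul_assoc]] at this
      exact this.eq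
  have hVW0 : (vS D).subgroupOf C ⊓ W.subgroupOf C = ⊥ := by
    rw [eq_bot_iff]
    rintro x ⟨hx1, hx2⟩
    exact mem_bot.2 (Subtype.ext (hVW x hx2 hx1))
  rcases cent_split ((vS D).subgroupOf C) (W.subgroupOf C) hVW0 hA hcent hconj hnorm with
    htop | ⟨hWz, K, hKn, hVK, hKW, hKsup, hK⟩
  · exfalso
    have : y ∈ eS D := (hsup ⟨y, hy⟩).1 (htop ▸ mem_top _)
    exact hyz ((B.mem_eS S).1 this).2.1
  · have hdecK : ∀ g : C, ∃ k ∈ K, ∃ a ∈ W.subgroupOf C, g = k * a := by
      intro g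
      have hg : g ∈ ((K : Set C) * (W.subgroupOf C : Set C)) := by
        rw [← normal_mul K (W.subgroupOf C), hKsup]; trivial
      obtain ⟨k, hk, a, ha, e⟩ := hg
      exact ⟨k, hk, a, ha, e.symm⟩
    have hKJ : ∀ g : C, (g : G) ∈ K.map C.subtype ↔ g ∈ K := fun g =>
      ⟨fun ⟨k, hk, e⟩ => Subtype.ext e ▸ hk, fun h => ⟨g, h, rfl⟩⟩
    set V0 := ((vS D).subgroupOf C).subgroupOf K with hV0
    haveI : IsKleinFour V0 :=
      ⟨by rw [Nat.card_congr (subgroupOfEquivOfLe hVK).toEquiv, IsKleinFour.card_four],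
        by rw [Monoid.exponent_eq_of_mulEquiv (subgroupOfEquivOfLe hVK), IsKleinFour.exponent_two]⟩
    have hKE : ∀ k ∈ K, (k : G) ∈ eS D → (k : G) ∈ vS D := by
      intro k hk he
      obtain ⟨v, hv, a, ha, e⟩ := hdec _ he
      have haK : (⟨a, hWC ha⟩ : C) ∈ K := by
        have := mul_mem (inv_mem (hVK (show (⟨v, hVC hv⟩ : C) ∈ (vS D).subgroupOf C from hv))) hk
        rwa [show (⟨v, hVC hv⟩ : C)⁻¹ * k = ⟨a, hWC ha⟩ from Subtype.ext (by
          show v⁻¹ * (k : G) = a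
          rw [e, inv_mul_cancel_left])] at this
      have : (⟨a, hWC ha⟩ : C) ∈ (⊥ : Subgroup C) := hKW ▸ ⟨haK, ha⟩
      rw [e, show a = 1 from congrArg Subtype.val (mem_bot.1 this), mul_one]
      exact hv
    have hCK : ∀ v ∈ V0, v ≠ 1 → centralizer ({v} : Set K) = V0 := by
      intro v hv hv1
      refine le_antisymm (fun x hx => ?_) (fun x hx => mem_centralizer_singleton_iff.2
        (Subtype.ext (Subtype.ext (B.eS_comm S (B.vS_le S hx) (B.vS_le S hv)))))
      refine hKE x.1 x.2 ((hsup x.1).1 ?_)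
      rw [← hcent v.1 hv (fun e => hv1 (Subtype.ext e))]
      exact mem_centralizer_singleton_iff.2 (congrArg Subtype.val (mem_centralizer_singleton_iff.1 hx))
    have hyK : (⟨y, hy⟩ : C) ∈ K := by
      obtain ⟨k, hk, a, ha, e⟩ := hdecK ⟨y, hy⟩
      have hka : Commute k a := (mem_center_iff.1 (hWz ha) k)
      have ha2 : a ^ 2 = 1 := hA.2 a (mem_sup_right ha)
      have h3 : (1 : C) = k ^ 3 * a := by
        calc (1 : C) = (⟨y, hy⟩ : C) ^ 3 := Subtype.ext (by rw [SubgroupClass.coe_pow]; exact hy3.symm)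
          _ = k ^ 3 * a ^ 3 := by rw [e, hka.mul_pow]
          _ = k ^ 3 * a := by rw [pow_succ a 2, ha2, one_mul]
      have haK : a ∈ K := by
        rw [show a = (k ^ 3)⁻¹ from eq_inv_of_mul_eq_one_right h3.symm]
        exact inv_mem (pow_mem hk 3)
      rw [e]; exact mul_mem hk haK
    have hone : ∀ v ∈ V0, v ≠ 1 → ∀ w ∈ V0, w ≠ 1 → IsConj v w := by
      rcases normalizer_cases V0 hCK with ⟨-, hNC⟩ | ⟨-, h⟩
      · exfalso
        have hzC : z ∈ C := hVC hzV
        have hzK : (⟨z, hzC⟩ : C) ∈ K := hVK hzV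
        have hyN : (⟨⟨y, hy⟩, hyK⟩ : K) ∈ normalizer (V0 : Set K) := mem_normalizer_iff.2 fun v =>
          ⟨fun hv => hyV _ hv, fun hv => by
            have := hyV _ (hyV _ hv)
            have e : ((v : C) : G) = y * (y * (y * ((v : C) : G) * y⁻¹) * y⁻¹) * y⁻¹ := (hy3' _).symm
            show ((v : C) : G) ∈ vS D
            rw [e]
            exact this⟩
        have := mem_centralizer_iff.1 (hNC hyN) ⟨⟨z, hzC⟩, hzK⟩ hzV
        exact hyz (congrArg (fun t : K => ((t : C) : G)) this).symm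
      · exact h
    refine ⟨W, K.map C.subtype, map_subtype_le K, fun v hv => (hKJ ⟨v, hVC hv⟩).2 (hVK hv), inf_le_left,
      ⟨B.w_mem S, mem_centralizer_singleton_iff.2 hyw.symm⟩, hVW, ?_, ?_, ?_, ?_, ?_, ?_⟩
    · intro a ha hJ
      have := (hKJ ⟨a, hWC ha⟩).1 hJ
      have h1 : (⟨a, hWC ha⟩ : C) ∈ (⊥ : Subgroup C) := hKW ▸ ⟨this, ha⟩
      exact congrArg Subtype.val (mem_bot.1 h1)
    · intro a ha g hg
      exact congrArg Subtype.val (mem_center_iff.1 (hWz (show (⟨a, hWC ha⟩ : C) ∈ W.subgroupOf C from ha)) ⟨g, hg⟩)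
    · intro g hg
      obtain ⟨k, hk, a, ha, e⟩ := hdecK ⟨g, hg⟩
      exact ⟨k, (hKJ k).2 hk, a, ha, congrArg Subtype.val e⟩
    · rintro _ ⟨k, hk, rfl⟩ hk2 hk1
      have hord : orderOf (⟨k, hk⟩ : K) = 2 := orderOf_eq_prime
        (Subtype.ext (Subtype.ext (by simpa [pow_two] using hk2)))
        (fun e => hk1 (by rw [show k = 1 from congrArg Subtype.val e]; rfl))
      obtain ⟨c, hc⟩ := conj_mem V0 hCK hord
      have hne : c * (⟨k, hk⟩ : K) * c⁻¹ ≠ 1 := fun e => by
        rw [conj_eq_one_iff] at e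
        rw [e, orderOf_one] at hord
        norm_num at hord
      obtain ⟨d, hd⟩ := isConj_iff.1 (hone ⟨⟨z, hVC hzV⟩, hVK hzV⟩ hzV (fun e =>
        (B.invol_sq (IsConj.refl z)).2 (congrArg (fun t : K => ((t : C) : G)) e)) _ hc hne)
      refine ⟨(((c⁻¹ * d : K) : C) : G), (hKJ _).2 (c⁻¹ * d).2, ?_⟩
      have hd' := congrArg (fun t : K => ((t : C) : G)) hd
      simp only [Subgroup.coe_mul, Subgroup.coe_inv] at hd' ⊢
      calc ((c : C) : G)⁻¹ * ((d : C) : G) * z * (((c : C) : G)⁻¹ * ((d : C) : G))⁻¹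
          = ((c : C) : G)⁻¹ * (((d : C) : G) * z * ((d : C) : G)⁻¹) * ((c : C) : G) := by group
        _ = _ := by rw [hd']; simp [mul_assoc]
    · rintro _ ⟨k, hk, rfl⟩ hkz
      exact hKE k hk ((B.mem_eS S).2 ⟨k.2.2, hkz, mem_centralizer_singleton_iff.1 k.2.1⟩)
    · rw [card_map_of_injective C.subtype_injective]
      rcases hK with ⟨h, -⟩ | ⟨h, -⟩
      exacts [Or.inl h, Or.inr h]

/-- The conjugates outside the four-group cannot be permuted by the normal subgroup of order `64`. -/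
theorem false_of_count (hn : Nat.card {p : G // IsConj z p ∧ p * D.val 7 = D.val 7 * p} = 15)
    (hZ : Nat.card {p : G // IsConj z p} = 195) : False := by
  classical
  haveI := Fintype.ofFinite G
  let X := {p : G // IsConj z p ∧ ¬ p * z = z * p}
  let T := D.grp tL_sub
  have hTz : ∀ t ∈ T, t * z = z * t := by
    rintro _ ⟨m, hm, rfl⟩
    exact D.val_comm m (tL_sub.2.2.1 m hm).1
  have hTG : ∀ t ∈ T, t ∈ S.G2 := by
    rintro _ ⟨m, hm, rfl⟩
    exact (S.mem2 m (tL_sub.2.2.1 m hm).1).2 ⟨(tL_facts m hm).1, (tL_facts m hm).2.1⟩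
  letI : MulAction T X :=
    { smul := fun t p => ⟨t.1 * p.1 * t.1⁻¹, B.conj_conj p.2.1, fun h => p.2.2 (by
        have h1 := hTz _ t.2
        calc p.1 * z = t.1⁻¹ * (t.1 * p.1 * (z * z⁻¹) * t.1⁻¹ * (t.1 * z)) := by group
          _ = t.1⁻¹ * (t.1 * p.1 * t.1⁻¹ * z) * t.1 := by rw [h1]; group
          _ = t.1⁻¹ * (z * t.1) * p.1 := by rw [h]; group
          _ = z * p.1 := by rw [← h1]; group)⟩
      one_smul := fun p => Subtype.ext (show (1 : G) * p.1 * (1 : G)⁻¹ = p.1 by simp)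
      mul_smul := fun a b p => Subtype.ext (show (a.1 * b.1) * p.1 * (a.1 * b.1)⁻¹ =
        a.1 * (b.1 * p.1 * b.1⁻¹) * a.1⁻¹ by group) }
  have hmem : ∀ (p : X) (t : T), t ∈ MulAction.stabilizer T p ↔ t.1 * p.1 = p.1 * t.1 := fun p t => by
    rw [MulAction.mem_stabilizer_iff]
    refine ⟨fun h => mul_inv_eq_iff_eq_mul.1 (congrArg Subtype.val h), fun h => Subtype.ext ?_⟩
    exact mul_inv_eq_iff_eq_mul.2 h
  have hzV : z ∈ vS D := ⟨384, by decide, D.val_z⟩
  have hnoV : ∀ (p : X) (v : G), v ∈ vS D → v * p.1 = p.1 * v → v = 1 := by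
    intro p v hv h
    rcases (B.mem_vS S).1 hv with h1 | ⟨h1, h2⟩
    · exact h1
    exact absurd (B.cent_cent S h1 p.2.1 h.symm (B.mem2_z S (IsConj.refl z)) h2.symm).symm p.2.2
  have hsq : ∀ (p : X) (t : T), t.1 * p.1 = p.1 * t.1 → t.1 * t.1 = 1 := by
    rintro p ⟨_, m, hm, rfl⟩ h
    have hm' := (tL_sub.2.2.1 m hm).1
    exact hnoV p _ ⟨_, (tL_facts m hm).2.2.1, D.val_mul m m hm' hm'⟩
      (Commute.mul_left (h : Commute (D.val m) p.1) h).eq
  have hseven : ∀ (p : X) (t : T), t.1 * p.1 = p.1 * t.1 → t.1 ≠ 1 → ∃ m ∈ sL, D.val m = t.1 := by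
    rintro p ⟨_, m, hm, rfl⟩ h h1
    have hm' := (tL_sub.2.2.1 m hm).1
    rcases (tL_facts m hm).2.2.2 (D.val_sq hm' (hsq p ⟨_, m, hm, rfl⟩ h)) with h' | h'
    · exact absurd (hnoV p _ ⟨m, h', rfl⟩ h) h1
    · exact ⟨m, h', rfl⟩
  -- the fixed elements of class seven
  let d : X → ℕ := fun p => (sL.toFinset.filter fun m => D.val m * p.1 = p.1 * D.val m).card
  have hstab : ∀ p : X, Nat.card (MulAction.stabilizer T p) = d p + 1 := by
    intro p
    haveI := Fintype.ofFinite (MulAction.stabilizer T p)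
    rw [Nat.card_eq_fintype_card, ← Finset.card_univ,
      ← Finset.card_erase_add_one (Finset.mem_univ (1 : MulAction.stabilizer T p))]
    congr 1
    have hlt : ∀ m ∈ sL, m < 768 := fun m hm => (sL_facts m hm).1
    refine (Finset.card_bij (fun m hm => (⟨⟨D.val m, m, (sL_facts m
      (List.mem_toFinset.1 (Finset.mem_filter.1 hm).1)).2.2.2.1, rfl⟩,
        (hmem p _).2 (Finset.mem_filter.1 hm).2⟩ : MulAction.stabilizer T p)) ?_ ?_ ?_).symm
    · intro m hm
      refine Finset.mem_erase.2 ⟨fun e => ?_, Finset.mem_univ _⟩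
      have hm' := List.mem_toFinset.1 (Finset.mem_filter.1 hm).1
      exact (sL_facts m hm').2.2.2.2.2.1
        (D.val_eq_one (hlt m hm') (congrArg (fun x : MulAction.stabilizer T p => ((x.1 : T) : G)) e))
    · intro m hm n hn e
      exact D.val_inj m n (hlt m (List.mem_toFinset.1 (Finset.mem_filter.1 hm).1))
        (hlt n (List.mem_toFinset.1 (Finset.mem_filter.1 hn).1))
        (congrArg (fun x : MulAction.stabilizer T p => ((x.1 : T) : G)) e)
    · rintro ⟨t, ht⟩ h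
      have ht1 : t.1 ≠ 1 := fun e => (Finset.mem_erase.1 h).1 (Subtype.ext (Subtype.ext e))
      obtain ⟨m, hm, e⟩ := hseven p t ((hmem p t).1 ht) ht1
      exact ⟨m, Finset.mem_filter.2 ⟨List.mem_toFinset.2 hm, by rw [e]; exact (hmem p t).1 ht⟩,
        Subtype.ext (Subtype.ext e)⟩
  have hk4 : ∀ p : X, Nat.card (MulAction.stabilizer T p) ≤ 4 := by
    intro p
    by_cases hd : d p = 0
    · rw [hstab, hd]; norm_num
    obtain ⟨m, hm⟩ := Finset.card_pos.1 (Nat.pos_of_ne_zero hd)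
    obtain ⟨hm1, hmp⟩ := Finset.mem_filter.1 hm
    obtain ⟨hm', hq, hP, hmT, hmsq, hm0, -, h16⟩ := sL_facts m (List.mem_toFinset.1 hm1)
    set L := tL.filter fun t => mulN 0 m t == mulN 0 t m with hL
    have hLlt : ∀ n ∈ L, n < 768 := fun n hn => (tL_sub.2.2.1 n (List.mem_filter.1 hn).1).1
    have himg : Nat.card {g : G // ∃ n ∈ L, D.val n = g} = 16 :=
      (D.card_image hLlt (tL_sub.1.filter _)).trans h16
    have hmm : D.val m * D.val m = 1 := by rw [← D.val_mul m m hm' hm', hmsq, D.val_zero]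
    have hstm : ∀ s : MulAction.stabilizer T p, D.val m * (s.1 : G) = s.1 * D.val m := by
      intro s
      have hs := (hmem p s.1).1 s.2
      have h2 := hsq p ⟨D.val m * s.1, mul_mem ⟨m, hmT, rfl⟩ s.1.2⟩
        (Commute.mul_left (hmp : Commute (D.val m) p.1) hs).eq
      have h3 := hsq p s.1 hs
      calc D.val m * (s.1 : G) = D.val m * (D.val m * s.1 * (D.val m * s.1)) * s.1 := by
            rw [show D.val m * (s.1 : G) * (D.val m * s.1) = 1 from h2, mul_one]
        _ = D.val m * D.val m * s.1 * D.val m * ((s.1 : G) * s.1) := by group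
        _ = s.1 * D.val m := by rw [hmm, h3, one_mul, mul_one]
    let φ : MulAction.stabilizer T p × vS D → {g : G // ∃ n ∈ L, D.val n = g} := fun x =>
      ⟨x.1.1.1 * x.2.1, by
        obtain ⟨a, ha, e⟩ := (mul_mem x.1.1.2 (show x.2.1 ∈ T from by
          obtain ⟨v, hv, e⟩ := x.2.2
          exact ⟨v, vL_facts.2.2.2.2.1 hv, e⟩) : x.1.1.1 * x.2.1 ∈ T)
        refine ⟨a, List.mem_filter.2 ⟨ha, ?_⟩, e⟩
        rw [beq_iff_eq]
        refine D.mul_val_eq hm' (tL_sub.2.2.1 a ha).1 ?_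
        rw [e]
        obtain ⟨v, hv, ev⟩ := x.2.2
        have hvm : Commute (D.val m) x.2.1 := by
          rw [← ev]
          exact D.val_commute hm' (vL_sub.2.2.1 v hv).1 ((g2_facts m (mem_els hm') hq hP).1 v hv)
        exact (Commute.mul_right (hstm x.1) hvm).eq⟩
    have hφ : Function.Injective φ := by
      rintro ⟨a, v⟩ ⟨b, w⟩ e
      have e' : a.1.1 * v.1 = b.1.1 * w.1 := congrArg Subtype.val e
      have hab : (b.1.1)⁻¹ * a.1.1 = w.1 * (v.1)⁻¹ := by
        rw [eq_mul_inv_iff_mul_eq, mul_assoc, e', inv_mul_cancel_left]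
      have h1 : (b.1.1)⁻¹ * a.1.1 = 1 := hnoV p _ (hab ▸ mul_mem w.2 (inv_mem v.2))
        ((hmem p _).1 (mul_mem (inv_mem b.2) a.2 : b.1⁻¹ * a.1 ∈ MulAction.stabilizer T p))
      have hba : b = a := Subtype.ext (Subtype.ext (inv_mul_eq_one.1 h1))
      subst hba
      exact Prod.ext rfl (Subtype.ext (mul_left_cancel e'))
    have h := Nat.card_le_card_of_injective φ hφ
    rw [Nat.card_prod, himg, vS, D.card_grp] at h
    simp only [vL, List.length_cons, List.length_nil] at h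
    omega
  have hkc : ∀ p : X, Nat.card (MulAction.stabilizer T p) = 1 ∨
      Nat.card (MulAction.stabilizer T p) = 2 ∨ Nat.card (MulAction.stabilizer T p) = 4 := by
    intro p
    have h1 := card_subgroup_dvd_card (MulAction.stabilizer T p)
    rw [show Nat.card T = 64 from (D.card_grp tL_sub).trans tL_two] at h1
    have h2 := hk4 p
    have h3 : Nat.card (MulAction.stabilizer T p) ∈ Nat.divisors 64 := Nat.mem_divisors.2 ⟨h1, by norm_num⟩
    rw [show Nat.divisors 64 = {1, 2, 4, 8, 16, 32, 64} from rfl] at h3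
    simp only [Finset.mem_insert, Finset.mem_singleton] at h3
    omega
  haveI := Fintype.ofFinite X
  have hdvd : ∀ k m : ℕ, 0 < k → m * k = 64 →
      m ∣ (Finset.univ.filter fun p : X => Nat.card (MulAction.stabilizer T p) = k).card := by
    intro k m hk hkm
    have hconjstab : ∀ (t : T) (p : X), Nat.card (MulAction.stabilizer T (t • p)) =
        Nat.card (MulAction.stabilizer T p) := fun t p => by
      rw [MulAction.stabilizer_smul_eq_stabilizer_map_conj]
      exact card_map_of_injective (MulEquiv.injective _)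
    let Y := {p : X // Nat.card (MulAction.stabilizer T p) = k}
    letI : MulAction T Y :=
      { smul := fun t p => ⟨t • p.1, (hconjstab t p.1).trans p.2⟩
        one_smul := fun p => Subtype.ext (one_smul T p.1)
        mul_smul := fun a b p => Subtype.ext (mul_smul a b p.1) }
    have h := dvd_card_of_stabilizer (T := T) (α := Y) (m := m) (k := k)
      (by rw [hkm, (D.card_grp tL_sub).trans tL_two]) hk fun p => by
        refine Eq.trans (congrArg (fun A : Subgroup T => Nat.card A) ?_) p.2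
        ext t
        simp only [MulAction.mem_stabilizer_iff]
        exact ⟨fun e => congrArg Subtype.val e, fun e => Subtype.ext e⟩
    rwa [Nat.card_eq_fintype_card, Fintype.card_subtype] at h
  -- the size of `X`
  have hX : Fintype.card X = 192 := by
    rw [← Nat.card_eq_fintype_card]
    have e : Nat.card {p : G // IsConj z p} =
        Nat.card {p : G // IsConj z p ∧ p * z = z * p} + Nat.card X := by
      rw [← Nat.card_sum]
      refine Nat.card_congr ((Equiv.sumCompl (fun p : {p : G // IsConj z p} => p.1 * z = z * p.1)).symm.trans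
        (Equiv.sumCongr (Equiv.subtypeSubtypeEquivSubtypeInter (fun p : G => IsConj z p) (fun p => p * z = z * p))
          (Equiv.subtypeSubtypeEquivSubtypeInter (fun p : G => IsConj z p) (fun p => ¬ p * z = z * p))))
    have e2 : Nat.card {p : G // IsConj z p ∧ p * z = z * p} = 3 := by
      rw [Nat.card_congr (Equiv.subtypeEquivRight (q := fun p => ∃ m ∈ [360, 384, 744], D.val m = p)
        fun p => ⟨fun h => B.conj_cent h.1 h.2, fun ⟨m, hm, e⟩ => e ▸ ⟨B.isConj_V hm,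
          D.val_comm m ((show ∀ m ∈ [360, 384, 744], m < 768 by decide) m hm)⟩⟩)]
      exact D.card_image (by decide) (by decide)
    omega
  -- the incidences
  have hinc : ∑ p : X, d p = 288 := by
    simp only [d, Finset.card_filter]
    rw [Finset.sum_comm, Finset.sum_eq_card_nsmul (b := 12)]
    · rw [List.toFinset_card_of_nodup sL_class.2.2.1, sL_class.2.2.2]; rfl
    intro m hm
    have hm' := List.mem_toFinset.1 hm
    obtain ⟨hmlt, hq, hP, -⟩ := sL_facts m hm'
    rw [← Finset.card_filter, ← Fintype.card_subtype, ← Nat.card_eq_fintype_card]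
    have hconj := D.cls_conj sL_class.2.1 hm'
    obtain ⟨c, hc⟩ := isConj_iff.1 hconj
    have e15 : Nat.card {p : G // IsConj z p ∧ D.val m * p = p * D.val m} = 15 := by
      rw [← hn]
      refine (Nat.card_congr ((MulAut.conj c).toEquiv.subtypeEquiv fun p => ?_)).symm
      show _ ↔ IsConj z (c * p * c⁻¹) ∧ D.val m * (c * p * c⁻¹) = c * p * c⁻¹ * D.val m
      rw [← hc]
      refine and_congr ⟨fun h => B.conj_conj h, fun h => h.trans
        (isConj_iff.2 ⟨c⁻¹, by group⟩)⟩ ⟨fun h => ?_, fun h => ?_⟩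
      · calc c * D.val 7 * c⁻¹ * (c * p * c⁻¹) = c * (D.val 7 * p) * c⁻¹ := by group
          _ = _ := by rw [← h]; group
      · calc p * D.val 7 = c⁻¹ * (c * p * c⁻¹ * (c * D.val 7 * c⁻¹)) * c := by group
          _ = D.val 7 * p := by rw [← h]; group
    have e3 : Nat.card {p : G // (IsConj z p ∧ D.val m * p = p * D.val m) ∧ p * z = z * p} = 3 := by
      rw [Nat.card_congr (Equiv.subtypeEquivRight (q := fun p => ∃ v ∈ [360, 384, 744], D.val v = p)
        fun p => ⟨fun h => B.conj_cent h.1.1 h.2, fun ⟨v, hv, e⟩ => by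
          subst e
          have hv' := (vL_sub.2.2.1 v (vL_facts.2.1 v hv)).1
          exact ⟨⟨B.isConj_V hv, D.val_commute hmlt hv'
            ((g2_facts m (mem_els hmlt) hq hP).1 v (vL_facts.2.1 v hv))⟩, D.val_comm v hv'⟩⟩)]
      exact D.card_image (by decide) (by decide)
    have e : Nat.card {p : G // IsConj z p ∧ D.val m * p = p * D.val m} =
        Nat.card {p : G // (IsConj z p ∧ D.val m * p = p * D.val m) ∧ p * z = z * p} +
        Nat.card {p : X // D.val m * p.1 = p.1 * D.val m} := by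
      rw [← Nat.card_sum]
      refine Nat.card_congr ((Equiv.sumCompl (fun p : {p : G // IsConj z p ∧ D.val m * p = p * D.val m} =>
        p.1 * z = z * p.1)).symm.trans (Equiv.sumCongr
          (Equiv.subtypeSubtypeEquivSubtypeInter (fun p : G => IsConj z p ∧ D.val m * p = p * D.val m)
            (fun p => p * z = z * p))
          ((Equiv.subtypeSubtypeEquivSubtypeInter (fun p : G => IsConj z p ∧ D.val m * p = p * D.val m)
            (fun p => ¬ p * z = z * p)).trans ?_)))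
      exact ⟨fun p => ⟨⟨p.1, p.2.1.1, p.2.2⟩, p.2.1.2⟩, fun p => ⟨p.1.1, ⟨p.1.2.1, p.2⟩, p.1.2.2⟩,
        fun _ => rfl, fun _ => rfl⟩
    omega
  -- the parity
  set A := fun k => (Finset.univ.filter fun p : X => Nat.card (MulAction.stabilizer T p) = k).card
  have h1 : A 1 + A 2 + A 4 = 192 ∧ A 2 + 3 * A 4 = 288 := by
    have hs1 : ∀ p : X, (if Nat.card (MulAction.stabilizer T p) = 1 then 1 else 0) +
        (if Nat.card (MulAction.stabilizer T p) = 2 then 1 else 0) +
        (if Nat.card (MulAction.stabilizer T p) = 4 then 1 else 0) = 1 := fun p => by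
      rcases hkc p with h | h | h <;> simp only [h] <;> norm_num
    have hs2 : ∀ p : X, (if Nat.card (MulAction.stabilizer T p) = 2 then 1 else 0) +
        3 * (if Nat.card (MulAction.stabilizer T p) = 4 then 1 else 0) = d p := fun p => by
      have := hstab p
      rcases hkc p with h | h | h <;> simp only [h] at this ⊢ <;> norm_num at this ⊢ <;> omega
    simp only [A, Finset.card_filter]
    constructor
    · rw [← Finset.sum_add_distrib, ← Finset.sum_add_distrib, Finset.sum_congr rfl fun p _ => hs1 p,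
        Finset.sum_const, Finset.card_univ, hX, smul_eq_mul, mul_one]
    · rw [Finset.mul_sum, ← Finset.sum_add_distrib, Finset.sum_congr rfl fun p _ => hs2 p, hinc]
  obtain ⟨a, ha⟩ := hdvd 1 64 (by norm_num) (by norm_num)
  obtain ⟨b, hb⟩ := hdvd 2 32 (by norm_num) (by norm_num)
  obtain ⟨c, hc⟩ := hdvd 4 16 (by norm_num) (by norm_num)
  simp only [A] at h1
  omega

/-- The count of the pairs, and the contradiction. -/
theorem false_of_bad (hO : ¬ Group.IsSolvable G) : False := by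
  classical
  obtain ⟨W, J, hJC, hVJ, hWE, hwW, hWV, hWJ, hWc, hdec, hone, hJz, hJcard⟩ := B.exists_factor S
  haveI := Fintype.ofFinite G
  have hzV : z ∈ vS D := ⟨384, by decide, D.val_z⟩
  have hcw : ∀ g : G, g ∈ J → g * D.val 7 = D.val 7 * g := fun g hg =>
    mem_centralizer_singleton_iff.1 (hJC hg).1
  have hw2 : D.val 7 * D.val 7 = 1 := (B.w_sq (IsConj.refl _)).1
  -- the conjugates of `z` commuting with `7` are the involutions of `J`
  have hI : ∀ p : G, (IsConj z p ∧ p * D.val 7 = D.val 7 * p) ↔ (p ∈ J ∧ p * p = 1 ∧ p ≠ 1) := by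
    intro p
    constructor
    · rintro ⟨hp, hc⟩
      obtain ⟨hp2, hp1⟩ := B.invol_sq hp
      refine ⟨?_, hp2, hp1⟩
      obtain ⟨k, hk, a, ha, rfl⟩ := hdec p ⟨mem_centralizer_singleton_iff.2 hc, B.mem2_z S hp⟩
      have hka : k * a = a * k := hWc a ha k (hJC hk)
      have hk2 : k * k = 1 := by
        calc k * k = k * k * (a * a) := by rw [B.eS_sq S (hWE ha), mul_one]
          _ = k * (k * a) * a := by group
          _ = k * (a * k) * a := by rw [hka]
          _ = k * a * (k * a) := by group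
          _ = 1 := hp2
      suffices ha1 : a = 1 by rw [ha1, mul_one]; exact hk
      by_cases hk1 : k = 1
      · subst hk1
        rw [one_mul] at hp
        exact hWV a ha ((B.mem_vS S).2 (Or.inr ⟨hp, ((B.mem_eS S).1 (hWE ha)).2.1⟩))
      obtain ⟨c, hcJ, hce⟩ := hone k hk hk2 hk1
      have hca : c * a = a * c := hWc a ha c (hJC hcJ)
      have e : c⁻¹ * (k * a) * c = z * a := by
        rw [← hce]
        calc c⁻¹ * (c * z * c⁻¹ * a) * c = z * (c⁻¹ * (a * c)) := by group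
          _ = z * a := by rw [← hca, inv_mul_cancel_left]
      have hq : IsConj z (z * a) := e ▸ hp.trans (isConj_iff.2 ⟨c⁻¹, by rw [inv_inv]⟩)
      have hzaV : z * a ∈ vS D := (B.mem_vS S).2 (Or.inr ⟨hq,
        ((B.mem_eS S).1 (mul_mem (B.vS_le S hzV) (hWE ha))).2.1⟩)
      refine hWV a ha ?_
      have := mul_mem hzV hzaV
      rwa [← mul_assoc, D.zz, one_mul] at this
    · rintro ⟨hp, hp2, hp1⟩
      obtain ⟨c, -, hc⟩ := hone p hp hp2 hp1
      exact ⟨isConj_iff.2 ⟨c, hc⟩, hcw p hp⟩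
  let I := {p : G // IsConj z p ∧ p * D.val 7 = D.val 7 * p}
  have hcomm3 : ∀ p : G, IsConj z p → p * D.val 7 = D.val 7 * p →
      (Finset.univ.filter fun q : I => q.1 * p = p * q.1).card = 3 := by
    intro p hp hc
    obtain ⟨hpJ, hp2, hp1⟩ := (hI p).1 ⟨hp, hc⟩
    obtain ⟨c, hcJ, rfl⟩ := hone p hpJ hp2 hp1
    rw [show (3 : ℕ) = ([360, 384, 744].toFinset : Finset ℕ).card from rfl]
    have hlt : ∀ m ∈ [360, 384, 744], m < 768 := by decide
    refine (Finset.card_bij (fun m hm => (⟨c * D.val m * c⁻¹, ?_⟩ : I)) ?_ ?_ ?_).symm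
    · have hm' := List.mem_toFinset.1 hm
      have hmV : D.val m ∈ vS D := ⟨m, vL_facts.2.1 m hm', rfl⟩
      exact ⟨B.conj_conj (B.isConj_V hm'), hcw _ (mul_mem (mul_mem hcJ (hVJ hmV)) (inv_mem hcJ))⟩
    · intro m hm
      refine Finset.mem_filter.2 ⟨Finset.mem_univ _, ?_⟩
      show c * D.val m * c⁻¹ * (c * z * c⁻¹) = c * z * c⁻¹ * (c * D.val m * c⁻¹)
      calc c * D.val m * c⁻¹ * (c * z * c⁻¹) = c * (D.val m * z) * c⁻¹ := by group
        _ = _ := by rw [D.val_comm m (hlt m (List.mem_toFinset.1 hm))]; group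
    · intro m hm n hn e
      exact D.val_inj m n (hlt m (List.mem_toFinset.1 hm)) (hlt n (List.mem_toFinset.1 hn))
        (mul_left_cancel (mul_right_cancel (congrArg Subtype.val e)))
    · rintro ⟨q, hq⟩ hqp
      have hqp' : q * (c * z * c⁻¹) = c * z * c⁻¹ * q := (Finset.mem_filter.1 hqp).2
      obtain ⟨m, hm, e⟩ := B.conj_cent (hq.1.trans (isConj_iff.2 ⟨c⁻¹, by rw [inv_inv]⟩) :
        IsConj z (c⁻¹ * q * c)) (by
        calc c⁻¹ * q * c * z = c⁻¹ * (q * (c * z * c⁻¹)) * c := by group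
          _ = z * (c⁻¹ * q * c) := by rw [hqp']; group)
      refine ⟨m, List.mem_toFinset.2 hm, Subtype.ext ?_⟩
      show c * D.val m * c⁻¹ = q
      rw [e]; group
  -- the involution attached to a pair
  let Z' := {p : G // IsConj z p}
  let R' := {r : G // IsConj (D.val 7) r}
  let f : Z' × R' → R' := fun x =>
    ⟨(x.1.1 * x.2.1) ^ (orderOf (x.1.1 * x.2.1) / 2), B.pair_class S x.1.2 x.2.2⟩
  let w0 : R' := ⟨D.val 7, IsConj.refl _⟩
  let F := {x : Z' × R' // f x = w0}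
  have hfib : ∀ i : R', Nat.card {x : Z' × R' // f x = i} = Nat.card F := by
    rintro ⟨i, hi⟩
    obtain ⟨c, rfl⟩ := isConj_iff.1 hi
    refine (Nat.card_congr (Equiv.subtypeEquiv (Equiv.prodCongr
      ((MulAut.conj c).toEquiv.subtypeEquiv (fun p => ⟨fun hp => hp.trans (isConj_iff.2 ⟨c, rfl⟩),
        fun hp => hp.trans (isConj_iff.2 ⟨c, rfl⟩ : IsConj p (c * p * c⁻¹)).symm⟩))
      ((MulAut.conj c).toEquiv.subtypeEquiv (fun p => ⟨fun hp => hp.trans (isConj_iff.2 ⟨c, rfl⟩),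
        fun hp => hp.trans (isConj_iff.2 ⟨c, rfl⟩ : IsConj p (c * p * c⁻¹)).symm⟩))) ?_)).symm
    rintro ⟨⟨p, hp⟩, ⟨r, hr⟩⟩
    simp only [f, w0, Equiv.prodCongr_apply, Prod.map_apply,
      Equiv.subtypeEquiv_apply, MulEquiv.toEquiv_eq_coe, MulEquiv.coe_toEquiv]
    have hcp : ((MulAut.conj c) p * (MulAut.conj c) r) ^
        (orderOf ((MulAut.conj c) p * (MulAut.conj c) r) / 2) =
        (MulAut.conj c) ((p * r) ^ (orderOf (p * r) / 2)) := by
      rw [← map_mul, MulEquiv.orderOf_eq, ← map_pow]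
    constructor
    · intro h
      exact Subtype.ext (hcp.trans (congrArg (MulAut.conj c) (congrArg Subtype.val h)))
    · intro h
      exact Subtype.ext ((MulAut.conj c).injective (hcp.symm.trans (congrArg Subtype.val h)))
  have hsum : Nat.card Z' * Nat.card R' = Nat.card R' * Nat.card F := by
    haveI := Fintype.ofFinite R'
    rw [← Nat.card_prod, Nat.card_congr (Equiv.sigmaFiberEquiv f).symm, Nat.card_sigma]
    simp only [hfib]
    rw [Finset.sum_const, Finset.card_univ, ← Nat.card_eq_fintype_card, smul_eq_mul]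
  -- the pairs attached to `7`
  let P := {x : I × I // x.2 = x.1 ∨ ¬ x.2.1 * x.1.1 = x.1.1 * x.2.1}
  have hwk : ∀ k : I, IsConj (D.val 7) (D.val 7 * k.1) := by
    intro k
    obtain ⟨hk, hk2, hk1⟩ := (hI k.1).1 k.2
    have hkw := hcw k.1 hk
    have hwne : D.val 7 ∉ J := fun h => (B.w_sq (IsConj.refl _)).2.1 (hWJ _ hwW h)
    rcases B.invol_G2 S (mul_mem (B.mem2_w S (IsConj.refl _)) (hJC hk).2) (by
        calc D.val 7 * k.1 * (D.val 7 * k.1) = D.val 7 * (k.1 * D.val 7) * k.1 := by group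
          _ = D.val 7 * D.val 7 * (k.1 * k.1) := by rw [hkw]; group
          _ = 1 := by rw [hw2, hk2, mul_one]) (fun e => hwne (by
            rw [eq_inv_of_mul_eq_one_left e]; exact inv_mem hk)) with h | h
    · exfalso
      have := ((hI _).1 ⟨h, by rw [mul_assoc, hkw, ← mul_assoc]⟩).1
      exact hwne (by simpa [mul_assoc] using mul_mem this (inv_mem hk))
    · exact h
  have hkey : ∀ (p k : I) (j : ℕ),
      (p.1 * (D.val 7 * k.1)) ^ j = D.val 7 ^ j * (p.1 * k.1) ^ j := by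
    intro p k j
    have hc : Commute (D.val 7) (p.1 * k.1) :=
      Commute.mul_right p.2.2.symm k.2.2.symm
    rw [← hc.mul_pow, ← mul_assoc, p.2.2, mul_assoc]
  have hodd : ∀ (p k : I), (k = p ∨ ¬ k.1 * p.1 = p.1 * k.1) →
      ∀ i, (p.1 * (D.val 7 * k.1)) ^ (orderOf (p.1 * (D.val 7 * k.1)) / 2) = i → i = D.val 7 := by
    intro p k hpk i hi
    obtain ⟨hp, hp2, hp1⟩ := (hI p.1).1 p.2
    obtain ⟨hk, hk2, hk1⟩ := (hI k.1).1 k.2
    have hm : Odd (orderOf (p.1 * k.1)) := by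
      rcases hpk with rfl | hne
      · rw [hp2, orderOf_one]; exact odd_one
      refine Nat.not_even_iff_odd.1 fun ⟨t, ht⟩ => hne ?_
      set x := p.1 * k.1 with hx
      have ht0 : 0 < t := by
        have := orderOf_pos x
        omega
      set i := x ^ t with hi
      have hii : i * i = 1 := by rw [hi, ← pow_add, ← ht, pow_orderOf_eq_one]
      have hi1 : i ≠ 1 := fun e => by
        have := Nat.le_of_dvd ht0 (orderOf_dvd_of_pow_eq_one e)
        omega
      have hpi : p.1 * i = i * p.1 := by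
        have := conj_pow_inv hp2 hk2 t
        rw [← hx, ← hi, inv_eq_of_mul_eq_one_right hii] at this
        exact mul_inv_eq_iff_eq_mul.1 this
      have hki : k.1 * i = i * k.1 := by
        have e : k.1 = p.1 * x := by rw [hx, ← mul_assoc, hp2, one_mul]
        have : x * i = i * x := by rw [hi, ← pow_succ', ← pow_succ]
        rw [e, mul_assoc, this, ← mul_assoc, hpi, mul_assoc]
      obtain ⟨c, hc, hce⟩ := hone i (pow_mem (mul_mem hp hk) t) hii hi1
      have key : ∀ a ∈ J, a * i = i * a → c⁻¹ * a * c ∈ vS D := fun a ha h =>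
        hJz _ (mul_mem (mul_mem (inv_mem hc) ha) hc) (by
          calc c⁻¹ * a * c * z = c⁻¹ * (a * (c * z * c⁻¹)) * c := by group
            _ = z * (c⁻¹ * a * c) := by rw [hce, h, ← hce]; group)
      have h := B.eS_comm S (B.vS_le S (key _ hk hki)) (B.vS_le S (key _ hp hpi))
      calc k.1 * p.1 = c * (c⁻¹ * k.1 * c * (c⁻¹ * p.1 * c)) * c⁻¹ := by group
        _ = p.1 * k.1 := by rw [h]; group
    obtain ⟨t, ht⟩ := hm
    have hw : D.val 7 ^ (2 * t + 1) = D.val 7 := by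
      rw [pow_succ, pow_mul, pow_two (D.val 7), hw2, one_pow, one_mul]
    have h : (p.1 * (D.val 7 * k.1)) ^ (2 * t + 1) = D.val 7 := by
      rw [hkey p k (2 * t + 1), hw, ← ht, pow_orderOf_eq_one, mul_one]
    rw [← hi]
    exact (pow_half_eq h hw2 (B.w_sq (IsConj.refl _)).2.1).2
  have hPF : Nat.card F = Nat.card P := by
    refine (Nat.card_congr (Equiv.ofBijective (fun x : P =>
      (⟨(⟨x.1.1.1, x.1.1.2.1⟩, ⟨D.val 7 * x.1.2.1, hwk x.1.2⟩),
        Subtype.ext (hodd x.1.1 x.1.2 x.2 _ rfl)⟩ : F)) ⟨?_, ?_⟩)).symm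
    · rintro ⟨⟨p, k⟩, h⟩ ⟨⟨p', k'⟩, h'⟩ e
      have e1 := congrArg (fun x : F => x.1.1.1) e
      have e2 := congrArg (fun x : F => x.1.2.1) e
      exact Subtype.ext (Prod.ext (Subtype.ext e1) (Subtype.ext (mul_left_cancel e2)))
    · rintro ⟨⟨⟨p, hp⟩, ⟨r, hr⟩⟩, hx⟩
      have hx' : (p * r) ^ (orderOf (p * r) / 2) = D.val 7 := congrArg Subtype.val hx
      obtain ⟨hp2, hp1⟩ := B.invol_sq hp
      obtain ⟨hr2, hr1, hrz⟩ := B.w_sq hr
      obtain ⟨j, hj⟩ : ∃ j, orderOf (p * r) / 2 = j := ⟨_, rfl⟩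
      rw [hj] at hx'
      have hpw : p * D.val 7 = D.val 7 * p := by
        have := conj_pow_inv hp2 hr2 j
        rw [hx', inv_eq_of_mul_eq_one_right hw2] at this
        exact mul_inv_eq_iff_eq_mul.1 this
      have hrw : r * D.val 7 = D.val 7 * r := by
        have e : r = p * (p * r) := by rw [← mul_assoc, hp2, one_mul]
        have h : p * r * D.val 7 = D.val 7 * (p * r) := by rw [← hx', ← pow_succ', ← pow_succ]
        rw [e, mul_assoc p (p * r), h, ← mul_assoc, hpw, mul_assoc]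
      obtain ⟨k, hk, a, ha, rfl⟩ := hdec r ⟨mem_centralizer_singleton_iff.2 hrw, B.mem2_w S hr⟩
      have hpJ := ((hI p).1 ⟨hp, hpw⟩).1
      have hka : k * a = a * k := hWc a ha k (hJC hk)
      have hpa : p * a = a * p := hWc a ha p (hJC hpJ)
      have ha2 : a * a = 1 := B.eS_sq S (hWE ha)
      have hk2 : k * k = 1 := by
        calc k * k = k * k * (a * a) := by rw [ha2, mul_one]
          _ = k * (k * a) * a := by group
          _ = k * (a * k) * a := by rw [hka]
          _ = k * a * (k * a) := by group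
          _ = 1 := hr2
      have hc : Commute a (p * k) := Commute.mul_right hpa.symm hka.symm
      have hxe : p * (k * a) = a * (p * k) := by rw [← mul_assoc, hc.eq]
      rw [hxe, hc.mul_pow] at hx'
      have hin : (p * k) ^ j ∈ W := by
        rw [eq_inv_mul_of_mul_eq hx']
        exact mul_mem (inv_mem (pow_mem ha j)) hwW
      have hpk : (p * k) ^ j = 1 := hWJ _ hin (pow_mem (mul_mem hpJ hk) j)
      rw [hpk, mul_one] at hx'
      rcases Nat.even_or_odd' j with ⟨t, rfl | rfl⟩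
      · rw [pow_mul, pow_two, ha2, one_pow] at hx'
        exact absurd hx'.symm (B.w_sq (IsConj.refl _)).2.1
      rw [pow_succ, pow_mul, pow_two, ha2, one_pow, one_mul] at hx'
      subst hx'
      have hk1 : k ≠ 1 := fun e => by
        rw [e, mul_one, pow_succ, pow_mul, pow_two, hp2, one_pow, one_mul] at hpk
        exact hp1 hpk
      refine ⟨⟨(⟨p, hp, hpw⟩, ⟨k, (hI k).2 ⟨hk, hk2, hk1⟩⟩), ?_⟩, ?_⟩
      · by_cases hcom : k * p = p * k
        · left
          have h2 : (p * k) ^ 2 = 1 := by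
            rw [pow_two]
            calc p * k * (p * k) = p * (k * p) * k := by group
              _ = p * p * (k * k) := by rw [hcom]; group
              _ = 1 := by rw [hp2, hk2, mul_one]
          rw [pow_succ, pow_mul, h2, one_pow, one_mul] at hpk
          refine Subtype.ext ?_
          show k = p
          rw [← inv_eq_of_mul_eq_one_right hpk, inv_eq_of_mul_eq_one_right hp2]
        · exact Or.inr hcom
      · exact Subtype.ext (Prod.ext rfl (Subtype.ext hka.symm))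

  have hPcard : Nat.card P = Nat.card I * (Nat.card I - 2) := by
    have e : P ≃ Σ p : I, {k : I // k = p ∨ ¬ k.1 * p.1 = p.1 * k.1} :=
      ⟨fun x => ⟨x.1.1, x.1.2, x.2⟩, fun x => ⟨(x.1, x.2.1), x.2.2⟩, fun _ => rfl, fun _ => rfl⟩
    rw [Nat.card_congr e, Nat.card_sigma]
    have h1 : ∀ p : I, Nat.card {k : I // k = p ∨ ¬ k.1 * p.1 = p.1 * k.1} = Nat.card I - 2 := by
      intro p
      rw [Nat.card_eq_fintype_card, Fintype.card_subtype, Nat.card_eq_fintype_card,
        ← Finset.card_univ]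
      have h2 := hcomm3 p.1 p.2.1 p.2.2
      have h3 := Finset.card_filter_add_card_filter_not (s := (Finset.univ : Finset I))
        (fun q : I => q.1 * p.1 = p.1 * q.1)
      have h4 : (Finset.univ.filter fun k : I => k = p ∨ ¬ k.1 * p.1 = p.1 * k.1).card =
          1 + (Finset.univ.filter fun q : I => ¬ q.1 * p.1 = p.1 * q.1).card := by
        rw [Finset.filter_or, Finset.card_union_of_disjoint]
        · rw [Finset.filter_eq', if_pos (Finset.mem_univ _), Finset.card_singleton]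
        · rw [Finset.disjoint_filter]
          rintro x - rfl h
          exact h rfl
      omega
    rw [Finset.sum_congr rfl fun p _ => h1 p, Finset.sum_const, Finset.card_univ,
      Nat.card_eq_fintype_card, smul_eq_mul]
  have hzC : z ∈ J := hVJ hzV
  have hIcard : 4 * Nat.card I = Nat.card J := by
    have e1 : Nat.card I = Nat.card {k : J // IsConj (⟨z, hzC⟩ : J) k} := by
      refine Nat.card_congr ?_
      refine ⟨fun p => ⟨⟨p.1, ((hI p.1).1 p.2).1⟩, ?_⟩, fun k => ⟨k.1.1, ?_⟩, fun _ => rfl, fun _ => rfl⟩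
      · obtain ⟨hp, hp2, hp1⟩ := (hI p.1).1 p.2
        obtain ⟨c, hc, hce⟩ := hone p.1 hp hp2 hp1
        exact isConj_iff.2 ⟨⟨c, hc⟩, Subtype.ext hce⟩
      · obtain ⟨c, hc⟩ := isConj_iff.1 k.2
        exact ⟨isConj_iff.2 ⟨c.1, congrArg Subtype.val hc⟩, hcw _ k.1.2⟩
    have e2 : Nat.card (centralizer ({⟨z, hzC⟩} : Set J)) = 4 := by
      have e : centralizer ({⟨z, hzC⟩} : Set J) = (vS D).subgroupOf J := by
        ext x
        rw [mem_centralizer_singleton_iff, mem_subgroupOf]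
        exact ⟨fun h => hJz _ x.2 (congrArg Subtype.val h),
          fun h => Subtype.ext (B.eS_comm S (B.vS_le S h) (B.vS_le S hzV))⟩
      rw [e, Nat.card_congr (subgroupOfEquivOfLe hVJ).toEquiv, vS, D.card_grp]
      rfl
    rw [e1, card_conj_eq_index, ← e2, card_mul_index]
  have hR : 0 < Nat.card R' := Nat.card_pos_iff.2 ⟨⟨w0⟩, inferInstance⟩
  have hZ : Nat.card Z' = Nat.card I * (Nat.card I - 2) := by
    rw [hPF, hPcard, mul_comm (Nat.card Z')] at hsum
    exact Nat.eq_of_mul_eq_mul_left hR hsum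
  have hG : Nat.card G = 768 * Nat.card Z' := by
    rw [card_conj_eq_index, ← D.card_cent, card_mul_index]
  rcases hJcard with h12 | h60
  · refine hO ?_
    have h3 : Nat.card I = 3 := by omega
    rw [h3] at hZ
    rw [hZ] at hG
    exact CfsgLib.Chars.isSolvable_of_card_eq_pow_mul_pow Nat.prime_two Nat.prime_three
      (a := 8) (b := 2) (by rw [hG]; norm_num)
  · have h15 : Nat.card I = 15 := by omega
    exact B.false_of_count S h15 (hZ.trans (by rw [h15]))

end Bad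

/-- The class of `7` consists of conjugates of the central involution. -/
theorem seven_fused {G : Type u} [Group G] [Finite G] {z : G} (D : Cen 0 z)
    (hu : IsConj z (D.val uN)) (S : Tower D) (hO : ¬ Group.IsSolvable G)
    (hout : ∀ m ∈ [24, 1, 26], ¬ IsConj z (D.val m)) : IsConj z (D.val 7) :=
  Classical.byContradiction fun h => Bad.false_of_bad S ⟨hu, hout, h⟩ hO

end CfsgLib.L34Cent
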