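import Cfsg.Agent.Lib.L34Cent.Local

/-!
# The Sylow two-subgroup of the model is one of the whole group
-/

set_option autoImplicit false
set_option linter.unusedSectionVars false
set_option linter.style.haveILetI false
set_option maxRecDepth 100000
set_option maxHeartbeats 1000000

namespace CfsgLib.L34Cent

universe u

/-- the elements of the Sylow subgroup of a model -/
def sylE (k : ℕ) : List ℕ := [sylE0, sylE1, sylE2, sylE3].getD k []

/-- its spanning tree -/
def sylT (k : ℕ) : List ℕ := [sylT0, sylT1, sylT2, sylT3].getD k []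

/-- its generators -/
def sylGen (k : ℕ) : List ℕ := sylG.getD k []

theorem syl_basic : ∀ k ∈ List.range 4, (sylE k).length = 256 ∧ (∀ x ∈ sylE k, x < 768) ∧
    (sylE k).Nodup ∧ (∀ g ∈ sylGen k, g ∈ sylE k) ∧ (sylE k).getD 0 1 = 0 ∧ zN ∈ sylE k := by
  decide +kernel

theorem syl_closed : ∀ k ∈ List.range 4, ∀ x ∈ sylE k, ∀ g ∈ sylGen k,
    mulN k x g ∈ sylE k := by decide +kernel

theorem syl_tree : ∀ k ∈ List.range 4, ∀ i ∈ List.range 256, i = 0 ∨
    ((sylT k).getD i 0 / 8 < i ∧ (sylT k).getD i 0 % 8 < (sylGen k).length ∧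
      mulN k ((sylE k).getD ((sylT k).getD i 0 / 8) 0)
        ((sylGen k).getD ((sylT k).getD i 0 % 8) 0) = (sylE k).getD i 0) := by decide +kernel

theorem syl_central : ∀ k ∈ List.range 4, ∀ x ∈ sylE k,
    (∀ g ∈ sylGen k, mulN k x g = mulN k g x) → x = 0 ∨ x = zN := by decide +kernel

namespace Cen

variable {k : ℕ} {G : Type u} [Group G] [Finite G] {z : G} (D : Cen k z)
include D

/-- The image of the Sylow subgroup. -/
theorem exists_sylow_image : ∃ S : Subgroup G, Nat.card S = 256 ∧ z ∈ S ∧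
    S ≤ Subgroup.centralizer ({z} : Set G) ∧
    ∀ s ∈ S, (∀ p ∈ S, s * p = p * s) → s = 1 ∨ s = z := by
  obtain ⟨hlen, hlt, hnd, hg, h0, hz⟩ := syl_basic k D.hkr
  have hgetm : ∀ i, i < 256 → (sylE k).getD i 0 ∈ sylE k := fun i hi => by
    rw [List.getD_eq_getElem _ _ (by omega)]
    exact List.getElem_mem _
  let T : Set G := {y | ∃ x ∈ sylE k, D.val x = y}
  have hmul : ∀ j, j < 256 → ∀ x ∈ sylE k,
      D.val x * D.val ((sylE k).getD j 0) ∈ T := by
    intro j
    induction j using Nat.strong_induction_on with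
    | _ j ih =>
      intro hj x hx
      rcases syl_tree k D.hkr j (List.mem_range.2 hj) with rfl | ⟨h1, h2, h3⟩
      · refine ⟨x, hx, ?_⟩
        rw [show (sylE k).getD 0 0 = 0 by
          rw [List.getD_eq_getElem _ _ (by omega)] at h0 ⊢; exact h0, D.val_zero, mul_one]
      · obtain ⟨y, hy, hyv⟩ := ih _ h1 (by omega) x hx
        set g := (sylGen k).getD ((sylT k).getD j 0 % 8) 0 with hgdef
        have hgm : g ∈ sylGen k := by
          rw [hgdef, List.getD_eq_getElem _ _ h2]; exact List.getElem_mem _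
        refine ⟨mulN k y g, syl_closed k D.hkr y hy g hgm, ?_⟩
        rw [D.val_mul y g (hlt y hy) (hlt g (hg g hgm)), hyv, ← h3,
          D.val_mul _ g (hlt _ (hgetm _ (by omega))) (hlt g (hg g hgm)), mul_assoc]
  have hT : ∀ a ∈ T, ∀ b ∈ T, a * b ∈ T := by
    rintro _ ⟨x, hx, rfl⟩ _ ⟨y, hy, rfl⟩
    obtain ⟨j, hj, rfl⟩ := List.getElem_of_mem hy
    have := hmul j (by omega) x hx
    rwa [List.getD_eq_getElem _ _ hj] at this
  have hone : (1 : G) ∈ T := ⟨0, by
    have := hgetm 0 (by norm_num)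
    rwa [show (sylE k).getD 0 0 = 0 by
      rw [List.getD_eq_getElem _ _ (by omega)] at h0 ⊢; exact h0] at this, D.val_zero⟩
  let M : Submonoid G := { carrier := T, mul_mem' := fun ha hb => hT _ ha _ hb, one_mem' := hone }
  have hinv : ∀ a ∈ T, a⁻¹ ∈ T := fun a ha => by
    have hpow : ∀ n : ℕ, a ^ n ∈ M := fun n => Submonoid.pow_mem M ha n
    have := hpow (orderOf a - 1)
    rwa [pow_sub a (orderOf_pos a), pow_one, pow_orderOf_eq_one, one_mul] at this
  refine ⟨{ carrier := T, mul_mem' := fun ha hb => hT _ ha _ hb, one_mem' := hone,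
            inv_mem' := fun ha => hinv _ ha }, ?_, ⟨zN, hz, D.val_z⟩, ?_, ?_⟩
  · rw [← hlen, ← D.card_image hlt hnd]
    rfl
  · rintro _ ⟨x, hx, rfl⟩
    exact D.mem_cent_iff.2 ⟨x, hlt x hx, rfl⟩
  · rintro _ ⟨x, hx, rfl⟩ hc
    rcases syl_central k D.hkr x hx (fun g hgm => D.mul_val_eq (hlt x hx) (hlt g (hg g hgm))
      (hc _ ⟨g, hg g hgm, rfl⟩)) with rfl | rfl
    exacts [Or.inl D.val_zero, Or.inr D.val_z]

theorem not_dvd_card_group : ¬ 2 ^ 9 ∣ Nat.card G := by
  intro h
  obtain ⟨S, hS, hzS, hSH, hcen⟩ := D.exists_sylow_image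
  obtain ⟨Q, hSQ, -, hQ, hn⟩ := exists_above (P := S) (C := ⊤) le_top (a := 8)
    (by rw [hS]; norm_num) (by rwa [Subgroup.card_top])
  have hQz : Q ≤ Subgroup.centralizer ({z} : Set G) := fun g hg => by
    have h1 := hn g hg z hzS
    rcases hcen _ h1 (fun p hp => by
      have hp' : g⁻¹ * p * g ∈ S := by simpa using hn g⁻¹ (inv_mem hg) p hp
      have hc := Subgroup.mem_centralizer_singleton_iff.1 (hSH hp')
      calc g * z * g⁻¹ * p = g * (z * (g⁻¹ * p * g)) * g⁻¹ := by group
        _ = g * (g⁻¹ * p * g * z) * g⁻¹ := by rw [hc]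
        _ = p * (g * z * g⁻¹) := by group) with e | e
    · rw [conj_eq_one_iff] at e
      have := D.ord
      rw [e, orderOf_one] at this
      norm_num at this
    · exact Subgroup.mem_centralizer_singleton_iff.2 (mul_inv_eq_iff_eq_mul.1 e)
  have := Subgroup.card_dvd_of_le hQz
  rw [hQ, D.card_cent] at this
  norm_num at this

/-- The centraliser has odd index. -/
theorem odd_index : Odd (Subgroup.centralizer ({z} : Set G)).index := by
  rw [Nat.odd_iff, ← Nat.two_dvd_ne_zero]
  intro h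
  apply D.not_dvd_card_group
  rw [← Subgroup.card_mul_index (Subgroup.centralizer ({z} : Set G)), D.card_cent,
    show (768 : ℕ) = 2 ^ 8 * 3 by norm_num, pow_succ 2 8]
  exact Nat.mul_dvd_mul (Dvd.intro 3 rfl) h

end Cen

end CfsgLib.L34Cent
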