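import Cfsg.Agent.Lib.L34Cent.Local

/-!
# Finite checks for the transfers
-/

set_option autoImplicit false
set_option maxRecDepth 100000

namespace CfsgLib.L34Cent

/-- the parity of the four generators in an element of `Q` -/
def parQ (q : ℕ) : ℕ := (q % 2 + q / 2 % 2 + q / 4 % 2 + q / 8 % 2) % 2

/-- the sign of a permutation -/
def parP (j : ℕ) : ℕ := (j % 2 + [0, 1, 0].getD (j / 2 % 3) 0 + j / 6) % 2

theorem chiQ_eq (m : ℕ) : chiQ m = parQ (m / 24) := by
  unfold chiQ parQ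
  rw [Nat.div_div_eq_div_mul, Nat.div_div_eq_div_mul, Nat.div_div_eq_div_mul]

theorem chiP_eq (m : ℕ) : chiP m = parP (m % 24) := by
  unfold chiP parP
  rw [Nat.mod_mod_of_dvd m (by norm_num : 2 ∣ 24)]

theorem par_check : (∀ a ∈ List.range 32, ∀ b ∈ List.range 32,
      parQ (qMul a b) = (parQ a + parQ b) % 2) ∧
    (∀ j ∈ List.range 24, ∀ q ∈ List.range 32, parQ (qAct j q) = parQ q) ∧
    (∀ a ∈ List.range 24, ∀ b ∈ List.range 24, parP (pMul a b) = (parP a + parP b) % 2) ∧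
    parQ 16 = 0 ∧ parQ 0 = 0 := by decide +kernel

theorem qMul_lt32 (a b : ℕ) : qMul a b < 32 := Nat.mod_lt _ (by norm_num)

theorem qAct_lt32 (a b : ℕ) : qAct a b < 32 := Nat.mod_lt _ (by norm_num)

theorem chiQ_mul {k m n : ℕ} (hm : m < 768) (hn : n < 768) :
    chiQ (mulN k m n) = (chiQ m + chiQ n) % 2 := by
  obtain ⟨h1, h2, -, h4, h5⟩ := par_check
  simp only [chiQ_eq]
  have e : mulN k m n / 24 =
      qMul (qMul (m / 24) (qAct (m % 24) (n / 24))) (16 * coc k (m % 24) (n % 24)) := by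
    have : pMul (m % 24) (n % 24) < 24 := Nat.mod_lt _ (by norm_num)
    unfold mulN
    omega
  have hc : coc k (m % 24) (n % 24) < 2 := Nat.mod_lt _ (by norm_num)
  have hz : parQ (16 * coc k (m % 24) (n % 24)) = 0 := by
    interval_cases coc k (m % 24) (n % 24)
    exacts [h5, h4]
  rw [e, h1 _ (List.mem_range.2 (qMul_lt32 ..)) _ (List.mem_range.2 (by omega)), hz, add_zero,
    h1 _ (List.mem_range.2 (by omega)) _ (List.mem_range.2 (qAct_lt32 ..)),
    h2 _ (List.mem_range.2 (Nat.mod_lt _ (by norm_num))) _ (List.mem_range.2 (by omega)),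
    Nat.mod_mod]

theorem chiP_mul {k m n : ℕ} : chiP (mulN k m n) = (chiP m + chiP n) % 2 := by
  simp only [chiP_eq]
  have e : mulN k m n % 24 = pMul (m % 24) (n % 24) := by
    have : pMul (m % 24) (n % 24) < 24 := Nat.mod_lt _ (by norm_num)
    unfold mulN
    omega
  rw [e, par_check.2.2.1 _ (List.mem_range.2 (Nat.mod_lt _ (by norm_num))) _
    (List.mem_range.2 (Nat.mod_lt _ (by norm_num)))]

/-- an element as a word in involutions -/
def invWord (m : ℕ) : List ℕ :=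
  (if m / 24 % 2 = 1 then [24] else []) ++ (if m / 48 % 2 = 1 then [48] else []) ++
  (if m / 96 % 2 = 1 then [96] else []) ++ (if m / 192 % 2 = 1 then [192] else []) ++
  (if m / 384 = 1 then [384] else []) ++ [[], [1]].getD (m % 2) [] ++
  [[], [2], [2, 1]].getD (m % 24 / 2 % 3) [] ++ [[], [6], [6, 2], [6, 2, 1]].getD (m % 24 / 6) []

theorem word_check : ∀ m ∈ els, (invWord m).foldl (fun a g => mulN 0 a g) 0 = m := by
  decide +kernel

theorem gen_check : ∀ m ∈ els, ∀ g ∈ invWord m, g < 768 ∧ g ≠ 0 ∧ mulN 0 g g = 0 := by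
  decide +kernel

theorem cls_chi : ∀ p ∈ clsL 0, p.1 ∈ [zN, uN, 24, 1, 7, 26] ∧
    ∀ m ∈ p.2, chiQ m = chiQ p.1 ∧ chiP m = chiP p.1 := by decide +kernel

theorem sep_check : (sylL 0 24).length = 32 ∧ (sylL 0 1).length = 32 ∧ (sylL 0 26).length = 16 ∧
    ((sylL 0 24).filter fun q => mulN 0 q q == 0).length ≠
      ((sylL 0 1).filter fun q => mulN 0 q q == 0).length ∧
    (∀ q ∈ sylL 0 7, powN 0 q 4 = 0) ∧ (∃ q ∈ sylL 0 24, powN 0 q 4 ≠ 0) ∧
    (∃ q ∈ sylL 0 1, powN 0 q 4 ≠ 0) ∧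
    (∀ a ∈ [24, 1, 26], (0, a, sylL 0 a) ∈ sylTbl.filter (fun q => q.2.1 != 0) ∧
      ∀ n ∈ sqCand 0 (sylL 0 a), n = 0 ∨ n = zN) := by decide +kernel

end CfsgLib.L34Cent
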