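import Cfsg.Agent.Lib.L34Cent.Fusion
import Cfsg.Agent.Lib.L34Cent.Interface
import Cfsg.Agent.Lib.L34Cent.TowerCheck

/-!
# Transfers to the two characters of the centraliser
-/

set_option autoImplicit false
set_option linter.unusedSectionVars false
set_option linter.style.haveILetI false
set_option maxRecDepth 100000
set_option maxHeartbeats 1000000

namespace CfsgLib.L34Cent

universe u

attribute [local irreducible] sylL sqCand centL

namespace Cen

variable {G : Type u} [Group G] [Finite G] {z : G} (D : Cen 0 z)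
include D

theorem exists_cls (a : ℕ) (ha : a ∈ [zN, uN, 24, 1, 7, 26]) : ∃ p ∈ clsL 0, p.1 = a := by
  have : ∀ a ∈ [zN, uN, 24, 1, 7, 26], ∃ p ∈ clsL 0, p.1 = a := by decide +kernel
  exact this a ha

theorem not_conj_three {a : ℕ} (ha : a ∈ [24, 1, 26]) : ¬ IsConj z (D.val a) := by
  obtain ⟨p, hp, rfl⟩ := D.exists_cls a (by
    simp only [List.mem_cons, List.not_mem_nil, or_false] at ha ⊢
    tauto)
  simp only [List.mem_cons, List.not_mem_nil, or_false] at ha
  rcases ha with h | h | h <;>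
    exact D.not_conj_out hp (by rw [h]; decide) (by rw [h]; decide) (by rw [h]; decide)

/-- A conjugation between two Sylow subgroups of centralisers. -/
theorem exists_transport {a b : ℕ} (hla : IsSub 0 (sylL 0 a)) (hlb : IsSub 0 (sylL 0 b))
    (hca : D.grp hla ≤ Subgroup.centralizer ({D.val a} : Set G))
    (hcb : D.grp hlb ≤ Subgroup.centralizer ({D.val b} : Set G))
    (ha : (sylL 0 a).length = 32) (hb : (sylL 0 b).length = 32)
    (hb6 : ¬ 2 ^ 6 ∣ Nat.card (Subgroup.centralizer ({D.val b} : Set G)))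
    (h : IsConj (D.val a) (D.val b)) :
    ∃ g : G, ∀ x, x ∈ D.grp hla ↔ g * x * g⁻¹ ∈ D.grp hlb := by
  classical
  haveI : Fact (Nat.Prime 2) := ⟨Nat.prime_two⟩
  obtain ⟨h0, hh⟩ := isConj_iff.1 h
  set C := Subgroup.centralizer ({D.val b} : Set G) with hC
  set Pa := (D.grp hla).map (MulAut.conj h0).toMonoidHom with hPa
  have hPaC : Pa ≤ C := by
    rintro _ ⟨x, hx, rfl⟩
    have := Subgroup.mem_centralizer_singleton_iff.1 (hca hx)
    rw [hC, Subgroup.mem_centralizer_singleton_iff, ← hh]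
    show h0 * x * h0⁻¹ * (h0 * D.val a * h0⁻¹) = h0 * D.val a * h0⁻¹ * (h0 * x * h0⁻¹)
    calc _ = h0 * (x * D.val a) * h0⁻¹ := by group
      _ = h0 * (D.val a * x) * h0⁻¹ := by rw [this]
      _ = _ := by group
  have syl : ∀ (P : Subgroup G), P ≤ C → Nat.card P = 32 →
      ∃ S : Sylow 2 C, (S : Subgroup C) = P.subgroupOf C := by
    intro P hP h32
    have hc : Nat.card (P.subgroupOf C) = 2 ^ 5 := by
      rw [Nat.card_congr (Subgroup.subgroupOfEquivOfLe hP).toEquiv, h32]; norm_num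
    refine ⟨Sylow.ofCard (P.subgroupOf C) ?_, rfl⟩
    rw [hc]
    congr 1
    have hd : 2 ^ 5 ∣ Nat.card C := hc ▸ Subgroup.card_subgroup_dvd_card _
    have h1 := (Nat.Prime.pow_dvd_iff_le_factorization Nat.prime_two Nat.card_pos.ne').1 hd
    have h2 : ¬ 6 ≤ (Nat.card C).factorization 2 := fun h => hb6
      ((Nat.Prime.pow_dvd_iff_le_factorization Nat.prime_two Nat.card_pos.ne').2 h)
    omega
  have hca' : Nat.card Pa = 32 := by
    rw [hPa, Subgroup.card_map_of_injective (MulAut.conj h0).injective, D.card_grp, ha]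
  obtain ⟨S, hS⟩ := syl Pa hPaC hca'
  obtain ⟨T, hT⟩ := syl (D.grp hlb) hcb (by rw [D.card_grp, hb])
  obtain ⟨c, hc⟩ := MulAction.exists_smul_eq C S T
  refine ⟨(c : G) * h0, fun x => ?_⟩
  have key : ∀ y : C, y ∈ (S : Subgroup C) ↔ c * y * c⁻¹ ∈ (T : Subgroup C) := by
    intro y
    rw [← hc, Sylow.coe_subgroup_smul, Subgroup.mem_pointwise_smul_iff_inv_smul_mem]
    simp [MulAut.smul_def, mul_assoc]
  constructor
  · intro hx
    have hy : h0 * x * h0⁻¹ ∈ Pa := ⟨x, hx, rfl⟩
    have := (key ⟨_, hPaC hy⟩).1 (by rw [hS]; exact hy)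
    rw [hT] at this
    simpa [Subgroup.mem_subgroupOf, mul_assoc] using this
  · intro hx
    have hy : (c : G) * (h0 * x * h0⁻¹) * (c : G)⁻¹ ∈ D.grp hlb := by simpa [mul_assoc] using hx
    have hmem : h0 * x * h0⁻¹ ∈ C := by
      have := mul_mem (mul_mem (inv_mem c.2) (hcb hy)) c.2
      simpa [mul_assoc] using this
    have := (key ⟨_, hmem⟩).2 (by rw [hT]; exact hy)
    rw [hS] at this
    obtain ⟨x', hx', e⟩ := (Subgroup.mem_subgroupOf.1 this : h0 * x * h0⁻¹ ∈ Pa)
    rwa [← (MulAut.conj h0).injective e]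

theorem two_part' {a e : ℕ} (ha : a ∈ [24, 1, 26]) (he : (sylL 0 a).length = 2 ^ e) :
    ¬ 2 ^ (e + 1) ∣ Nat.card (Subgroup.centralizer ({D.val a} : Set G)) := by
  obtain ⟨hmem, hc⟩ := sep_check.2.2.2.2.2.2.2 a ha
  exact D.two_part hmem he fun n hn h0 hz => by
    rcases hc n hn with e | e
    exacts [absurd e h0, absurd e hz]

/-- Fused involutions of the centraliser have the same characters. -/
theorem chi_rep (hu : IsConj z (D.val uN)) {a b : ℕ} (ha : a ∈ [zN, uN, 24, 1, 7, 26])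
    (hb : b ∈ [zN, uN, 24, 1, 7, 26]) (h : IsConj (D.val a) (D.val b)) :
    chiQ a = chiQ b ∧ chiP a = chiP b := by
  obtain ⟨l24, l1, l26, hcnt, h7e, h24e, h1e, hsep⟩ := sep_check
  have nz := fun {c : ℕ} (hc : c ∈ [24, 1, 26]) => D.not_conj_three hc
  have hz : IsConj (D.val zN) z := by rw [D.val_z]
  have inner : ∀ {a b : ℕ}, a ∈ [24, 1, 7] → b = 26 → ¬ IsConj (D.val a) (D.val b) := by
    rintro a b ha rfl hc
    apply D.two_part' (a := 26) (e := 4) (by simp) (by rw [l26]; norm_num)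
    rw [← card_cent_eq_of_conj hc]
    have hm : (0, a, sylL 0 a) ∈ sylTbl.filter (fun q => q.2.1 != 0) ∧
        (sylL 0 a).length = 32 := by
      simp only [List.mem_cons, List.not_mem_nil, or_false] at ha
      rcases ha with rfl | rfl | rfl
      exacts [⟨(hsep 24 (by simp)).1, l24⟩, ⟨(hsep 1 (by simp)).1, l1⟩,
        ⟨(seven_check 0 (by simp)).1, (seven_check 0 (by simp)).2.1⟩]
    obtain ⟨hs, -, -, hc', -⟩ := syl_check_small (_, _, _) hm.1
    obtain ⟨ha', hcm, -, -⟩ := hc' (by simpa using (List.mem_filter.1 hm.1).2)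
    have := Subgroup.card_dvd_of_le (D.grp_le_cent hs ha' hcm)
    rw [D.card_grp, hm.2] at this
    exact (show (2 : ℕ) ^ 5 = 32 by norm_num) ▸ this
  have tr : ∀ {a b : ℕ}, a ∈ [7, 24] → b ∈ [24, 1] → a ≠ b → ¬ IsConj (D.val a) (D.val b) := by
    intro a b ha hb hab hc
    by_cases h7 : a = 7 ∧ IsConj z (D.val 7)
    · obtain ⟨rfl, h7⟩ := h7
      exact nz (by simp only [List.mem_cons, List.not_mem_nil, or_false] at hb ⊢; tauto)
        (h7.trans hc)
    have hma : (0, a, sylL 0 a) ∈ sylTbl.filter (fun q => q.2.1 != 0) ∧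
        (sylL 0 a).length = 32 := by
      simp only [List.mem_cons, List.not_mem_nil, or_false] at ha
      rcases ha with rfl | rfl
      exacts [⟨(seven_check 0 (by simp)).1, (seven_check 0 (by simp)).2.1⟩,
        ⟨(hsep 24 (by simp)).1, l24⟩]
    have hb' : b ∈ [24, 1, 26] := by
      simp only [List.mem_cons, List.not_mem_nil, or_false] at hb ⊢; tauto
    have hlb : (sylL 0 b).length = 32 := by
      simp only [List.mem_cons, List.not_mem_nil, or_false] at hb
      rcases hb with rfl | rfl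
      exacts [l24, l1]
    obtain ⟨hsa, -, -, hca, -⟩ := syl_check_small (_, _, _) hma.1
    obtain ⟨hsb, -, -, hcb, -⟩ := syl_check_small (_, _, _) (hsep b hb').1
    obtain ⟨ha1, ha2, -, -⟩ := hca (by simpa using (List.mem_filter.1 hma.1).2)
    obtain ⟨hb1, hb2, -, -⟩ := hcb (by simpa using (List.mem_filter.1 (hsep b hb').1).2)
    obtain ⟨g, hg⟩ := D.exists_transport hsa hsb (D.grp_le_cent hsa ha1 ha2)
      (D.grp_le_cent hsb hb1 hb2) hma.2 hlb (D.two_part' hb' (e := 5) (by rw [hlb]; norm_num)) hc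
    have hlt : ∀ m ∈ sylL 0 a, m < 768 := fun m hm => (hsa.2.2.1 m hm).1
    have hlt' : ∀ m ∈ sylL 0 b, m < 768 := fun m hm => (hsb.2.2.1 m hm).1
    have back : ∀ q ∈ sylL 0 b, ∃ m ∈ sylL 0 a, g * D.val m * g⁻¹ = D.val q := fun q hq => by
      have : g⁻¹ * D.val q * g ∈ D.grp hsa :=
        (hg _).2 (by
          rw [show g * (g⁻¹ * D.val q * g) * g⁻¹ = D.val q by group]
          exact ⟨q, hq, rfl⟩)
      obtain ⟨m, hm, e⟩ := this
      exact ⟨m, hm, by rw [e]; group⟩
    simp only [List.mem_cons, List.not_mem_nil, or_false] at ha hb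
    rcases ha with rfl | rfl
    · obtain ⟨q, hq, hne⟩ : ∃ q ∈ sylL 0 b, powN 0 q 4 ≠ 0 := by
        rcases hb with rfl | rfl
        exacts [h24e, h1e]
      obtain ⟨m, hm, e⟩ := back q hq
      refine hne (D.val_eq_one (powN_lt ..) ?_)
      rw [D.val_pow (hlt' q hq), ← e, conj_pow, ← D.val_pow (hlt m hm), h7e m hm, D.val_zero,
        mul_one, mul_inv_cancel]
    · obtain rfl : b = 1 := by tauto
      refine hcnt ?_
      rw [← D.card_image (fun m hm => hlt m (List.mem_of_mem_filter hm)) (hsa.1.filter _),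
        ← D.card_image (fun m hm => hlt' m (List.mem_of_mem_filter hm)) (hsb.1.filter _)]
      refine Nat.card_congr (Equiv.subtypeEquiv (MulAut.conj g).toEquiv fun x => ?_)
      show _ ↔ ∃ q ∈ _, D.val q = g * x * g⁻¹
      constructor
      · rintro ⟨m, hm, rfl⟩
        obtain ⟨hm, hmm⟩ := List.mem_filter.1 hm
        obtain ⟨q, hq, e⟩ := (hg _).1 ⟨m, hm, rfl⟩
        refine ⟨q, List.mem_filter.2 ⟨hq, beq_iff_eq.2 (D.val_eq_one (mulN_lt ..) ?_)⟩, e⟩
        rw [D.val_mul q q (hlt' q hq) (hlt' q hq), e, show g * D.val m * g⁻¹ *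
          (g * D.val m * g⁻¹) = g * (D.val m * D.val m) * g⁻¹ by group,
          ← D.val_mul m m (hlt m hm) (hlt m hm), beq_iff_eq.1 hmm, D.val_zero, mul_one,
          mul_inv_cancel]
      · rintro ⟨q, hq, e⟩
        obtain ⟨hq, hqq⟩ := List.mem_filter.1 hq
        obtain ⟨m, hm, e'⟩ := back q hq
        obtain rfl : D.val m = x := by
          rw [e] at e'
          simpa using e'
        refine ⟨m, List.mem_filter.2 ⟨hm, beq_iff_eq.2 (D.val_eq_one (mulN_lt ..) ?_)⟩, rfl⟩
        have : g * (D.val m * D.val m) * g⁻¹ = 1 := by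
          rw [show g * (D.val m * D.val m) * g⁻¹ = g * D.val m * g⁻¹ * (g * D.val m * g⁻¹) by
            group, e', ← D.val_mul q q (hlt' q hq) (hlt' q hq), beq_iff_eq.1 hqq, D.val_zero]
        rw [D.val_mul m m (hlt m hm) (hlt m hm)]
        exact conj_eq_one_iff.1 this
  simp only [List.mem_cons, List.not_mem_nil, or_false] at ha hb
  rcases ha with rfl | rfl | rfl | rfl | rfl | rfl <;>
    rcases hb with rfl | rfl | rfl | rfl | rfl | rfl <;>
    first
    | exact ⟨rfl, rfl⟩
    | (constructor <;> decide +kernel)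
    | (refine absurd (hz.symm.trans h) (nz ?_); decide)
    | (refine absurd (hz.symm.trans h.symm) (nz ?_); decide)
    | (refine absurd (hu.trans h) (nz ?_); decide)
    | (refine absurd (hu.trans h.symm) (nz ?_); decide)
    | (refine absurd h (inner ?_ rfl); decide)
    | (refine absurd h.symm (inner ?_ rfl); decide)
    | (refine absurd h (tr ?_ ?_ ?_) <;> decide)
    | (refine absurd h.symm (tr ?_ ?_ ?_) <;> decide)

/-- The index of an element of the centraliser. -/
noncomputable def num (g : Subgroup.centralizer ({z} : Set G)) : ℕ :=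
  (D.mem_cent_iff.1 g.2).choose

theorem num_spec (g : Subgroup.centralizer ({z} : Set G)) :
    D.num g < 768 ∧ D.val (D.num g) = g :=
  (D.mem_cent_iff.1 g.2).choose_spec

theorem num_val {m : ℕ} (hm : m < 768) (h : D.val m ∈ Subgroup.centralizer ({z} : Set G)) :
    D.num ⟨_, h⟩ = m :=
  D.val_inj _ _ (D.num_spec _).1 hm (D.num_spec ⟨_, h⟩).2

/-- A character of the model carried to the centraliser. -/
noncomputable def charHom (f : ℕ → ℕ) (hf : ∀ m n, m < 768 → n < 768 →
    f (mulN 0 m n) = (f m + f n) % 2) :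
    Subgroup.centralizer ({z} : Set G) →* Multiplicative (ZMod 2) :=
  MonoidHom.mk' (fun g => Multiplicative.ofAdd (f (D.num g) : ZMod 2)) fun a b => by
    obtain ⟨ha, ea⟩ := D.num_spec a
    obtain ⟨hb, eb⟩ := D.num_spec b
    obtain ⟨hc, ec⟩ := D.num_spec (a * b)
    have : D.num (a * b) = mulN 0 (D.num a) (D.num b) :=
      D.val_inj _ _ hc (mulN_lt ..) (by rw [D.val_mul _ _ ha hb, ea, eb, ec]; rfl)
    show Multiplicative.ofAdd _ = Multiplicative.ofAdd _ * Multiplicative.ofAdd _
    rw [this, hf _ _ ha hb, ← ofAdd_add, ZMod.natCast_mod, Nat.cast_add]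

/-- A character invariant under fusion extends to the group. -/
theorem exists_extension {f : ℕ → ℕ} (hf : ∀ m n, m < 768 → n < 768 →
    f (mulN 0 m n) = (f m + f n) % 2)
    (hinv : ∀ m n, m < 768 → n < 768 → orderOf (D.val m) = 2 → IsConj (D.val m) (D.val n) →
      f m % 2 = f n % 2) :
    ∃ φ : G →* Multiplicative (ZMod 2),
      ∀ m, m < 768 → φ (D.val m) = Multiplicative.ofAdd (f m : ZMod 2) := by
  classical
  set H := Subgroup.centralizer ({z} : Set G) with hH
  set χ := D.charHom f hf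
  have hsq : ∀ a : Multiplicative (ZMod 2), a ^ 2 = 1 := by decide
  refine ⟨MonoidHom.transfer χ, ?_⟩
  have hinvol : ∀ m, m < 768 → orderOf (D.val m) = 2 →
      MonoidHom.transfer χ (D.val m) = Multiplicative.ofAdd (f m : ZMod 2) := by
    intro m hm hv
    set v := D.val m
    set a : Multiplicative (ZMod 2) := Multiplicative.ofAdd (f m : ZMod 2) with hadef
    haveI : Fintype (Quotient (MulAction.orbitRel (Subgroup.zpowers v) (G ⧸ H))) :=
      Fintype.ofFinite _
    rw [MonoidHom.transfer_eq_prod_quotient_orbitRel_zpowers_quot]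
    have hv2 : v ^ 2 = 1 := hv ▸ pow_orderOf_eq_one v
    have hterm : ∀ q : Quotient (MulAction.orbitRel (Subgroup.zpowers v) (G ⧸ H)),
        χ ⟨q.out.out⁻¹ * v ^ Function.minimalPeriod (v • ·) q.out * q.out.out,
          QuotientGroup.out_conj_pow_minimalPeriod_mem H v q.out⟩ =
          a ^ Function.minimalPeriod (v • ·) q.out := by
      intro q
      have hP : Function.minimalPeriod (v • ·) q.out ∣ 2 := by
        refine Function.IsPeriodicPt.minimalPeriod_dvd ?_
        show ((v • ·))^[2] q.out = q.out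
        rw [smul_iterate, hv2]
        exact one_smul _ _
      set g0 := q.out.out
      have hmem := QuotientGroup.out_conj_pow_minimalPeriod_mem H v q.out
      rcases (Nat.dvd_prime Nat.prime_two).1 hP with e | e
      · simp only [e, pow_one] at hmem ⊢
        obtain ⟨n, hn, hnv⟩ := D.mem_cent_iff.1 hmem
        have hc : IsConj v (D.val n) := isConj_iff.2 ⟨g0⁻¹, by rw [inv_inv]; exact hnv.symm⟩
        show Multiplicative.ofAdd ((f (D.num ⟨_, hmem⟩) : ℕ) : ZMod 2) = _
        have : D.num ⟨_, hmem⟩ = n :=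
          D.val_inj _ _ (D.num_spec _).1 hn ((D.num_spec ⟨_, hmem⟩).2.trans hnv.symm)
        rw [this, hadef, ← ZMod.natCast_mod (f m), ← ZMod.natCast_mod (f n),
          hinv m n hm hn hv hc]
      · simp only [e, hsq]
        have : (⟨g0⁻¹ * v ^ 2 * g0, e ▸ hmem⟩ : H) = 1 := Subtype.ext (by simp [hv2])
        rw [this, map_one]
    rw [Finset.prod_congr rfl fun q _ => hterm q, Finset.prod_pow_eq_pow_sum,
      ← Subgroup.index_eq_sum_minimalPeriod]
    obtain ⟨c, hc⟩ := D.odd_index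
    rw [hH, hc, pow_succ, pow_mul, hsq, one_pow, one_mul]
  intro m hm
  have key : ∀ (l : List ℕ), (∀ g ∈ l, g < 768 ∧ g ≠ 0 ∧ mulN 0 g g = 0) →
      ∀ a, a < 768 → MonoidHom.transfer χ (D.val a) = Multiplicative.ofAdd (f a : ZMod 2) →
      MonoidHom.transfer χ (D.val (l.foldl (fun a g => mulN 0 a g) a)) =
        Multiplicative.ofAdd (f (l.foldl (fun a g => mulN 0 a g) a) : ZMod 2) := by
    intro l
    induction l with
    | nil => intro _ a _ h; exact h
    | cons g l ih =>
      intro hl a ha h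
      obtain ⟨hg, hg0, hg2⟩ := hl g List.mem_cons_self
      refine ih (fun b hb => hl b (List.mem_cons_of_mem _ hb)) _ (mulN_lt ..) ?_
      rw [D.val_mul a g ha hg, map_mul, h, hinvol g hg (D.val_invol hg hg2 hg0), hf a g ha hg,
        ZMod.natCast_mod, Nat.cast_add, ofAdd_add]
  have h0 : (f 0 : ZMod 2) = 0 := by
    have := congrArg (fun n : ℕ => (n : ZMod 2)) (hf 0 0 (by norm_num) (by norm_num))
    simp only [ZMod.natCast_mod, Nat.cast_add] at this
    rw [(invN_lt' 0 (by simp) 0 (mem_els (by norm_num))).2.2.1] at this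
    exact left_eq_add.1 this
  have := key (invWord m) (gen_check m (mem_els hm)) 0 (by norm_num)
    (by rw [D.val_zero, map_one, h0]; rfl)
  rwa [word_check m (mem_els hm)] at this

/-- The tower of normal subgroups. -/
theorem exists_tower (hu : IsConj z (D.val uN)) : Nonempty (Tower D) := by
  classical
  have hinv : ∀ m n, m < 768 → n < 768 → orderOf (D.val m) = 2 →
      IsConj (D.val m) (D.val n) → chiQ m = chiQ n ∧ chiP m = chiP n := by
    intro m n hm hn ho hc
    have ho' : orderOf (D.val n) = 2 := by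
      obtain ⟨g, hg⟩ := isConj_iff.1 hc
      rw [← hg]
      exact ((MulAut.conj g).orderOf_eq _).trans ho
    obtain ⟨m', hm', em, p, hp, hmp⟩ := D.invol_val ho (D.val_comm m hm)
    obtain ⟨n', hn', en, q, hq, hnq⟩ := D.invol_val ho' (D.val_comm n hn)
    obtain rfl := D.val_inj m' m hm' hm em
    obtain rfl := D.val_inj n' n hn' hn en
    obtain ⟨hp1, hp2⟩ := cls_chi p hp
    obtain ⟨hq1, hq2⟩ := cls_chi q hq
    have := D.chi_rep hu hp1 hq1 (((D.cls_conj hp hmp).trans hc).trans (D.cls_conj hq hnq).symm)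
    rw [(hp2 _ hmp).1, (hp2 _ hmp).2, (hq2 _ hnq).1, (hq2 _ hnq).2]
    exact this
  obtain ⟨φ, hφ⟩ := D.exists_extension (f := chiQ) (fun m n hm hn => chiQ_mul hm hn)
    fun m n hm hn ho hc => by rw [(hinv m n hm hn ho hc).1]
  obtain ⟨ψ, hψ⟩ := D.exists_extension (f := chiP) (fun _ _ _ _ => chiP_mul)
    fun m n hm hn ho hc => by rw [(hinv m n hm hn ho hc).2]
  have hb : ∀ m, chiQ m < 2 ∧ chiP m < 2 := fun m =>
    ⟨Nat.mod_lt _ (by norm_num), Nat.mod_lt _ (by norm_num)⟩
  have e24 : φ (D.val 24) = Multiplicative.ofAdd 1 ∧ ψ (D.val 24) = 1 ∧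
      φ (D.val 1) = 1 ∧ ψ (D.val 1) = Multiplicative.ofAdd 1 := by
    rw [hφ 24 (by norm_num), hψ 24 (by norm_num), hφ 1 (by norm_num), hψ 1 (by norm_num)]
    decide +kernel
  have all2 : ∀ a : Multiplicative (ZMod 2), a = 1 ∨ a = Multiplicative.ofAdd 1 := by decide
  have hs1 : Function.Surjective (φ * ψ) := fun a => by
    rcases all2 a with rfl | rfl
    · exact ⟨1, map_one _⟩
    · exact ⟨D.val 24, by rw [MonoidHom.mul_apply, e24.1, e24.2.1, mul_one]⟩
  have hs2 : Function.Surjective (φ.prod ψ) := fun ⟨a, b⟩ => by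
    refine ⟨(if a = 1 then 1 else D.val 24) * (if b = 1 then 1 else D.val 1), ?_⟩
    rcases all2 a with rfl | rfl <;> rcases all2 b with rfl | rfl <;>
      simp [e24.1, e24.2.1, e24.2.2.1, e24.2.2.2]
  refine ⟨⟨(φ * ψ).ker, (φ.prod ψ).ker, inferInstance, inferInstance, ?_, ?_, ?_, ?_, ?_⟩⟩
  · intro g hg
    rw [MonoidHom.mem_ker, MonoidHom.prod_apply, Prod.mk_eq_one] at hg
    rw [MonoidHom.mem_ker, MonoidHom.mul_apply, hg.1, hg.2, one_mul]
  · rw [Subgroup.index_ker, MonoidHom.range_eq_top.2 hs1, Subgroup.card_top]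
    simp [Nat.card_eq_fintype_card]
  · rw [Subgroup.index_ker, MonoidHom.range_eq_top.2 hs2, Subgroup.card_top]
    simp [Nat.card_eq_fintype_card]
  · intro m hm
    rw [MonoidHom.mem_ker, MonoidHom.mul_apply, hφ m hm, hψ m hm]
    obtain ⟨h1, h2⟩ := hb m
    interval_cases chiQ m <;> interval_cases chiP m <;> decide
  · intro m hm
    rw [MonoidHom.mem_ker, MonoidHom.prod_apply, Prod.mk_eq_one, hφ m hm, hψ m hm]
    obtain ⟨h1, h2⟩ := hb m
    interval_cases chiQ m <;> interval_cases chiP m <;> decide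

end Cen

end CfsgLib.L34Cent
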